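import Groth.Agent.L14.Luna.Cor
import Groth.Agent.L14.Luna.RadicalImage
import Groth.Agent.L14.Luna.SemiRank.RootBorel
import Groth.Agent.L08.Borel.General

/-!
# Existence of unipotent radicals and reductive quotients over an algebraically closed field
-/

set_option autoImplicit false
set_option backward.isDefEq.respectTransparency.types false
set_option linter.style.haveILetI false
set_option linter.unusedSectionVars false

universe u

open CategoryTheory CategoryTheory.Limits MonoidalCategory CartesianMonoidalCategory MonObj GrpObj AlgebraicGeometry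
open Groth.L08.Borel Groth.L14.Luna
open Topology TopologicalSpace

noncomputable section

namespace Groth.L25.RedField

variable {k : Type u} [Field k] [IsAlgClosed k]

local notation "U1" => 𝟙_ (Over (Spec (CommRingCat.of k)))
local notation "SK" => Spec (CommRingCat.of k)

/-- Two normal smooth connected subgroups without subtori lie in a common one. -/
theorem exists_normal_sup {G N N' : Over SK} [GrpObj G] [GrpObj N] [GrpObj N'] [IsAffine G.left] [Smooth G.hom]
    [ConnectedSpace G.left] (n : N ⟶ G) [IsMonHom n] [IsClosedImmersion n.left] (hn : AlgGrp.IsNormalHom n)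
    [Smooth N.hom] [ConnectedSpace N.left] (hns : Red.HasNoSubtorus k N)
    (n' : N' ⟶ G) [IsMonHom n'] [IsClosedImmersion n'.left] (hn' : AlgGrp.IsNormalHom n')
    [Smooth N'.hom] [ConnectedSpace N'.left] (hns' : Red.HasNoSubtorus k N') :
    ∃ (M : Over SK) (_ : GrpObj M) (m : M ⟶ G), IsMonHom m ∧ IsClosedImmersion m.left ∧ AlgGrp.IsNormalHom m ∧
      Smooth M.hom ∧ ConnectedSpace M.left ∧ Red.HasNoSubtorus k M ∧
      (∃ f : N ⟶ M, f ≫ m = n) ∧ ∃ f : N' ⟶ M, f ≫ m = n' := by
  haveI : LocallyOfFiniteType G.hom := inferInstance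
  haveI : QuasiCompact G.hom := quasiCompact_of_compactSpace _
  haveI : LocallyOfFiniteType N.hom := inferInstance
  haveI : LocallyOfFiniteType N'.hom := inferInstance
  haveI : IsAffine N.left := isAffine_of_isAffineHom n.left
  haveI : IsAffine N'.left := isAffine_of_isAffineHom n'.left
  haveI : IrreducibleSpace N.left := Groth.L25.ConnIrred.irreducibleSpace N
  haveI : IrreducibleSpace N'.left := Groth.L25.ConnIrred.irreducibleSpace N'
  haveI := Groth.L25.GeomIrred.geometricallyIrreducible_of_isAlgClosed N.hom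
  haveI : IrreducibleSpace (N ⊗ N').left := Groth.L19.AlgGrpBasic.irreducibleSpace_tensor N N'
  haveI : Smooth (N ⊗ N').hom := inferInstanceAs (Smooth (pullback.fst N.hom N'.hom ≫ N.hom))
  let f : N ⊗ N' ⟶ G := (fst N N' ≫ n) * (snd N N' ≫ n')
  obtain ⟨H, gH, j, hj, hjc, hHs, hHc, ⟨f', hf'⟩, hmin⟩ :=
    Groth.L14.Luna.SemiRank.exists_generated_connected f (1 : U1 ⟶ N ⊗ N') (by
      simp only [f, MonObj.comp_mul, ← Category.assoc]
      rw [show (1 : U1 ⟶ N ⊗ N') ≫ fst N N' = 1 from MonObj.one_comp _,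
        show (1 : U1 ⟶ N ⊗ N') ≫ snd N N' = 1 from MonObj.one_comp _, MonObj.one_comp, MonObj.one_comp,
        _root_.one_mul])
  haveI := hj; haveI := hjc; haveI := hHs; haveI := hHc
  have hfN : ∃ g : N ⟶ H, g ≫ j = n := ⟨lift (𝟙 N) 1 ≫ f', by
    rw [Category.assoc, hf']
    simp [f, MonObj.comp_mul, MonObj.one_comp]⟩
  have hfN' : ∃ g : N' ⟶ H, g ≫ j = n' := ⟨lift 1 (𝟙 N') ≫ f', by
    rw [Category.assoc, hf']
    simp [f, MonObj.comp_mul, MonObj.one_comp]⟩
  obtain ⟨T, gT, iT, hT⟩ := exists_maxTorus_gen G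
  haveI := hT.1; haveI := hT.2.1
  -- it lies in the unipotent radicals of the Borel subgroups containing the torus
  have key : ∀ (B : Over SK) [GrpObj B] (iB : B ⟶ G), Red.IsBorelOver k iB →
      ∃ (V : Over SK) (_ : GrpObj V) (v : V ⟶ B) (g : H ⟶ V), Red.HasNoSubtorus k V ∧ (IsMonHom v ∧ Mono v) ∧
        g ≫ v ≫ iB = j := by
    intro B _ iB hB
    haveI := hB.1; haveI := hB.2.1; haveI := hB.2.2.1; haveI := hB.2.2.2.1
    haveI : IsAffine B.left := isAffine_of_isAffineHom iB.left
    haveI : Mono iB := Over.mono_of_mono_left iB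
    obtain ⟨V, gV, v, hV⟩ := exists_unipotentRadical_solvable B hB.2.2.2.2.1
    obtain ⟨hvm, hvc, -, -, -, hvns⟩ := unipotentRadical_data hV
    haveI := hvm; haveI := hvc
    haveI : IsClosedImmersion (v ≫ iB).left := inferInstanceAs (IsClosedImmersion (v.left ≫ iB.left))
    haveI : QuasiCompact N.hom := quasiCompact_of_compactSpace _
    haveI : QuasiCompact N'.hom := quasiCompact_of_compactSpace _
    have inV : ∀ (L : Over SK) [GrpObj L] [Smooth L.hom] [QuasiCompact L.hom] [ConnectedSpace L.left] (l : L ⟶ G)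
        [IsMonHom l] [IsClosedImmersion l.left], AlgGrp.IsNormalHom l → Red.HasNoSubtorus k L →
        ∃ g : L ⟶ V, g ≫ v ≫ iB = l := by
      intro L _ _ _ _ l _ _ hl hls
      haveI : IsAffine L.left := isAffine_of_isAffineHom l.left
      obtain ⟨a, ha⟩ := normal_le_borel l hl hls hB
      haveI : IsMonHom a := isMonHom_of_comp_mono a iB l ha
      haveI : IsClosedImmersion (a.left ≫ iB.left) := by rw [← Over.comp_left, ha]; infer_instance
      haveI : IsClosedImmersion a.left := IsClosedImmersion.of_comp a.left iB.left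
      obtain ⟨g, hg⟩ := exists_factor_unipotentRadical hV a (fun X x y => by
        obtain ⟨y', hy'⟩ := hl X (x ≫ iB) y
        refine ⟨y', (cancel_mono iB).1 ?_⟩
        rw [MonObj.mul_comp, MonObj.mul_comp, GrpObj.inv_comp, Category.assoc, ha, Category.assoc, ha, hy'])
        ‹_› hls
      exact ⟨g, by rw [← Category.assoc, hg, ha]⟩
    obtain ⟨g₁, hg₁⟩ := inV N n hn hns
    obtain ⟨g₂, hg₂⟩ := inV N' n' hn' hns'
    obtain ⟨g, hg⟩ := hmin V gV (v ≫ iB) inferInstance inferInstance
      ⟨(fst N N' ≫ g₁) * (snd N N' ≫ g₂), by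
        rw [MonObj.mul_comp, Category.assoc, Category.assoc, hg₁, hg₂]⟩
    exact ⟨V, gV, v, g, hvns, ⟨hvm, Over.mono_of_mono_left v⟩, hg⟩
  have hHns : Red.HasNoSubtorus k H := by
    obtain ⟨B, gB, iB, hB⟩ := exists_borel G
    obtain ⟨V, gV, v, g, hvns, hvm, hg⟩ := key B iB hB
    haveI := hvm.1; haveI := hvm.2; haveI := hB.1; haveI := hB.2.1
    haveI : Mono iB := Over.mono_of_mono_left iB
    haveI : Mono j := Over.mono_of_mono_left j
    haveI : Mono g := by
      haveI : Mono (g ≫ v ≫ iB) := hg.symm ▸ inferInstance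
      exact mono_of_mono g (v ≫ iB)
    haveI : IsMonHom g := isMonHom_of_comp_mono g (v ≫ iB) j hg
    exact hasNoSubtorus_of_mono g hvns
  obtain ⟨M, gM, m, hm, hmc, hMs, hMc, hMn, hMns, f₁, hf₁⟩ := exists_normal hT j hHns fun B _ iB t hB _ => by
    obtain ⟨V, gV, v, g, -, -, hg⟩ := key B iB hB
    exact ⟨g ≫ v, by rw [Category.assoc, hg]⟩
  obtain ⟨g₁, hg₁⟩ := hfN
  obtain ⟨g₂, hg₂⟩ := hfN'
  exact ⟨M, gM, m, hm, hmc, hMn, hMs, hMc, hMns, ⟨g₁ ≫ f₁, by rw [Category.assoc, hf₁, hg₁]⟩,
    ⟨g₂ ≫ f₁, by rw [Category.assoc, hf₁, hg₂]⟩⟩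

/-- **A connected affine group over an algebraically closed field has a unipotent radical.** -/
theorem exists_unipotentRadical (G : Over SK) [GrpObj G] [IsAffine G.left] [Smooth G.hom] [ConnectedSpace G.left] :
    ∃ (U : Over SK) (_ : GrpObj U) (u : U ⟶ G), Par.IsUnipotentRadical u := by
  classical
  haveI : LocallyOfFiniteType G.hom := inferInstance
  obtain ⟨N, hN⟩ := Groth.L19.AlgGrpBasic.exists_dim_bound G.hom
  let P : ℕ → Prop := fun n => ∃ (B : Over SK) (_ : GrpObj B) (b : B ⟶ G),
    (IsMonHom b ∧ IsClosedImmersion b.left ∧ AlgGrp.IsNormalHom b ∧ Smooth B.hom ∧ ConnectedSpace B.left ∧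
      Red.HasNoSubtorus k B) ∧ ∃ e : B.left, closure ({e} : Set B.left) = Set.univ ∧
        topologicalKrullDim (closure ({b.left e} : Set G.left)) = (n : WithBot ℕ∞)
  have gen : ∀ (B : Over SK) [GrpObj B] (b : B ⟶ G), Smooth B.hom → ConnectedSpace B.left →
      ∃ (n : ℕ) (e : B.left), closure ({e} : Set B.left) = Set.univ ∧
        topologicalKrullDim (closure ({b.left e} : Set G.left)) = (n : WithBot ℕ∞) := by
    intro B _ b hs hc
    haveI := hs; haveI := hc
    haveI : LocallyOfFiniteType B.hom := inferInstance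
    haveI : IsLocallyNoetherian B.left := LocallyOfFiniteType.isLocallyNoetherian B.hom
    haveI : IrreducibleSpace B.left := Groth.L25.Component.irreducibleSpace B
    obtain ⟨n, hn⟩ := dim_nat_closure (b.left (genericPoint B.left))
    exact ⟨n, _, (genericPoint_spec _).def, hn⟩
  have hbound : ∀ n, P n → n ≤ N := fun n ⟨B, _, b, _, e, _, hn⟩ => by
    have h := hn ▸ (topologicalKrullDim_subspace_le G.left (closure ({b.left e} : Set G.left))).trans hN
    exact_mod_cast h
  -- the trivial subgroup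
  haveI := Groth.L08.AbelianGrp.isClosedImmersion_one G
  haveI : Smooth (U1).hom := inferInstanceAs (Smooth (𝟙 (Spec (CommRingCat.of k))))
  haveI : ConnectedSpace (U1).left := inferInstanceAs (ConnectedSpace (PrimeSpectrum k))
  haveI : IsMonHom (η[G] : U1 ⟶ G) := by infer_instance
  have h1n : AlgGrp.IsNormalHom (η[G] : U1 ⟶ G) := fun X x y => ⟨y, by
    rw [toUnit_unique y (toUnit X), ← Hom.one_def, _root_.mul_one, mul_inv_cancel]⟩
  have h1s : Red.HasNoSubtorus k U1 := fun T _ j _ _ _ => isTrivialGrp_of_id_eq_one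
    ((cancel_mono j).1 (toUnit_unique _ _))
  obtain ⟨n₀, e₀, he₀, hn₀⟩ := gen U1 η[G] inferInstance inferInstance
  have hP : P n₀ := ⟨U1, inferInstance, η[G], ⟨‹_›, ‹_›, h1n, inferInstance, inferInstance, h1s⟩, e₀, he₀, hn₀⟩
  obtain ⟨B, gB, b, ⟨hm, hc, hbn, hs, hcon, hns⟩, e, he, hn⟩ := Nat.findGreatest_spec (hbound _ hP) hP
  haveI := hm; haveI := hc; haveI := hs; haveI := hcon
  haveI : IsAffine B.left := isAffine_of_isAffineHom b.left
  haveI : QuasiCompact B.hom := quasiCompact_of_compactSpace _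
  refine ⟨B, gB, b, isUnipotentRadical_of b hbn hcon hns fun U' _ u' _ huc hun hus huq huconn huns => ?_⟩
  haveI := huc; haveI := hus; haveI := huconn
  obtain ⟨M, gM, m, hmm, hmc, hmn, hMs, hMc, hMns, ⟨g, hg⟩, ⟨g', hg'⟩⟩ :=
    exists_normal_sup b hbn hns u' hun huns
  haveI := hmm; haveI := hmc; haveI := hMs; haveI := hMc
  obtain ⟨n', e', he', hn'⟩ := gen M m hMs hMc
  have hle : n' ≤ Nat.findGreatest P N := Nat.le_findGreatest (hbound _ ?_) ?_
  rotate_left
  · exact ⟨M, gM, m, ⟨hmm, hmc, hmn, hMs, hMc, hMns⟩, e', he', hn'⟩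
  · exact ⟨M, gM, m, ⟨hmm, hmc, hmn, hMs, hMc, hMns⟩, e', he', hn'⟩
  have hsp : m.left e' ⤳ b.left e := by
    rw [← hg, Over.comp_left, Scheme.Hom.comp_apply]
    exact Specializes.map (specializes_iff_mem_closure.2 (by rw [he']; trivial)) m.left.continuous
  have hsp' : b.left e ⤳ m.left e' := by
    by_contra hne
    have h5 := Groth.L22.FibreIrr.dim_lt_of_specializes hsp hne
    rw [hn, hn'] at h5
    have : Nat.findGreatest P N + 1 ≤ n' := by exact_mod_cast h5
    omega
  haveI : IsClosedImmersion (g.left ≫ m.left) := by rw [← Over.comp_left, hg]; exact hc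
  haveI : IsClosedImmersion g.left := IsClosedImmersion.of_comp g.left m.left
  haveI : Surjective g.left := ⟨fun x => by
    have hx : e' ⤳ x := specializes_iff_mem_closure.2 (by rw [he']; trivial)
    have h1 : m.left e' ∈ Set.range b.left := hsp'.mem_closed b.left.isClosedEmbedding.isClosed_range ⟨e, rfl⟩
    obtain ⟨y, hy⟩ := h1
    have h2 : g.left y = e' := m.left.isClosedEmbedding.injective (by
      rw [← hy, ← hg, Over.comp_left, Scheme.Hom.comp_apply])
    exact Set.mem_range.1 (hx.mem_closed g.left.isClosedEmbedding.isClosed_range ⟨y, h2⟩)⟩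
  haveI : IsReduced M.left := Groth.Agent.AV.isReduced_of_smooth_field M.hom
  haveI : IsIso g.left := isIso_of_isClosedImmersion_of_surjective g.left
  haveI : IsIso ((Over.forget _).map g) := ‹_›
  haveI := isIso_of_reflects_iso g (Over.forget _)
  exact ⟨g' ≫ inv g, by rw [Category.assoc, ← hg, IsIso.inv_hom_id_assoc, hg']⟩

/-- **A quotient of a reductive group is reductive.** -/
theorem isReductiveOver_of_surjective {G H : Over SK} [GrpObj G] [GrpObj H] (hG : Red.IsReductiveOver k G)
    [IsAffine H.left] [Smooth H.hom] [ConnectedSpace H.left] (π : G ⟶ H) [IsMonHom π] [Surjective π.left] :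
    Red.IsReductiveOver k H := by
  haveI := hG.1; haveI := hG.2.1; haveI := hG.2.2.1
  refine ⟨inferInstance, inferInstance, inferInstance, fun N _ n _ hnc hNs hNc hnn hns => ?_⟩
  haveI := hnc; haveI := hNs; haveI := hNc
  haveI : IsAffine N.left := isAffine_of_isAffineHom n.left
  haveI : QuasiCompact N.hom := quasiCompact_of_compactSpace _
  obtain ⟨U, gU, u, hU⟩ := exists_unipotentRadical G
  obtain ⟨U', gU', u', hU'⟩ := exists_unipotentRadical H
  obtain ⟨hum, huc, hun, hus, hucon, huns⟩ := unipotentRadical_data hU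
  haveI := hum; haveI := huc; haveI := hus; haveI := hucon
  obtain ⟨hum', huc', -, hus', hucon', -⟩ := unipotentRadical_data hU'
  haveI := hum'; haveI := huc'; haveI := hus'; haveI := hucon'
  haveI : Mono u' := Over.mono_of_mono_left u'
  obtain ⟨f, hf, hfs⟩ := exists_surjective_radicals π hU hU'
  haveI := hfs
  have hid : 𝟙 U = 1 := id_eq_one_of_isTrivialGrp (hG.2.2.2 U u huc hus hucon hun huns)
  have hu1 : u ≫ π = 1 := by rw [← Category.id_comp u, hid, MonObj.one_comp, MonObj.one_comp]
  haveI : IsSeparated U'.hom := Groth.L08.AbelianGrp.isSeparated U'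
  haveI : IsReduced U'.left := Groth.Agent.AV.isReduced_of_smooth_field U'.hom
  have hf1 : f = 1 := by rw [← cancel_mono u', hf, hu1, MonObj.one_comp]
  have hU'1 : 𝟙 U' = 1 := Over.OverMorphism.ext (ext_of_isDominant_of_isSeparated U'.hom (by rw [Over.w, Over.w])
    f.left (congrArg CommaMorphism.left (show f ≫ 𝟙 U' = f ≫ 1 from by
      rw [Category.comp_id, MonObj.comp_one, hf1])))
  obtain ⟨g, hg⟩ := exists_factor_unipotentRadical hU' n hnn hNc hns
  refine isTrivialGrp_of_id_eq_one ?_
  haveI : Mono n := Over.mono_of_mono_left n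
  rw [← cancel_mono n, Category.id_comp, MonObj.one_comp, ← hg, ← Category.comp_id g, hU'1, MonObj.comp_one,
    MonObj.one_comp]

end Groth.L25.RedField
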