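import Groth.Agent.L25.RedField.Radical
import Groth.Agent.L08.Borel.Geom

/-!
# Normal connected solvable subgroups of reductive groups over a field
-/

set_option autoImplicit false
set_option backward.isDefEq.respectTransparency.types false
set_option linter.style.haveILetI false
set_option linter.unusedSectionVars false

universe u

open CategoryTheory CategoryTheory.Limits MonoidalCategory CartesianMonoidalCategory MonObj GrpObj AlgebraicGeometry
open Groth.L08.Borel

noncomputable section

namespace Groth.L25.RedField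

variable {k : Type u} [Field k]

local notation "U1" => 𝟙_ (Over (Spec (CommRingCat.of k)))
local notation "SK" => Spec (CommRingCat.of k)

/-- morphisms out of a smooth scheme over a field are tested on a geometric fibre -/
theorem eq_of_geomFibre {Y H : Over SK} [GrpObj H] [Smooth Y.hom] (s : ↥SK) (f g : Y ⟶ H)
    (h : (Over.pullback (Red.geomPt s)).map f = (Over.pullback (Red.geomPt s)).map g) : f = g := by
  haveI := Groth.L08.AbelianGrp.isSeparated H
  haveI : IsReduced Y.left := Groth.Agent.AV.isReduced_of_smooth_field (k := k) Y.hom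
  have h2 := congrArg (fun m => m.left ≫ pullback.fst _ _) h
  simp only [Over.pullback_map_left, pullback.lift_fst] at h2
  haveI : Surjective (pullback.fst Y.hom (Red.geomPt s)) := surjective_fst_bc (Red.geomPt s) Y
  exact Over.OverMorphism.ext (ext_of_isDominant_of_isSeparated H.hom (by rw [Over.w, Over.w])
    (pullback.fst Y.hom (Red.geomPt s)) h2)

/-- a group over a field is trivial if its geometric fibre is -/
theorem isTrivialGrp_of_geomFibre {H : Over SK} [GrpObj H] [Smooth H.hom] (s : ↥SK)
    (h : Red.IsTrivialGrp (Red.geomFibre s H)) : Red.IsTrivialGrp H := by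
  have h1 : 𝟙 H = 1 := eq_of_geomFibre s _ _ (by
    rw [show (Over.pullback (Red.geomPt s)).map (1 : H ⟶ H) = 1 from
      map_one ((Over.pullback (Red.geomPt s)).homMonoidHom), CategoryTheory.Functor.map_id]
    exact Groth.L14.Luna.id_eq_one_of_isTrivialGrp h)
  haveI : IsIso (toUnit H) := ⟨(1 : U1 ⟶ H), by rw [MonObj.comp_one, ← h1], toUnit_unique _ _⟩
  exact (inferInstance : IsIso ((Over.forget _).map (toUnit H)))

/-- points of two homomorphisms commute if they do on a geometric fibre -/
theorem comm_of_geomFibre {B G : Over SK} [GrpObj B] [GrpObj G] [Smooth B.hom] [Smooth G.hom] (s : ↥SK) (i : B ⟶ G)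
    (h : ∀ (X : Over (Spec (CommRingCat.of (AlgebraicClosure ((SK).residueField s))))) (t : X ⟶ Red.geomFibre s B)
      (g : X ⟶ Red.geomFibre s G), (t ≫ (Over.pullback (Red.geomPt s)).map i) * g =
        g * (t ≫ (Over.pullback (Red.geomPt s)).map i))
    (X : Over SK) (t : X ⟶ B) (g : X ⟶ G) : (t ≫ i) * g = g * (t ≫ i) := by
  haveI : Smooth (B ⊗ G).hom := inferInstanceAs (Smooth (pullback.fst B.hom G.hom ≫ B.hom))
  have key : ((fst B G ≫ i) * snd B G : B ⊗ G ⟶ G) = snd B G * (fst B G ≫ i) := eq_of_geomFibre s _ _ (by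
    rw [CategoryTheory.Functor.map_mul, CategoryTheory.Functor.map_mul, Functor.map_comp]
    exact h _ _ _)
  have e := lift t g ≫= key
  rwa [MonObj.comp_mul, MonObj.comp_mul, lift_fst_assoc, lift_snd] at e

/-- being a torus over a field is tested on a geometric fibre -/
theorem isTorus_of_geomFibre {T : Over SK} [GrpObj T] (s : ↥SK) (h : Red.IsTorus (Red.geomFibre s T)) :
    Red.IsTorus T := by
  obtain ⟨hs, hfl, hq⟩ := bc_props_field (Red.geomPt s)
  refine isTorus_descend (Red.geomPt s) (fun V _ => ?_) h
  haveI : Subsingleton ↥SK := inferInstanceAs (Subsingleton (PrimeSpectrum k))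
  rcases Set.eq_empty_or_nonempty (SetLike.coe V) with he | ⟨z, hz⟩
  · exact ⟨⊥, isCompact_empty, by simp [he]⟩
  · refine ⟨⊤, isCompact_univ, Set.eq_of_subset_of_subset (fun y _ => ?_) fun y _ => ?_⟩
    · rwa [Subsingleton.elim y z]
    · obtain ⟨x, rfl⟩ := (Red.geomPt s).surjective y
      exact ⟨x, trivial, rfl⟩

/-- **Normal connected solvable smooth subgroups of a reductive group over a field are central tori.** -/
theorem normal_solvable_central_torus_field {G B : Over SK} [GrpObj G] [GrpObj B] (hG : Red.IsReductive G)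
    (i : B ⟶ G) [IsMonHom i] [IsClosedImmersion i.left] (hi : AlgGrp.IsNormalHom i)
    [Smooth B.hom] [ConnectedSpace B.left] (hsol : Red.IsSolvableGrp B) :
    Red.IsTorus B ∧ ∀ (X : Over SK) (t : X ⟶ B) (g : X ⟶ G), (t ≫ i) * g = g * (t ≫ i) := by
  haveI := hG.2.1
  obtain ⟨s⟩ : Nonempty ↥SK := inferInstance
  haveI : IsMonHom ((Over.pullback (Red.geomPt s)).map i) := Groth.L25.MonoClosed.isMonHom_pullbackMap _ _
  haveI := isClosedImmersion_map (Red.geomPt s) i
  haveI : Smooth (Red.geomFibre s B).hom := smooth_bc (Red.geomPt s) B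
  haveI : ConnectedSpace (Red.geomFibre s B).left := connectedSpace_bc' (Red.geomPt s) B
  obtain ⟨hT, hc⟩ := normal_solvable_central_torus (hG.2.2 s) ((Over.pullback (Red.geomPt s)).map i)
    (Groth.L25.GenWords.isNormalHom_bc (Red.geomPt s) i hi) (isSolvableGrp_bc (Red.geomPt s) hsol)
  exact ⟨isTorus_of_geomFibre s hT, comm_of_geomFibre s i hc⟩

/-- commutative groups are solvable -/
theorem isSolvableGrp_of_comm {S : Scheme.{u}} (H : Over S) [GrpObj H] [IsCommMonObj H] : Red.IsSolvableGrp H := by
  refine ⟨1, fun X => ?_⟩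
  rw [derivedSeries_one, commutator_def, Subgroup.commutator_eq_bot_iff_le_centralizer]
  intro x _
  exact Subgroup.mem_centralizer_iff.2 fun y _ => mul_comm y x

end Groth.L25.RedField
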