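import Groth.Agent.L25.RedField.RadicalDescent
import Groth.Agent.L25.SplitSub.ImageMult
import Groth.Agent.L25.MaxTorus.Image
import Groth.Agent.L18.GIT.TorusChars
import Groth.Agent.S14754
import Groth.Agent.L08.Borel.DimTorus

/-!
# The greatest subtorus of a group of multiplicative type over a field, compatible with algebraic closure
-/

set_option autoImplicit false
set_option backward.isDefEq.respectTransparency.types false
set_option linter.style.haveILetI false
set_option linter.unusedSectionVars false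

universe u

open CategoryTheory CategoryTheory.Limits MonoidalCategory CartesianMonoidalCategory MonObj GrpObj AlgebraicGeometry
open Groth.L08.Borel

noncomputable section

namespace Groth.L25.RedField

variable {k : Type u} [Field k]

local notation "SK" => Spec (CommRingCat.of k)

/-- Groups of multiplicative type over an algebraically closed field are diagonalisable. -/
theorem exists_split_mult [IsAlgClosed k] (T : Over SK) [GrpObj T] (hT : SGA3x.IsMultTypeFT T) :
    ∃ (M : Type) (_ : AddCommGroup M), AddGroup.FG M ∧ Nonempty (Grp.mk T ≅ Grp.mk (Red.DS SK M)) := by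
  obtain ⟨S', f, hf, ⟨s', -⟩, M, _, hM, ⟨e⟩⟩ :=
    Groth.L25.Extend.exists_etale_split hT (IsLocalRing.closedPoint k)
  have : JacobsonSpace S' := LocallyOfFiniteType.jacobsonSpace f
  obtain ⟨x, -, hx⟩ := nonempty_inter_closedPoints (X := S') (Z := Set.univ) ⟨s', trivial⟩ isOpen_univ.isLocallyClosed
  let σ := pointOfClosedPoint f x hx
  have hσ : σ ≫ f = 𝟙 SK := pointOfClosedPoint_comp f x hx
  refine ⟨M, inferInstance, hM, ⟨?_⟩⟩
  exact (Functor.mapGrpIdIso.app (Grp.mk T)).symm ≪≫
    (Functor.mapGrpNatIso (Over.pullbackId (X := SK)).symm).app (Grp.mk T) ≪≫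
    (Grp.mkIso' (ActBC.bcCompIso σ f T hσ)).symm ≪≫
    (Over.pullback σ).mapGrp.mapIso e ≪≫
    Grp.mkIso' (ActBC.bcCompIso σ (Limits.IsTerminal.from specULiftZIsTerminal S') (Red.diag (ULift.{u} ℤ) M)
      (specULiftZIsTerminal.hom_ext _ _))

/-- Split tori are tori. -/
theorem isTorus_split (S : Scheme.{u}) (r : ℕ) : Red.IsTorus (Red.DS S (Fin r → ℤ)) := by
  refine ⟨S, 𝟙 S, inferInstance, inferInstance, fun V hV => ⟨V, hV.isCompact, by simp⟩, fun s => ⟨⊤, trivial, r, ?_⟩⟩
  exact ⟨Grp.mkIso' (Groth.L25.SplitSub.bcDS _)⟩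

/-- A finitely generated abelian group modulo torsion. -/
theorem exists_free_quotient (M : Type) [AddCommGroup M] (hM : AddGroup.FG M) :
    ∃ (r : ℕ) (π : M →+ (Fin r → ℤ)) (ψ : (Fin r → ℤ) →+ M) (n : ℕ), 0 < n ∧ Function.Surjective π ∧
      Function.Injective ψ ∧ ψ.comp π = n • AddMonoidHom.id M ∧ ∀ x, π x = 0 → n • x = 0 := by
  classical
  haveI : Module.Finite ℤ M := Module.Finite.iff_addGroup_fg.2 hM
  let Q := M ⧸ Submodule.torsion ℤ M
  haveI : Module.Finite ℤ Q := inferInstance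
  haveI : Module.Free ℤ Q := inferInstance
  let b := Module.finBasis ℤ Q
  let π : M →ₗ[ℤ] (Fin (Module.finrank ℤ Q) → ℤ) := b.equivFun.toLinearMap ∘ₗ (Submodule.torsion ℤ M).mkQ
  have hπ : Function.Surjective π := b.equivFun.surjective.comp (Submodule.mkQ_surjective _)
  haveI : Finite (Submodule.torsion ℤ M) := Module.finite_of_fg_torsion _ (Submodule.torsion_isTorsion)
  let n := Nat.card (Submodule.torsion ℤ M)
  have hker : ∀ x, π x = 0 → n • x = 0 := by
    intro x hx
    have hx' : x ∈ Submodule.torsion ℤ M := by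
      exact (Submodule.Quotient.mk_eq_zero _).1 (b.equivFun.map_eq_zero_iff.1 hx)
    exact congrArg Subtype.val (card_nsmul_eq_zero' (x := (⟨x, hx'⟩ : Submodule.torsion ℤ M)))
  obtain ⟨g, hg⟩ := Module.projective_lifting_property π LinearMap.id hπ
  refine ⟨_, π.toAddMonoidHom, (n • g).toAddMonoidHom, n, Nat.card_pos, hπ, fun y y' h => ?_,
    AddMonoidHom.ext fun x => ?_, hker⟩
  · have h' := congrArg π h
    simp only [LinearMap.toAddMonoidHom_coe, LinearMap.smul_apply, map_nsmul] at h'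
    rw [show π (g y) = y from DFunLike.congr_fun hg y, show π (g y') = y' from DFunLike.congr_fun hg y'] at h'
    exact smul_right_injective _ (Nat.card_pos (α := Submodule.torsion ℤ M)).ne' h'
  · have h := hker (g (π x) - x) (by rw [map_sub, show π (g (π x)) = π x from DFunLike.congr_fun hg _, sub_self])
    rw [nsmul_sub, sub_eq_zero] at h
    simpa using h

/-- Homomorphisms from a torus to a diagonalisable group over an algebraically closed field. -/
theorem factor_torus [IsAlgClosed k] {M : Type} [AddCommGroup M] (hM : AddGroup.FG M) {r : ℕ} (π : M →+ (Fin r → ℤ))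
    (hπ : Function.Surjective π) {n : ℕ} (hn : 0 < n) (hker : ∀ x, π x = 0 → n • x = 0) {S : Over SK} [GrpObj S]
    (hS : Red.IsTorus S) (u : S ⟶ Red.DS SK M) [IsMonHom u] : ∃ w, w ≫ Red.DSmap SK π = u := by
  obtain ⟨m, ⟨eT⟩⟩ := exists_split_rank hS
  let e : S ⟶ Red.DS SK (Fin m → ℤ) := eT.hom.hom.hom
  let ei : Red.DS SK (Fin m → ℤ) ⟶ S := eT.inv.hom.hom
  have hee : e ≫ ei = 𝟙 S := congrArg (fun f => f.hom.hom) eT.hom_inv_id
  haveI : IsMonHom ei := eT.inv.hom.isMonHom_hom
  haveI : IsMonHom (ei ≫ u) := inferInstance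
  haveI : Monoid.FG (Multiplicative M) := AddMonoid.fg_iff_mul_fg.1 (AddGroup.fg_iff_addMonoid_fg.1 hM)
  obtain ⟨φ, hφ⟩ := Groth.Agent.S14754.exists_DSmap (k := k) (ei ≫ u)
  have hk : π.ker ≤ φ.ker := fun x hx => by
    have h := congrArg φ (hker x hx)
    rw [map_nsmul, map_zero] at h
    exact (smul_eq_zero.1 h).resolve_left hn.ne'
  refine ⟨e ≫ Red.DSmap SK (π.liftOfSurjective hπ ⟨φ, hk⟩), ?_⟩
  rw [Category.assoc, Groth.L25.TorusTorsion.DSmap_comp, AddMonoidHom.liftOfRightInverse_comp, ← hφ,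
    reassoc_of% hee]

/-- **The greatest subtorus of a group of multiplicative type over a field stays greatest over an algebraic
closure.** -/
theorem exists_greatest_subtorus {Z : Over SK} [GrpObj Z] (hZ : SGA3x.IsMultTypeFT Z) [IsAffine Z.left]
    [LocallyOfFiniteType Z.hom] :
    ∃ (C : Over SK) (_ : GrpObj C) (j : C ⟶ Z), IsMonHom j ∧ IsClosedImmersion j.left ∧ Red.IsTorus C ∧
      ∀ (s : ↥SK) (S : Over (Spec (CommRingCat.of (AlgebraicClosure ((SK).residueField s))))) [GrpObj S]
        (v : S ⟶ Red.geomFibre s Z) [IsMonHom v], Red.IsTorus S →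
        ∃ w, w ≫ (Over.pullback (Red.geomPt s)).map j = v := by
  obtain ⟨s₀⟩ : Nonempty ↥SK := inferInstance
  let θ := Red.geomPt s₀
  obtain ⟨M, gM, hM, ⟨eM⟩⟩ := exists_split_mult (Red.geomFibre s₀ Z) (Groth.L25.MultTypeBC.isMultTypeFT_bc hZ θ)
  obtain ⟨r, π, ψ, n, hn, hπ, hψ, hψπ, hker⟩ := exists_free_quotient M hM
  haveI : QuasiCompact Z.hom := quasiCompact_of_compactSpace _
  haveI : LocallyOfFinitePresentation Z.hom := inferInstance
  haveI : IsMonHom ((𝟙 Z) ^ n : Z ⟶ Z) := Groth.L25.Bridge.isMonHom_of_mul _ fun X a b => by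
    rw [MonObj.comp_pow, MonObj.comp_pow, MonObj.comp_pow, Category.comp_id, Category.comp_id, Category.comp_id]
    exact Commute.mul_pow (Groth.L25.Central.mul_comm_of_multTypeFT hZ a b) n
  have hloc : TwC.Locally SK TwC.Topology.fpqc (fun S' g => ∃ (M : Type) (_ : AddCommGroup M),
      Nonempty (Grp.mk (Red.bc g Z) ≅ Grp.mk (Red.DS S' M))) := by
    obtain ⟨S', f, h1, h2, h3, h4⟩ := hZ
    refine ⟨S', f, h1, h2, h3, fun s' => ?_⟩
    obtain ⟨U, hU, N, gN, -, e⟩ := h4 s'
    exact ⟨U, hU, N, gN, e⟩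
  obtain ⟨C, gC, j, hj, q, hq, hjc, hCm, hqf, hqs, hqj⟩ :=
    Groth.L25.SplitSub.exists_image_of_locally hloc ((𝟙 Z) ^ n : Z ⟶ Z)
  haveI := hj; haveI := hjc; haveI := hq; haveI := hqf; haveI := hqs
  haveI : IsMonHom ((Over.pullback θ).map j) := Groth.L25.MonoClosed.isMonHom_pullbackMap _ _
  haveI := isClosedImmersion_map θ j
  let e : Red.geomFibre s₀ Z ⟶ Red.DS _ M := eM.hom.hom.hom
  let ei : Red.DS _ M ⟶ Red.geomFibre s₀ Z := eM.inv.hom.hom
  have hee : e ≫ ei = 𝟙 _ := congrArg (fun f => f.hom.hom) eM.hom_inv_id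
  have hee' : ei ≫ e = 𝟙 _ := congrArg (fun f => f.hom.hom) eM.inv_hom_id
  haveI : IsMonHom e := eM.hom.hom.isMonHom_hom
  haveI : IsMonHom ei := eM.inv.hom.isMonHom_hom
  haveI : IsIso ei := ⟨e, hee', hee⟩
  haveI : IsIso e := ⟨ei, hee, hee'⟩
  haveI : IsIso e.left := inferInstanceAs (IsIso ((Over.forget _).map e))
  haveI : IsIso ei.left := inferInstanceAs (IsIso ((Over.forget _).map ei))
  haveI : Module.Finite ℤ M := Module.Finite.iff_addGroup_fg.2 hM
  haveI : Mono (Red.DSmap (Spec (CommRingCat.of (AlgebraicClosure ((SK).residueField s₀)))) π) :=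
    Groth.L25.SplitSub.mono_DSmap π hπ
  haveI : IsAffineHom (Red.DS (Spec (CommRingCat.of (AlgebraicClosure ((SK).residueField s₀)))) M).hom :=
    Groth.L25.Central.isAffineHom_of_multTypeFT (Groth.L25.SplitSub.isMultTypeFT_DS _ _ hM)
  haveI : LocallyOfFiniteType (Red.geomFibre s₀ Z).hom :=
    MorphismProperty.pullback_snd Z.hom θ ‹LocallyOfFiniteType Z.hom›
  haveI : LocallyOfFiniteType (Red.DS (Spec (CommRingCat.of (AlgebraicClosure ((SK).residueField s₀)))) M).hom := by
    rw [← Over.w ei]; infer_instance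
  haveI : IsClosedImmersion (Red.DSmap (Spec (CommRingCat.of (AlgebraicClosure ((SK).residueField s₀)))) π).left :=
    Groth.L25.MonoClosed.isClosedImmersion_DS _
  let iL := Red.DSmap (Spec (CommRingCat.of (AlgebraicClosure ((SK).residueField s₀)))) π ≫ ei
  let pL := e ≫ Red.DSmap (Spec (CommRingCat.of (AlgebraicClosure ((SK).residueField s₀)))) ψ
  haveI : IsClosedImmersion iL.left := inferInstanceAs (IsClosedImmersion (_ ≫ ei.left))
  obtain ⟨hψf, hψs, -⟩ := Groth.L25.SplitSub.DSmap_cover (S := Spec (CommRingCat.of (AlgebraicClosure ((SK).residueField s₀)))) ψ hψ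
  have hpf : Flat pL.left := by
    haveI := hψf
    exact inferInstanceAs (Flat (e.left ≫ _))
  have hps : Surjective pL.left := by
    haveI := hψs
    exact inferInstanceAs (Surjective (e.left ≫ _))
  have hqf' : Flat ((Over.pullback θ).map q).left :=
    MorphismProperty.of_isPullback (P := @Flat) (isPullback_bc_map' θ q).flip hqf
  have hfac : (Over.pullback θ).map q ≫ (Over.pullback θ).map j = pL ≫ iL := by
    rw [← Functor.map_comp, hqj]
    simp only [pL, iL, Category.assoc]
    rw [← Category.assoc (Red.DSmap _ ψ), Groth.L25.TorusTorsion.DSmap_comp, hψπ,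
      ← Category.assoc e, Groth.L25.MaxTorus.DSmap_nsmul, MonObj.pow_comp, hee]
    exact (map_pow ((Over.pullback θ).homMonoidHom) (𝟙 Z) n).trans (congrArg (· ^ n) ((Over.pullback θ).map_id Z))
  obtain ⟨ε, hε, -⟩ := Groth.L25.SplitSub.exists_iso_of_images ((Over.pullback θ).map q) pL hqf'
    (surjective_map θ q) hpf hps hfac
  haveI : IsMonHom ε.hom := by
    haveI : Mono iL := Over.mono_of_mono_left iL
    haveI : IsMonHom iL := inferInstance
    exact isMonHom_of_comp_mono ε.hom iL _ hε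
  have hC : Red.IsTorus C := isTorus_of_geomFibre s₀
    (Groth.L25.TorLift.isTorus_of_iso (Grp.mkIso' ε).symm (isTorus_split _ r))
  refine ⟨C, gC, j, hj, hjc, hC, fun s S _ v _ hS => ?_⟩
  haveI : Subsingleton ↥SK := inferInstanceAs (Subsingleton (PrimeSpectrum k))
  obtain rfl : s = s₀ := Subsingleton.elim _ _
  obtain ⟨w, hw⟩ := factor_torus hM π hπ hn hker hS (v ≫ e)
  refine ⟨w ≫ ε.inv, ?_⟩
  rw [Category.assoc, ← hε, Iso.inv_hom_id_assoc]
  simp only [iL]
  rw [reassoc_of% hw, hee, Category.comp_id]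

end Groth.L25.RedField
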