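import Groth.Agent.L25.RedField.Chars
import Groth.Agent.S2989
import Groth.Agent.S3278
import Groth.Agent.L25.LargestMult.Scheme
import Groth.Agent.L25.LargestMult.Indep
import Groth.Agent.L08.CharSurj

/-!
# Semisimple groups over an algebraically closed field are perfect
-/

set_option autoImplicit false
set_option backward.isDefEq.respectTransparency.types false
set_option linter.style.haveILetI false
set_option linter.unusedSectionVars false

universe u

open CategoryTheory CategoryTheory.Limits MonoidalCategory CartesianMonoidalCategory MonObj GrpObj AlgebraicGeometry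
open WithConv
open Groth.L25.Bridge (P)
open Groth.L08.TorusQuot (sp sp_comp exists_sp toPt)
open Groth.L08.CentralGm (LZ T)

noncomputable section

namespace Groth.L25.RedField

variable {k : Type u} [Field k]

local notation "SK" => Spec (CommRingCat.of k)

theorem isMonHom_one {X Y : Over SK} [GrpObj X] [GrpObj Y] : IsMonHom (1 : X ⟶ Y) :=
  { one_hom := MonObj.comp_one η[X], mul_hom := by
      rw [MonObj.comp_one, ← lift_fst_comp_snd_comp, ← Hom.mul_def, MonObj.comp_one, MonObj.comp_one,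
        _root_.mul_one] }

/-- The kernel of a homomorphism is normal. -/
theorem isNormalHom_of_isKernel {G H K : Over SK} [GrpObj G] [GrpObj H] [GrpObj K] {i : K ⟶ G} {f : G ⟶ H}
    [IsMonHom f] (hk : AlgGrp.IsKernel i f) : AlgGrp.IsNormalHom i := by
  intro X g n
  have h1 : (n ≫ i) ≫ f = 1 := by
    rw [Category.assoc, hk.w, ← Category.assoc, toUnit_unique (n ≫ toUnit K) (toUnit X), ← Hom.one_def]
  obtain ⟨z, hz, -⟩ := hk.exists_lift (g * (n ≫ i) * g⁻¹) (toUnit X) (by
    rw [MonObj.mul_comp, MonObj.mul_comp, GrpObj.inv_comp, h1, _root_.mul_one, mul_inv_cancel, Hom.one_def])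
  exact ⟨z, hz.symm⟩

/-- A faithfully flat image killing all commutators is commutative. -/
theorem comm_of_commutators {G Q : Over SK} [GrpObj G] [GrpObj Q] (q : G ⟶ Q) [IsMonHom q] [Flat q.left]
    [Surjective q.left]
    (h : ∀ (X : Over SK) (a b : X ⟶ G), (a ≫ q) * (b ≫ q) = (b ≫ q) * (a ≫ q))
    (X : Over SK) (a b : X ⟶ Q) : a * b = b * a := by
  haveI : ∀ W : Over SK, Epi (q ▷ W) := fun W => by
    haveI : Flat (q ▷ W).left :=
      MorphismProperty.of_isPullback (P := @Flat) (Groth.L14.GITLin.isPullback_whiskerRight q W).flip inferInstance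
    haveI := Groth.L14.NRQuot.surjective_whiskerRight q W
    haveI := Flat.epi_of_flat_of_surjective (q ▷ W).left
    exact ⟨fun {Z} x y e => Over.OverMorphism.ext ((cancel_epi (q ▷ W).left).1 (congrArg CommaMorphism.left e))⟩
  have step : ∀ (X : Over SK) (a : X ⟶ Q) (b : X ⟶ G), a * (b ≫ q) = (b ≫ q) * a := by
    intro X a b
    have u : fst Q G * (snd Q G ≫ q) = (snd Q G ≫ q) * fst Q G := by
      rw [← cancel_epi (q ▷ G)]
      simp only [MonObj.comp_mul, whiskerRight_fst, whiskerRight_snd_assoc]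
      exact h _ _ _
    have := congrArg (lift a b ≫ ·) u
    simpa only [MonObj.comp_mul, lift_fst, lift_snd_assoc] using this
  have u : fst Q Q * snd Q Q = snd Q Q * fst Q Q := by
    rw [← cancel_epi (q ▷ Q)]
    simp only [MonObj.comp_mul, whiskerRight_fst, whiskerRight_snd]
    exact (step _ _ _).symm
  have := congrArg (lift a b ≫ ·) u
  simpa only [MonObj.comp_mul, lift_fst, lift_snd] using this

/-- A group without homomorphisms to the additive and multiplicative groups has no non-trivial commutative affine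
quotients of finite type. -/
theorem hom_affine_comm_eq_one [IsAlgClosed k] {A B : Type u} [CommRing A] [HopfAlgebra k A] [CommRing B]
    [HopfAlgebra k B] [Coalgebra.IsCocomm k B] (ρ : B →ₐc[k] A)
    (hGa : ∀ (w : P k A ⟶ Red.Ga SK) [IsMonHom w], w = 1) (hGm : ∀ (w : P k A ⟶ Red.Gm SK) [IsMonHom w], w = 1)
    (b : B) : ρ b = algebraMap k A (Coalgebra.counit (R := k) b) := by
  classical
  obtain ⟨x, rfl⟩ := Groth.L25.LargestMult.dec_surjective (k := k) (A := B) b
  -- group-like elements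
  have hgl : ∀ g : GroupLike k B, ρ g.val = 1 := by
    intro g
    let dG := Groth.L25.Bridge.dsIso.{u} k ℤ
    haveI : IsMonHom dG.inv.hom.hom := dG.inv.hom.isMonHom_hom
    haveI : IsMonHom dG.hom.hom.hom := dG.hom.hom.isMonHom_hom
    let c : LZ k →ₐc[k] A := ρ.comp
      (MonoidAlgebra.liftGroupLikeBialgHom.comp (MonoidAlgebra.mapDomainBialgHom k (zpowersHom _ g)))
    have hc : c (T k) = ρ g.val := by simp [c, T]
    have h1 := congrArg (fun m => m ≫ dG.hom.hom.hom) (hGm (sp c ≫ dG.inv.hom.hom))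
    have e : dG.inv.hom.hom ≫ dG.hom.hom.hom = 𝟙 _ := congrArg (fun m => m.hom.hom) dG.inv_hom_id
    simp only [Category.assoc, e, Category.comp_id, MonObj.one_comp] at h1
    have h2 : toPt (toConv (c : LZ k →ₐ[k] A)) = toPt (1 : Groth.L08.TorusQuot.Pt k (LZ k) A) := by
      rw [← Groth.L08.CharSurj.sp_eq_toPt, h1]
      exact (map_one _).symm
    have h3 := DFunLike.congr_fun (congrArg WithConv.ofConv (Spec.mapMulEquiv.injective h2)) (T k)
    rw [← hc]
    refine h3.trans ?_
    show algebraMap k A (Coalgebra.counit (R := k) (T k)) = 1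
    rw [Groth.L08.CharSurj.isGroupLikeElem_T.counit_eq_one, map_one]
  -- the unipotent component
  have hu : ∀ y : Groth.L25.LargestMult.comp k B, ρ y = algebraMap k A (Coalgebra.counit (R := k) (y : B)) := by
    rintro ⟨y, hy⟩
    obtain ⟨n, hn⟩ := Groth.L25.LargestMult.mem_comp.1 hy
    let v : P k A ⟶ Red.bc (𝟙 SK) (P k B) :=
      Groth.L25.NilAction.ofBase (𝟙 _) (Over.homMk (U := Over.mk ((P k A).hom ≫ 𝟙 SK)) (V := P k B) (sp ρ).left (by
        show (sp ρ).left ≫ (P k B).hom = (P k A).hom ≫ 𝟙 _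
        rw [Over.w (sp ρ), Category.comp_id]))
    have htb : ∀ {X : Over SK} (x : X ⟶ P k A),
        (Groth.L25.NilAction.toBase (𝟙 _) (x ≫ v)).left = (x ≫ sp ρ).left := fun x => by
      show (x.left ≫ v.left) ≫ pullback.fst _ _ = x.left ≫ (sp ρ).left
      rw [Category.assoc]
      exact congrArg (x.left ≫ ·) (congrArg (fun m => m.left) (Groth.L25.NilAction.toBase_ofBase (j := 𝟙 _)
        (Over.homMk (U := Over.mk ((P k A).hom ≫ 𝟙 SK)) (V := P k B) (sp ρ).left (by
          show (sp ρ).left ≫ (P k B).hom = (P k A).hom ≫ 𝟙 _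
          rw [Over.w (sp ρ), Category.comp_id]))))
    haveI : IsMonHom v := Groth.L25.Bridge.isMonHom_of_mul v fun X a b => by
      apply Groth.L25.CentralLift.toBase_injective
      let j : Over.mk (X.hom ≫ 𝟙 _) ⟶ X := Over.homMk (𝟙 _) (by
        show 𝟙 _ ≫ X.hom = X.hom ≫ 𝟙 _
        simp)
      have e : ∀ x : X ⟶ P k A, Groth.L25.NilAction.toBase (𝟙 _) (x ≫ v) = j ≫ x ≫ sp ρ := fun x =>
        Over.OverMorphism.ext (by rw [htb]; exact (Category.id_comp _).symm)
      rw [Groth.L25.NilAction.toBase_mul, e, e, e, MonObj.mul_comp, MonObj.comp_mul]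
    have key := Groth.L25.LargestMult.val_eq_counit_of (f := 𝟙 _) (Z := P k B) (𝟙 (P k B)) v hGa n y hn
    have ht : Groth.L25.LargestMult.tot (𝟙 (P k B)) v = Spec.map (CommRingCat.ofHom (ρ : B →+* A)) := by
      have := htb (𝟙 (P k A))
      rw [Category.id_comp, Category.id_comp] at this
      rw [show Groth.L25.LargestMult.tot (𝟙 (P k B)) v =
          (Groth.L25.NilAction.toBase (𝟙 _) v).left ≫ (𝟙 (P k B) : P k B ⟶ P k B).left from rfl,
        Over.id_left, Category.comp_id]
      exact this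
    rw [ht] at key
    erw [Groth.L25.LargestMult.val_specMap, Groth.L25.LargestMult.val_specMap] at key
    have h4 := (ConcreteCategory.bijective_of_isIso (Scheme.ΓSpecIso (CommRingCat.of A)).inv).1 key
    exact h4.trans (AlgHom.commutes (ρ : B →ₐ[k] A) _)
  induction x using Finsupp.induction_linear with
  | zero => simp
  | add p q hp hq => simp only [map_add, hp, hq]
  | single g y =>
    rw [Groth.L25.LargestMult.dec_single, map_mul, hgl, hu, _root_.one_mul, Bialgebra.counit_mul,
      g.isGroupLikeElem_val.counit_eq_one, _root_.one_mul]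

/-- **A semisimple group over an algebraically closed field maps trivially to commutative groups.** -/
theorem hom_comm_eq_one [IsAlgClosed k] {G H : Over SK} [GrpObj G] [GrpObj H] [IsCommMonObj H]
    (hG : Red.IsSemisimpleOver k G) (f : G ⟶ H) [IsMonHom f] : f = 1 := by
  haveI := hG.1.1; haveI := hG.1.2.1
  haveI : LocallyOfFiniteType G.hom := inferInstance
  obtain ⟨K, gK, i, hi, hic, -, hk⟩ := Groth.L08.AbelianGrp.exists_kernel f
  haveI := hi; haveI := hic
  obtain ⟨Q, gQ, q, hq, hQa, hQf, hqf, hqs, hkq⟩ := Groth.Agent.S3278.result k G K i (isNormalHom_of_isKernel hk)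
  haveI := hq; haveI := hQa; haveI := hQf; haveI := hqf; haveI := hqs
  have hkill : ∀ {X : Over SK} (a : X ⟶ G), a ≫ f = 1 → a ≫ q = 1 := by
    intro X a ha
    obtain ⟨z, hz, -⟩ := hk.exists_lift a (toUnit X) (by rw [ha, Hom.one_def])
    rw [← hz, Category.assoc, hkq.w, ← Category.assoc, toUnit_unique (z ≫ toUnit K) (toUnit X), ← Hom.one_def]
  have hcommQ : ∀ (X : Over SK) (a b : X ⟶ Q), a * b = b * a := comm_of_commutators q fun X a b => by
    have h1 : (a * b * (b * a)⁻¹) ≫ f = 1 := by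
      rw [MonObj.mul_comp, MonObj.mul_comp, GrpObj.inv_comp, MonObj.mul_comp, mul_comm (b ≫ f), mul_inv_cancel]
    have h2 := hkill _ h1
    rw [MonObj.mul_comp, MonObj.mul_comp, GrpObj.inv_comp, MonObj.mul_comp, mul_inv_eq_one] at h2
    exact h2
  obtain ⟨A, _, _, ⟨eG⟩⟩ := Groth.L25.Bridge.exists_hopf G
  obtain ⟨B, _, _, ⟨eQ⟩⟩ := Groth.L25.Bridge.exists_hopf Q
  let φ : P k A ⟶ G := eG.inv.hom.hom
  let ψ : G ⟶ P k A := eG.hom.hom.hom
  let φQ : P k B ⟶ Q := eQ.inv.hom.hom
  let ψQ : Q ⟶ P k B := eQ.hom.hom.hom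
  have hψφ : ψ ≫ φ = 𝟙 G := congrArg (fun f => f.hom.hom) eG.hom_inv_id
  have hψφQ : ψQ ≫ φQ = 𝟙 Q := congrArg (fun f => f.hom.hom) eQ.hom_inv_id
  have hφψQ : φQ ≫ ψQ = 𝟙 _ := congrArg (fun f => f.hom.hom) eQ.inv_hom_id
  haveI : IsMonHom φ := eG.inv.hom.isMonHom_hom
  haveI : IsMonHom ψ := eG.hom.hom.isMonHom_hom
  haveI : IsMonHom φQ := eQ.inv.hom.isMonHom_hom
  haveI : IsMonHom ψQ := eQ.hom.hom.isMonHom_hom
  haveI : IsIso φQ := ⟨ψQ, hφψQ, hψφQ⟩
  haveI : Coalgebra.IsCocomm k B := Groth.L25.LargestMult.isCocomm_of_comm k B fun X a b => by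
    rw [← cancel_mono φQ, MonObj.mul_comp, MonObj.mul_comp, hcommQ]
  obtain ⟨ρ, hρ⟩ := exists_sp (φ ≫ q ≫ ψQ)
  have hρ1 := hom_affine_comm_eq_one ρ
    (fun w _ => by
      have h := Groth.Agent.S2989.hom_Ga_eq_one G hG.1 (ψ ≫ w)
      have h' := congrArg (φ ≫ ·) h
      simp only [← Category.assoc, show φ ≫ ψ = 𝟙 _ from congrArg (fun f => f.hom.hom) eG.inv_hom_id,
        Category.id_comp, MonObj.comp_one] at h'
      exact h')
    (fun w _ => by
      have h := hom_Gm_eq_one hG (ψ ≫ w)
      have h' := congrArg (φ ≫ ·) h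
      simp only [← Category.assoc, show φ ≫ ψ = 𝟙 _ from congrArg (fun f => f.hom.hom) eG.inv_hom_id,
        Category.id_comp, MonObj.comp_one] at h'
      exact h')
  have hsp : sp ρ = 1 := by
    rw [Groth.L08.CharSurj.sp_eq_toPt, ← Groth.L08.TorusQuot.toPt_one]
    exact congrArg toPt (WithConv.ext (AlgHom.ext hρ1))
  have hq1 : q = 1 := by
    have e := congrArg (fun m => ψ ≫ m ≫ φQ) (hρ.symm.trans hsp)
    simp only [Category.assoc, hψφQ, Category.comp_id, reassoc_of% hψφ, MonObj.one_comp, MonObj.comp_one] at e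
    exact e
  obtain ⟨z, hz, -⟩ := hkq.exists_lift (𝟙 G) (toUnit G) (by rw [Category.id_comp, hq1, Hom.one_def])
  rw [← Category.id_comp f, ← hz, Category.assoc, hk.w, ← Category.assoc, toUnit_unique (z ≫ toUnit K) (toUnit G),
    ← Hom.one_def]

end Groth.L25.RedField
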