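import Groth.Agent.L25.RedField.RadicalDescent
import Groth.Agent.L25.RedField.Comm
import Groth.Agent.L25.MaxTorus.Image
import Groth.Agent.S16126
import Groth.Agent.L25.SplitSub.KernelLocal

/-!
# Central tori are separated by characters
-/

set_option autoImplicit false
set_option backward.isDefEq.respectTransparency.types false
set_option linter.style.haveILetI false
set_option linter.unusedSectionVars false

universe u

open CategoryTheory CategoryTheory.Limits MonoidalCategory CartesianMonoidalCategory MonObj GrpObj AlgebraicGeometry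
open Groth.L25.Bridge (P)
open Groth.L08.CentralGm (LZ)
open Groth.L08.Borel

noncomputable section

namespace Groth.L25.RedField

variable {k : Type u} [Field k]

local notation "U1" => 𝟙_ (Over (Spec (CommRingCat.of k)))
local notation "SK" => Spec (CommRingCat.of k)

/-- A central multiplicative group in an affine group is separated by a character. -/
theorem exists_char_of_central_Gm {E : Over SK} [GrpObj E] [IsAffine E.left] (i : Red.Gm SK ⟶ E) [IsMonHom i]
    [IsClosedImmersion i.left]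
    (hcent : ∀ (T : Over SK) (t : T ⟶ Red.Gm SK) (g : T ⟶ E), (t ≫ i) * g = g * (t ≫ i)) :
    ∃ (χ : E ⟶ Red.Gm SK) (n : ℕ), IsMonHom χ ∧ 1 ≤ n ∧
      ∀ (T : Over SK) (t : T ⟶ Red.Gm SK), (t ≫ i) ≫ χ = t ^ n := by
  obtain ⟨H, ⟨e⟩⟩ := (essImage_hopfSpec (G := Grp.mk E)).mpr ‹IsAffine E.left›
  let A := H.unop
  let eX : P k A ≅ E := (Grp.forget _).mapIso e
  let d := Groth.L25.Bridge.dsIso.{u} k ℤ
  let dX : Red.Gm SK ≅ P k (LZ k) := (Grp.forget _).mapIso d
  haveI : IsMonHom eX.hom := e.hom.hom.isMonHom_hom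
  haveI : IsMonHom eX.inv := e.inv.hom.isMonHom_hom
  haveI : IsMonHom dX.hom := d.hom.hom.isMonHom_hom
  haveI hdi : IsMonHom dX.inv := d.inv.hom.isMonHom_hom
  let fX := dX.inv ≫ i ≫ eX.inv
  haveI : IsIso eX.inv.left := inferInstanceAs (IsIso ((Over.forget _).map eX.inv))
  haveI : IsIso dX.inv.left := inferInstanceAs (IsIso ((Over.forget _).map dX.inv))
  haveI : IsClosedImmersion fX.left := inferInstanceAs (IsClosedImmersion (dX.inv.left ≫ i.left ≫ eX.inv.left))
  obtain ⟨χ, n, _, hn, hχ⟩ := Groth.Agent.S16126.key fX (fun T t g => by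
    rw [← cancel_mono eX.hom, MonObj.mul_comp, MonObj.mul_comp]
    simp only [fX, Category.assoc, Iso.inv_hom_id, Category.comp_id]
    have h := hcent T (t ≫ dX.inv) (g ≫ eX.hom)
    simp only [Category.assoc] at h
    exact h)
  haveI : IsMonHom (χ ≫ dX.inv) := @instIsMonHomComp _ _ _ _ _ _ _ _ _ χ dX.inv ‹_› hdi
  refine ⟨eX.inv ≫ χ ≫ dX.inv, n, inferInstance, hn, fun T t => ?_⟩
  have h := congrArg (fun m => (t ≫ dX.hom) ≫ m ≫ dX.inv) hχ
  simp only [fX, Category.assoc, Iso.hom_inv_id_assoc] at h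
  have hp : ∀ x : T ⟶ P k (LZ k), (x ^ n) ≫ dX.inv = (x ≫ dX.inv) ^ n := fun x => by
    exact @MonObj.pow_comp _ _ _ _ _ _ _ _ x n dX.inv hdi
  rw [Category.assoc, h, ← Category.assoc t, ← Category.assoc (t ≫ dX.hom), MonObj.comp_pow, Category.comp_id]
  erw [hp]
  rw [Category.assoc, Iso.hom_inv_id, Category.comp_id]

variable [IsAlgClosed k]

/-- The trivial-character criterion on a split central torus. -/
theorem exists_char_ne_one_split {E : Over SK} [GrpObj E] [IsAffine E.left] [LocallyOfFiniteType E.hom] {r : ℕ}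
    (iM : Red.DS SK (Fin r → ℤ) ⟶ E) [IsMonHom iM] [Mono iM]
    (hcent : ∀ (T : Over SK) (t : T ⟶ Red.DS SK (Fin r → ℤ)) (g : T ⟶ E), (t ≫ iM) * g = g * (t ≫ iM))
    (l : (Fin r → ℤ) →+ ℤ) (hl : Function.Surjective l) :
    ∃ (χ : E ⟶ Red.Gm SK) (n : ℕ), IsMonHom χ ∧ 1 ≤ n ∧ Red.DSmap SK l ≫ iM ≫ χ = Red.DSmap SK (n • AddMonoidHom.id ℤ) := by
  haveI : Monoid.FG (Multiplicative ℤ) := AddMonoid.fg_iff_mul_fg.1
    (AddGroup.fg_iff_addMonoid_fg.1 (Module.Finite.iff_addGroup_fg.1 inferInstance))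
  haveI : IsMonHom (Red.DSmap SK l) := inferInstance
  haveI : Mono (Red.DSmap SK l) := Groth.L25.SplitSub.mono_DSmap l hl
  haveI : Mono (Red.DSmap SK l ≫ iM) := mono_comp _ _
  haveI : IsMonHom (Red.DSmap SK l ≫ iM) := inferInstance
  haveI : QuasiCompact E.hom := quasiCompact_of_compactSpace _
  haveI : IsSeparated E.hom := inferInstance
  haveI : IsClosedImmersion (Red.DSmap SK l ≫ iM).left :=
    Groth.L25.MonoClosed.isClosedImmersion_of_mono (Groth.L25.SplitSub.isMultTypeFT_DS _ _ (Module.Finite.iff_addGroup_fg.1 inferInstance)) _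
  obtain ⟨χ, n, hχ, hn, hp⟩ := exists_char_of_central_Gm (Red.DSmap SK l ≫ iM) fun T t g => by
    rw [← Category.assoc t]
    exact hcent T _ g
  refine ⟨χ, n, hχ, hn, ?_⟩
  have h1 := hp _ (𝟙 _)
  rw [Category.id_comp, Category.assoc] at h1
  rw [h1, ← Groth.L25.MaxTorus.DSmap_nsmul, Category.id_comp]

/-- A non-trivial central torus is detected by a character. -/
theorem exists_char_ne_one {E T : Over SK} [GrpObj E] [GrpObj T] [IsAffine E.left] [LocallyOfFiniteType E.hom]
    (hT : Red.IsTorus T) (hne : ¬ Red.IsTrivialGrp T) (i : T ⟶ E) [IsMonHom i] [Mono i]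
    (hcent : ∀ (X : Over SK) (t : X ⟶ T) (g : X ⟶ E), (t ≫ i) * g = g * (t ≫ i)) :
    ∃ χ : E ⟶ Red.Gm SK, IsMonHom χ ∧ i ≫ χ ≠ 1 := by
  classical
  obtain ⟨r, ⟨eT⟩⟩ := exists_split_rank hT
  let e : T ⟶ Red.DS SK (Fin r → ℤ) := eT.hom.hom.hom
  let ei : Red.DS SK (Fin r → ℤ) ⟶ T := eT.inv.hom.hom
  have hee : e ≫ ei = 𝟙 T := congrArg (fun f => f.hom.hom) eT.hom_inv_id
  have hee' : ei ≫ e = 𝟙 _ := congrArg (fun f => f.hom.hom) eT.inv_hom_id
  haveI : IsMonHom e := eT.hom.hom.isMonHom_hom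
  haveI : IsMonHom ei := eT.inv.hom.isMonHom_hom
  haveI : IsIso ei := ⟨e, hee', hee⟩
  rcases Nat.eq_zero_or_pos r with hr | hr
  · refine absurd (Groth.L14.Luna.isTrivialGrp_of_id_eq_one ?_) hne
    subst hr
    have h0 : AddMonoidHom.id (Fin 0 → ℤ) = 0 := Subsingleton.elim _ _
    rw [← hee, ← Category.id_comp ei, ← Groth.L25.TorusTorsion.DSmap_id, h0, Groth.Agent.S14754.DSmap_zero,
      MonObj.one_comp, MonObj.comp_one]
  let l : (Fin r → ℤ) →+ ℤ := Pi.evalAddMonoidHom (fun _ : Fin r => ℤ) ⟨0, hr⟩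
  obtain ⟨χ, n, hχ, hn, h⟩ := exists_char_ne_one_split (ei ≫ i) (fun X t g => by
    rw [← Category.assoc t]
    exact hcent X _ g) l (fun z => ⟨Function.const _ z, rfl⟩)
  refine ⟨χ, hχ, fun h1 => ?_⟩
  rw [Category.assoc, h1, MonObj.comp_one, MonObj.comp_one, ← Groth.Agent.S14754.DSmap_zero (M := ℤ)] at h
  have h2 := DFunLike.congr_fun (Groth.Agent.S14754.DSmap_injective (k := k) h) 1
  simp at h2
  omega

/-- **A reductive group without characters is semisimple.** -/
theorem isSemisimpleOver_of_no_char {G : Over SK} [GrpObj G] (hG : Red.IsReductiveOver k G)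
    (h : ∀ χ : G ⟶ Red.Gm SK, IsMonHom χ → χ = 1) : Red.IsSemisimpleOver k G := by
  refine ⟨hG, fun T _ i _ hic hn hT => ?_⟩
  by_contra hne
  haveI := hG.1; haveI := hG.2.1; haveI := hG.2.2.1
  haveI := hic
  haveI : Mono i := Over.mono_of_mono_left i
  obtain ⟨χ, hχ, hχne⟩ := exists_char_ne_one hT hne i (central_of_normal_torus hT i hn)
  exact hχne (by rw [h χ hχ, MonObj.comp_one])

/-- Commutativity from points. -/
theorem isCommMonObj_of_points {S : Scheme.{u}} (Q : Over S) [GrpObj Q]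
    (h : ∀ (X : Over S) (a b : X ⟶ Q), a * b = b * a) : IsCommMonObj Q := by
  refine ⟨?_⟩
  have e : snd Q Q * fst Q Q = fst Q Q * snd Q Q := h _ _ _
  rw [Hom.mul_def, Hom.mul_def, lift_fst_snd, Category.id_comp] at e
  rw [← e]
  congr 1

/-- **The image of a semisimple group is semisimple.** -/
theorem isSemisimpleOver_of_surjective {G H : Over SK} [GrpObj G] [GrpObj H] (hG : Red.IsSemisimpleOver k G)
    [IsAffine H.left] [Smooth H.hom] [ConnectedSpace H.left] (π : G ⟶ H) [IsMonHom π] [Surjective π.left] :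
    Red.IsSemisimpleOver k H := by
  refine isSemisimpleOver_of_no_char (isReductiveOver_of_surjective hG.1 π) fun χ hχ => ?_
  haveI := hχ
  haveI : IsReduced H.left := Groth.Agent.AV.isReduced_of_smooth_field (k := k) H.hom
  haveI : IsMonHom (π ≫ χ) := inferInstance
  have h1 : π ≫ χ = π ≫ 1 := by rw [MonObj.comp_one]; exact hom_Gm_eq_one hG (π ≫ χ)
  haveI := Groth.L08.AbelianGrp.isSeparated (Red.Gm SK)
  exact Over.OverMorphism.ext (ext_of_isDominant_of_isSeparated (Red.Gm SK).hom (by rw [Over.w, Over.w])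
    π.left (congrArg CommaMorphism.left h1))

end Groth.L25.RedField
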