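import Groth.Agent.L25.GenWords.Generated
import Groth.Agent.L25.RedField.Comm
import Groth.Agent.L25.RedField.RadicalDescent
import Groth.Agent.L25.RedField.CentralChar
import Groth.Agent.S3278

/-!
# Commutators and characters of the geometric fibre
-/

set_option autoImplicit false
set_option backward.isDefEq.respectTransparency.types false
set_option linter.style.haveILetI false
set_option linter.unusedSectionVars false

universe u

open CategoryTheory CategoryTheory.Limits MonoidalCategory CartesianMonoidalCategory MonObj GrpObj AlgebraicGeometry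
open Groth.L25.GenWords
open scoped CategoryTheory.Obj

noncomputable section

namespace Groth.L25.RedField

variable {k : Type u} [Field k]

local notation "U1" => 𝟙_ (Over (Spec (CommRingCat.of k)))
local notation "SK" => Spec (CommRingCat.of k)

theorem locallyOfFiniteType_W (X : Over SK) [LocallyOfFiniteType X.hom] :
    ∀ l, LocallyOfFiniteType (W X l).hom
  | [] => inferInstanceAs (LocallyOfFiniteType (𝟙 SK))
  | _ :: l => by
    haveI := locallyOfFiniteType_W X l
    exact inferInstanceAs (LocallyOfFiniteType (pullback.fst X.hom (W X l).hom ≫ X.hom))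

/-- A homomorphism killing a map kills its words. -/
theorem word_comp_eq_one {C : Type*} [Category C] [CartesianMonoidalCategory C] {X G H : C} [GrpObj G] [GrpObj H]
    (f : X ⟶ G) (χ : G ⟶ H) [IsMonHom χ] (h : f ≫ χ = 1) : ∀ l, word f l ≫ χ = 1
  | [] => MonObj.one_comp χ
  | b :: l => by
    show ((fst X (W X l) ≫ (if b then f else f⁻¹)) * (snd X (W X l) ≫ word f l)) ≫ χ = 1
    rw [MonObj.mul_comp, Category.assoc, Category.assoc, word_comp_eq_one f χ h l, MonObj.comp_one, _root_.mul_one]
    cases b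
    · show fst X (W X l) ≫ f⁻¹ ≫ χ = 1
      rw [GrpObj.inv_comp, h, inv_one, MonObj.comp_one]
    · show fst X (W X l) ≫ f ≫ χ = 1
      rw [h, MonObj.comp_one]

/-- base change preserves centrality -/
theorem comm_bc {S S' : Scheme.{u}} (t : S' ⟶ S) {G L : Over S} [GrpObj G] [GrpObj L] (l : L ⟶ G)
    (hl : ∀ (T : Over S) (x : T ⟶ L) (g : T ⟶ G), (x ≫ l) * g = g * (x ≫ l)) (T : Over S') (x : T ⟶ Red.bc t L)
    (g : T ⟶ Red.bc t G) : (x ≫ (Over.pullback t).map l) * g = g * (x ≫ (Over.pullback t).map l) := by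
  let F := Over.pullback t
  let adj := Over.mapPullbackAdj t
  have hl' := hl ((Over.map t).obj T) ((adj.homEquiv _ _).symm x) ((adj.homEquiv _ _).symm g)
  have e := congrArg (fun m => adj.unit.app T ≫ F.map m) hl'
  simp only [Functor.map_mul, Functor.map_comp, MonObj.comp_mul] at e
  have hu : ∀ {Y : Over S} (x : T ⟶ F.obj Y), adj.unit.app T ≫ F.map ((adj.homEquiv T Y).symm x) = x := fun {Y} x => by
    exact (adj.homEquiv_unit (X := T) (Y := Y) (f := (adj.homEquiv T Y).symm x)).symm.trans
      ((adj.homEquiv T Y).apply_symm_apply x)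
  rw [hu, ← Category.assoc, hu] at e
  exact e

/-- Commutators die under a homomorphism to a commutative group. -/
theorem comm_comp_eq_one {C : Type*} [Category C] [CartesianMonoidalCategory C] {A B G H : C} [GrpObj G] [GrpObj H]
    (a : A ⟶ G) (b : B ⟶ G) (χ : G ⟶ H) [IsMonHom χ] (hcomm : ∀ {Z : C} (x y : Z ⟶ H), x * y = y * x) :
    GenWords.comm a b ≫ χ = 1 := by
  simp only [GenWords.comm, MonObj.mul_comp, GrpObj.inv_comp]
  rw [hcomm ((fst A B ≫ a) ≫ χ), mul_inv_cancel_right, mul_inv_cancel]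

/-- **The commutator subgroup over a field.** It is the kernel of a homomorphism to a commutative group, and its
geometric points die under homomorphisms of the geometric fibre to commutative groups. -/
theorem exists_derived (G : Over SK) [GrpObj G] [IsAffine G.left] [Smooth G.hom] [ConnectedSpace G.left] :
    ∃ (D : Over SK) (_ : GrpObj D) (d : D ⟶ G) (Q : Over SK) (_ : GrpObj Q) (q : G ⟶ Q),
      IsMonHom d ∧ IsClosedImmersion d.left ∧ IsMonHom q ∧ IsAffine Q.left ∧ LocallyOfFiniteType Q.hom ∧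
      IsCommMonObj Q ∧ AlgGrp.IsKernel d q ∧
      ∀ (s : ↥SK) (H : Over (Spec (CommRingCat.of (AlgebraicClosure ((SK).residueField s))))) [GrpObj H]
        (χ : Red.geomFibre s G ⟶ H) [IsMonHom χ],
        (∀ {Z : Over (Spec (CommRingCat.of (AlgebraicClosure ((SK).residueField s))))} (x y : Z ⟶ H), x * y = y * x) →
        ∀ (x : 𝟙_ (Over (Spec (CommRingCat.of (AlgebraicClosure ((SK).residueField s))))) ⟶ Red.geomFibre s G),
          (x.left ≫ pullback.fst G.hom (Red.geomPt s)) (IsLocalRing.closedPoint _) ∈ Set.range d.left →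
            x ≫ χ = 1 := by
  haveI : LocallyOfFiniteType G.hom := inferInstance
  haveI : Smooth (G ⊗ G).hom := inferInstanceAs (Smooth (pullback.fst G.hom G.hom ≫ G.hom))
  haveI : GeometricallyReduced (G ⊗ G).hom := Groth.Agent.AV.geometricallyReduced_of_smooth _
  let c : G ⊗ G ⟶ G := GenWords.comm (𝟙 G) (𝟙 G)
  obtain ⟨D, gD, d, hd, hdc, ⟨c', hc'⟩, -, hmin, -⟩ := Groth.L15.GenSub.exists_generated c
  haveI := hd; haveI := hdc
  have hn : AlgGrp.IsNormalHom d := fun X g n => by
    refine ⟨(lift g (n ≫ d) ≫ c') * n, ?_⟩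
    rw [MonObj.mul_comp, Category.assoc (lift g (n ≫ d)) c', hc']
    simp only [c, comp_comm, lift_fst, lift_snd, Category.comp_id, inv_mul_cancel_right]
  obtain ⟨Q, gQ, q, hq, hQa, hQl, hqf, hqs, hker⟩ := Groth.Agent.S3278.result k G D d hn
  haveI := hq; haveI := hQl; haveI := hqf; haveI := hqs
  have hcq : c ≫ q = 1 := by
    rw [← hc', Category.assoc, hker.w, ← Category.assoc, toUnit_unique (c' ≫ toUnit D) (toUnit _), ← Hom.one_def]
  have hQc : IsCommMonObj Q := isCommMonObj_of_points Q (comm_of_commutators q fun X a b => by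
    have h1 := lift a b ≫= hcq
    rw [MonObj.comp_one, ← Category.assoc] at h1
    simp only [c, comp_comm, lift_fst, lift_snd, Category.comp_id, MonObj.mul_comp, GrpObj.inv_comp] at h1
    exact mul_inv_eq_iff_eq_mul.1 (mul_inv_eq_one.1 h1))
  obtain ⟨L, -, hL, hall⟩ := exists_comm_words' (𝟙 G) (𝟙 G) (Or.inl ‹ConnectedSpace G.left›)
  have hrange := range_generated c D d ⟨c', hc'⟩ hmin L hL hall
  refine ⟨D, gD, d, Q, gQ, q, hd, hdc, hq, hQa, hQl, hQc, hker, fun s H _ χ _ hcomm x hx => ?_⟩
  rw [hrange] at hx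
  obtain ⟨l, -, hxl⟩ := Set.mem_iUnion₂.1 hx
  let F := Over.pullback (Red.geomPt s)
  haveI := locallyOfFiniteType_W (G ⊗ G) l
  haveI : LocallyOfFiniteType (F.obj (W (G ⊗ G) l)).hom :=
    MorphismProperty.pullback_snd _ _ (locallyOfFiniteType_W (G ⊗ G) l)
  haveI : LocallyOfFiniteType (F.obj G).hom := MorphismProperty.pullback_snd _ _ ‹LocallyOfFiniteType G.hom›
  have hmem : x.left (IsLocalRing.closedPoint _) ∈ Set.range (F.map (word c l)).left := by
    rw [range_map (Red.geomPt s) (word c l)]
    exact hxl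
  obtain ⟨w, hw⟩ := hmem
  obtain ⟨z, hz⟩ := Groth.L25.WordPoints.exists_point_over (F.map (word c l)) x _ w hw
  obtain ⟨r, hr⟩ := exists_ofMap F c l
  have hc1 : F.map c ≫ χ = 1 := by
    have hμ : Functor.LaxMonoidal.μ F G G ≫ F.map c = comm (F.map (𝟙 G)) (F.map (𝟙 G)) :=
      μ_map_comm F (𝟙 G) (𝟙 G)
    rw [← cancel_epi (Functor.LaxMonoidal.μ F G G), ← Category.assoc, hμ, MonObj.comp_one]
    exact comm_comp_eq_one _ _ χ hcomm
  rw [← hz, Category.assoc, ← hr, Category.assoc, word_comp_eq_one _ χ hc1 l, MonObj.comp_one, MonObj.comp_one]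

end Groth.L25.RedField
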