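import Groth.Agent.L25.RedField.SemisimpleCrit
import Groth.Agent.L25.RedField.Derived

/-!
# Normal smooth connected subgroups of reductive and semisimple groups
-/

set_option autoImplicit false
set_option backward.isDefEq.respectTransparency.types false
set_option linter.style.haveILetI false
set_option linter.unusedSectionVars false

universe u

open CategoryTheory CategoryTheory.Limits MonoidalCategory CartesianMonoidalCategory MonObj GrpObj AlgebraicGeometry
open Groth.L08.Borel Groth.L14.Luna

noncomputable section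

namespace Groth.L25.RedField

variable {k : Type u} [Field k] [IsAlgClosed k]

local notation "U1" => 𝟙_ (Over (Spec (CommRingCat.of k)))
local notation "SK" => Spec (CommRingCat.of k)

/-- Conjugation by a point restricts to an automorphism of a normal subgroup. -/
theorem exists_conjAut {G N : Over SK} [GrpObj G] [GrpObj N] (i : N ⟶ G) [IsMonHom i] [Mono i]
    (hn : AlgGrp.IsNormalHom i) (g : U1 ⟶ G) :
    ∃ c : N ⟶ N, IsMonHom c ∧ IsIso c ∧ c ≫ i = AGF.conjBy g i := by
  have ex : ∀ g : U1 ⟶ G, ∃ c : N ⟶ N, c ≫ i = AGF.conjBy g i := fun g => by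
    obtain ⟨c, hc⟩ := hn N (toUnit N ≫ g) (𝟙 N)
    rw [Category.id_comp] at hc
    exact ⟨c, hc.symm⟩
  obtain ⟨c, hc⟩ := ex g
  obtain ⟨d, hd⟩ := ex g⁻¹
  haveI : IsMonHom (AGF.conjBy g i) := isMonHom_conjBy g i
  refine ⟨c, isMonHom_of_comp_mono c i _ hc, ⟨d, ?_, ?_⟩, hc⟩
  · rw [← cancel_mono i, Category.assoc, hd, comp_conjBy, hc, conjBy_conjBy, inv_mul_cancel, conjBy_one,
      Category.id_comp]
  · rw [← cancel_mono i, Category.assoc, hc, comp_conjBy, hd, conjBy_conjBy, mul_inv_cancel, conjBy_one,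
      Category.id_comp]

/-- A subgroup stable under conjugation by points is normal. -/
theorem isNormalHom_of_points {G V : Over SK} [GrpObj G] [GrpObj V] [Smooth G.hom] [Smooth V.hom] (v : V ⟶ G)
    [IsMonHom v] [IsClosedImmersion v.left] (h : ∀ g : U1 ⟶ G, ∃ a : V ⟶ V, a ≫ v = AGF.conjBy g v) :
    AlgGrp.IsNormalHom v := by
  haveI : LocallyOfFiniteType G.hom := inferInstance
  haveI : LocallyOfFiniteType V.hom := inferInstance
  haveI : Smooth (G ⊗ V).hom := inferInstanceAs (Smooth (pullback.fst G.hom V.hom ≫ G.hom))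
  haveI : IsReduced (G ⊗ V).left := Groth.Agent.AV.isReduced_of_smooth_field (k := k) (G ⊗ V).hom
  haveI : LocallyOfFiniteType (G ⊗ V).hom := inferInstance
  obtain ⟨f, hf⟩ := exists_lift_of_points v (fst G V * (snd G V ≫ v) * (fst G V)⁻¹ : G ⊗ V ⟶ G) fun x => by
    obtain ⟨a, ha⟩ := h (x ≫ fst G V)
    refine ⟨(x ≫ snd G V) ≫ a, ?_⟩
    rw [Category.assoc, ha, pt_conjBy, MonObj.comp_mul, MonObj.comp_mul, GrpObj.comp_inv, Category.assoc]
  intro X g n
  exact ⟨lift g n ≫ f, by
    rw [Category.assoc (lift g n) f, hf, MonObj.comp_mul, MonObj.comp_mul, GrpObj.comp_inv, lift_fst, lift_snd_assoc]⟩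

/-- **A normal smooth connected subgroup of a reductive group is reductive.** -/
theorem isReductiveOver_normal {G N : Over SK} [GrpObj G] [GrpObj N] (hG : Red.IsReductiveOver k G) (i : N ⟶ G)
    [IsMonHom i] [IsClosedImmersion i.left] [Smooth N.hom] [ConnectedSpace N.left] (hn : AlgGrp.IsNormalHom i) :
    Red.IsReductiveOver k N := by
  haveI := hG.1; haveI := hG.2.1; haveI := hG.2.2.1
  haveI : IsAffine N.left := isAffine_of_isAffineHom i.left
  haveI : Mono i := Over.mono_of_mono_left i
  obtain ⟨U, gU, u, hU⟩ := exists_unipotentRadical N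
  obtain ⟨hum, huc, hun, hus, hucon, huns⟩ := unipotentRadical_data hU
  haveI := hum; haveI := huc; haveI := hus; haveI := hucon
  haveI : IsAffine U.left := isAffine_of_isAffineHom u.left
  haveI : QuasiCompact U.hom := quasiCompact_of_compactSpace _
  haveI : IsClosedImmersion (u ≫ i).left := inferInstanceAs (IsClosedImmersion (u.left ≫ i.left))
  haveI : IsMonHom (u ≫ i) := inferInstance
  have hnorm : AlgGrp.IsNormalHom (u ≫ i) := isNormalHom_of_points (u ≫ i) fun g => by
    obtain ⟨c, hcm, hci, hc⟩ := exists_conjAut i hn g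
    haveI := hcm; haveI := hci
    haveI : IsIso c.left := inferInstanceAs (IsIso ((Over.forget _).map c))
    haveI : IsMonHom (u ≫ c) := inferInstance
    haveI : IsClosedImmersion (u ≫ c).left := inferInstanceAs (IsClosedImmersion (u.left ≫ c.left))
    obtain ⟨a, ha⟩ := exists_factor_unipotentRadical hU (u ≫ c) (fun X x y => by
      obtain ⟨y', hy'⟩ := hun X (x ≫ inv c) y
      refine ⟨y', ?_⟩
      have h := congrArg (· ≫ c) hy'
      simpa only [MonObj.mul_comp, GrpObj.inv_comp, Category.assoc, IsIso.inv_hom_id, Category.comp_id] using h)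
      hucon huns
    exact ⟨a, by rw [← Category.assoc, ha, Category.assoc, hc, comp_conjBy]⟩
  have hid : 𝟙 U = 1 := id_eq_one_of_isTrivialGrp (hG.2.2.2 U (u ≫ i) inferInstance hus hucon hnorm huns)
  refine ⟨inferInstance, inferInstance, inferInstance, fun U' _ u' _ huc' hus' hucon' hun' huns' => ?_⟩
  haveI := huc'; haveI := hus'; haveI := hucon'
  haveI : IsAffine U'.left := isAffine_of_isAffineHom u'.left
  haveI : QuasiCompact U'.hom := quasiCompact_of_compactSpace _
  obtain ⟨f, hf⟩ := exists_factor_unipotentRadical hU u' hun' hucon' huns'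
  refine isTrivialGrp_of_id_eq_one ?_
  haveI : Mono u' := Over.mono_of_mono_left u'
  rw [← cancel_mono u', Category.id_comp, MonObj.one_comp, ← hf, ← Category.comp_id f, hid, MonObj.comp_one,
    MonObj.one_comp]

/-- **The central tori of a normal subgroup of a semisimple group are trivial.** -/
theorem centralTorus_normal_eq_one {G N C : Over SK} [GrpObj G] [GrpObj N] [GrpObj C]
    (hG : Red.IsSemisimpleOver k G) (i : N ⟶ G) [IsMonHom i] [IsClosedImmersion i.left]
    (hn : AlgGrp.IsNormalHom i) (c : C ⟶ N) [IsMonHom c] [IsClosedImmersion c.left] (hC : Red.IsTorus C)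
    (hcen : ∀ (X : Over SK) (x : X ⟶ C) (g : X ⟶ N), (x ≫ c) * g = g * (x ≫ c))
    (huniv : ∀ (T : Over SK) [GrpObj T] (v : T ⟶ N) [IsMonHom v], Red.IsTorus T →
      (∀ (X : Over SK) (x : X ⟶ T) (g : X ⟶ N), (x ≫ v) * g = g * (x ≫ v)) → ∃ w, w ≫ c = v) :
    c = 1 := by
  haveI := hG.1.2.1
  haveI : Mono i := Over.mono_of_mono_left i
  haveI : Mono c := Over.mono_of_mono_left c
  haveI : Smooth C.hom := (Groth.L25.Locus.smooth_connected_torus hC).1
  haveI : IsClosedImmersion (c ≫ i).left := inferInstanceAs (IsClosedImmersion (c.left ≫ i.left))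
  haveI : IsMonHom (c ≫ i) := inferInstance
  have hnorm : AlgGrp.IsNormalHom (c ≫ i) := isNormalHom_of_points (c ≫ i) fun g => by
    obtain ⟨a, ham, hai, ha⟩ := exists_conjAut i hn g
    haveI := ham; haveI := hai
    haveI : IsMonHom (c ≫ a) := inferInstance
    obtain ⟨w, hw⟩ := huniv C (c ≫ a) hC fun X x n => by
      have h := congrArg (· ≫ a) (hcen X x (n ≫ inv a))
      simpa only [MonObj.mul_comp, Category.assoc, IsIso.inv_hom_id, Category.comp_id] using h
    exact ⟨w, by rw [← Category.assoc, hw, Category.assoc, ha, comp_conjBy]⟩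
  rw [← Category.id_comp c, id_eq_one_of_isTrivialGrp (hG.2 C (c ≫ i) inferInstance hnorm hC), MonObj.one_comp]

end Groth.L25.RedField
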