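import Groth.Agent.L25.Extension.Comm
import Groth.Agent.L25.SplitSub.Rank
import Groth.Agent.L08.SubgroupObj
import Groth.Agent.L08.Borel.CartanPreimage
import Groth.Agent.S5510

/-!
# Centres under central coverings of reductive groups
-/

set_option autoImplicit false
set_option backward.isDefEq.respectTransparency.types false
set_option linter.style.haveILetI false
set_option linter.unusedSectionVars false

universe u

open CategoryTheory CategoryTheory.Limits MonoidalCategory CartesianMonoidalCategory MonObj GrpObj AlgebraicGeometry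
open scoped commutatorElement

noncomputable section

namespace Groth.L25.RedField

variable {S : Scheme.{u}}

/-- The fibres of a reductive group are connected. -/
theorem isConnected_fibre_of_isReductive {G : Over S} [GrpObj G] (hG : Red.IsReductive G) (s : S) :
    _root_.IsConnected (G.hom.base ⁻¹' {s}) :=
  Groth.L08.Borel.isConnected_fibre_of_geom G s (hG.2.2 s).2.2.1

/-- A quasi-compact faithfully flat homomorphism maps central points to central points. -/
theorem central_image {G' G : Over S} [GrpObj G'] [GrpObj G] (f : G' ⟶ G) [IsMonHom f] (hf : Covers.Cov f)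
    {T : Over S} (x : T ⟶ G') (hx : ∀ (T' : Over S) (p : T' ⟶ T) (y : T' ⟶ G'), (p ≫ x) * y = y * (p ≫ x))
    (T' : Over S) (p : T' ⟶ T) (z : T' ⟶ G) : (p ≫ x ≫ f) * z = z * (p ≫ x ≫ f) := by
  have hc := Covers.Cov.of_isPullback (IsPullback.of_hasPullback z f) hf
  have := hc.epi
  rw [← cancel_epi (pullback.fst z f), MonObj.comp_mul, MonObj.comp_mul, pullback.condition,
    ← Category.assoc (pullback.fst z f), ← Category.assoc (pullback.fst z f ≫ p), ← MonObj.mul_comp, ← MonObj.mul_comp,
    hx]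

/-- **Preimages of central points under central coverings of reductive groups are central.** -/
theorem central_of_image {G' G : Over S} [GrpObj G'] [GrpObj G] (hG' : Red.IsReductive G') (hG : Red.IsReductive G)
    (f : G' ⟶ G) [IsMonHom f] (hf : Covers.Cov f)
    (hcen : ∀ (T : Over S) (k y : T ⟶ G'), k ≫ f = 1 → k * y = y * k) {T : Over S} (x : T ⟶ G')
    (hx : ∀ (T' : Over S) (p : T' ⟶ T) (z : T' ⟶ G), (p ≫ x ≫ f) * z = z * (p ≫ x ≫ f))
    (T' : Over S) (p : T' ⟶ T) (y : T' ⟶ G') : (p ≫ x) * y = y * (p ≫ x) := by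
  obtain ⟨Z, gZ, j, hj, hjc, hZm⟩ := Groth.Agent.S5510.result G hG
  obtain ⟨Z', gZ', j', hj', hjc', hZm'⟩ := Groth.Agent.S5510.result G' hG'
  haveI := hj.1; haveI := hj.2.1; haveI := hj'.1; haveI := hj'.2.1
  let P := pullback f j
  let ρ : P ⟶ G' := pullback.fst f j
  let π : P ⟶ Z := pullback.snd f j
  have sq : IsPullback ρ π f j := IsPullback.of_hasPullback f j
  haveI : Mono ρ := MorphismProperty.of_isPullback (P := MorphismProperty.monomorphisms _) sq.flip ‹Mono j›
  obtain ⟨gP, hρ⟩ := Groth.L08.exists_grpObj_of_mono ρ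
    ⟨sq.lift η[G'] η[Z] (by rw [IsMonHom.one_hom, IsMonHom.one_hom]), sq.lift_fst _ _ _⟩
    ⟨sq.lift ((fst P P ≫ ρ) * (snd P P ≫ ρ)) ((fst P P ≫ π) * (snd P P ≫ π)) (by
      simp only [MonObj.mul_comp, Category.assoc, sq.w]), sq.lift_fst _ _ _⟩
    ⟨sq.lift ρ⁻¹ π⁻¹ (by rw [GrpObj.inv_comp, GrpObj.inv_comp, sq.w]), sq.lift_fst _ _ _⟩
  haveI := hρ
  haveI : IsMonHom π := Groth.L25.Bridge.isMonHom_of_mul π fun X a b => by
    rw [← cancel_mono j, Category.assoc, ← sq.w, ← Category.assoc, MonObj.mul_comp, MonObj.mul_comp, MonObj.mul_comp]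
    simp only [Category.assoc, sq.w]
  have hπ : Covers.Cov π := Covers.Cov.of_isPullback sq.flip hf
  have hZc : ∀ (X : Over S) (a : X ⟶ Z) (g : X ⟶ G), (a ≫ j) * g = g * (a ≫ j) := fun X a g => by
    have := (hj.2.2 X (a ≫ j)).1 ⟨a, rfl⟩ X (𝟙 X) g
    rwa [Category.id_comp, Category.comp_id] at this
  have hker1 : ∀ (X : Over S) (k : X ⟶ G'), k ≫ f = 1 → ∃ a, a ≫ j' = k := fun X k hk =>
    (hj'.2.2 X k).2 fun X' q h => by
      rw [Category.comp_id]
      exact hcen X' _ h (by rw [Category.assoc, hk, MonObj.comp_one])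
  obtain ⟨a, ha⟩ := (hj.2.2 T' (p ≫ x ≫ f)).2 fun X' q h => by
    rw [Category.comp_id, ← Category.assoc q p]
    exact hx X' (q ≫ p) h
  let a' : T' ⟶ P := sq.lift (p ≫ x) a (by rw [Category.assoc, ha])
  have key := Groth.L25.Extension.comm_eq hZm hZm' ρ j' π hπ
    (fun X b g => hker1 X _ (by
      rw [Covers.commutator_comp, commutatorElement_eq_one_iff_mul_comm, Category.assoc, sq.w, ← Category.assoc]
      exact hZc X _ _))
    (fun X b h => by
      have := (hj'.2.2 X (h ≫ j')).1 ⟨h, rfl⟩ X (𝟙 X) (b ≫ ρ)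
      rw [Category.id_comp, Category.comp_id] at this
      exact this.symm)
    (fun X b g hb => hcen X _ g (by
      rw [Category.assoc, sq.w, ← Category.assoc, hb, MonObj.one_comp]))
    (fun s => Or.inr (isConnected_fibre_of_isReductive hG' s)) T' a' y
  rwa [sq.lift_fst] at key

end Groth.L25.RedField
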