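import Groth.Prelude.Def_Red
import Groth.Agent.L08.AbelianGrp
import Groth.Agent.L25.MonoClosed.Main
import Groth.Agent.L26.AV.SmoothField

/-!
# Homomorphisms out of reduced groups are tested on a geometric fibre
-/

set_option autoImplicit false
set_option backward.isDefEq.respectTransparency.types false
set_option linter.style.haveILetI false

universe u

open CategoryTheory CategoryTheory.Limits MonoidalCategory CartesianMonoidalCategory MonObj GrpObj AlgebraicGeometry

noncomputable section

namespace Groth.L25.RedField

variable {k : Type u} [Field k]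

/-- A homomorphism out of a smooth group over a field is trivial if it is trivial on the geometric fibre. -/
theorem eq_one_of_geomFibre {G H : Over (Spec (CommRingCat.of k))} [GrpObj G] [GrpObj H] [Smooth G.hom]
    (s : ↥(Spec (CommRingCat.of k))) (f : G ⟶ H) [IsMonHom f]
    (h : (Over.pullback (Red.geomPt s)).map f = 1) : f = 1 := by
  haveI := Groth.L08.AbelianGrp.isSeparated H
  haveI : IsReduced G.left := Groth.Agent.AV.isReduced_of_smooth_field (k := k) G.hom
  haveI : IsMonHom (1 : G ⟶ H) :=
    { one_hom := MonObj.comp_one η[G], mul_hom := by
        rw [MonObj.comp_one, ← lift_fst_comp_snd_comp, ← Hom.mul_def, MonObj.comp_one, MonObj.comp_one,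
          _root_.mul_one] }
  have h1 : (Over.pullback (Red.geomPt s)).map (1 : G ⟶ H) = 1 := by
    exact map_one ((Over.pullback (Red.geomPt s)).homMonoidHom)
  have h2 := congrArg (fun m => m.left ≫ pullback.fst _ _) (h.trans h1.symm)
  simp only [Over.pullback_map_left, pullback.lift_fst] at h2
  haveI : Surjective (Red.geomPt s) := ⟨fun x => ⟨IsLocalRing.closedPoint _, by
    haveI : Subsingleton ↥(Spec (CommRingCat.of k)) := inferInstanceAs (Subsingleton (PrimeSpectrum k))
    exact Subsingleton.elim _ _⟩⟩
  haveI : Surjective (pullback.fst G.hom (Red.geomPt s)) := inferInstance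
  exact Over.OverMorphism.ext (ext_of_isDominant_of_isSeparated H.hom (by rw [Over.w, Over.w])
    (pullback.fst G.hom (Red.geomPt s)) h2)

end Groth.L25.RedField
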