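import Groth.Agent.L25.RedField.Unipotent
import Groth.Agent.L25.RedField.Descend
import Groth.Agent.L25.Extension.Comm
import Groth.Agent.L25.TorLift.Central
import Groth.Agent.L08.Borel.MaxTorusDesc
import Groth.Agent.L25.GenWords.Generated

/-!
# Normal connected solvable subgroups of reductive groups are central tori
-/

set_option autoImplicit false
set_option backward.isDefEq.respectTransparency.types false
set_option linter.style.haveILetI false
set_option linter.unusedSectionVars false

universe u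

open CategoryTheory CategoryTheory.Limits MonoidalCategory CartesianMonoidalCategory MonObj GrpObj AlgebraicGeometry
open Groth.L08.Borel Groth.L14.Luna

noncomputable section

namespace Groth.L25.RedField

variable {k : Type u} [Field k]

local notation "U1" => 𝟙_ (Over (Spec (CommRingCat.of k)))
local notation "SK" => Spec (CommRingCat.of k)

/-- A normal torus in a connected group over a field is central. -/
theorem central_of_normal_torus {G T : Over SK} [GrpObj G] [GrpObj T] [ConnectedSpace G.left] (hT : Red.IsTorus T)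
    (i : T ⟶ G) [IsMonHom i] [Mono i] (hn : AlgGrp.IsNormalHom i) (X : Over SK) (t : X ⟶ T) (g : X ⟶ G) :
    (t ≫ i) * g = g * (t ≫ i) :=
  Groth.L25.Extension.central_of_normal (Groth.L25.Locus.isMultTypeFT_of_isTorus hT) i hn (fun s => Or.inr (by
    haveI : Subsingleton ↥SK := inferInstanceAs (Subsingleton (PrimeSpectrum k))
    have e : G.hom.base ⁻¹' {s} = Set.univ := Set.eq_univ_of_forall fun z => Subsingleton.elim (G.hom.base z) s
    rw [e]
    exact isConnected_univ)) X t g

variable [IsAlgClosed k]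

/-- The unipotent radical of a normal solvable subgroup is normal. -/
theorem isNormalHom_radical_solvable {G B T V : Over SK} [GrpObj G] [GrpObj B] [GrpObj T] [GrpObj V]
    [IsAffine G.left] [Smooth G.hom] [IsAffine B.left] (i : B ⟶ G) [IsMonHom i] [IsClosedImmersion i.left]
    (hi : AlgGrp.IsNormalHom i) (hT : Red.IsTorus T) (p : B ⟶ T) [IsMonHom p] (v : V ⟶ B) [IsMonHom v]
    [IsClosedImmersion v.left] [Smooth V.hom] [ConnectedSpace V.left] (hV : Red.HasNoSubtorus k V)
    (huniv : ∀ (Y : Over SK) (y : Y ⟶ B), y ≫ p = 1 → ∃ y' : Y ⟶ V, y' ≫ v = y) :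
    AlgGrp.IsNormalHom (v ≫ i) := by
  haveI : IsAffine V.left := isAffine_of_isAffineHom v.left
  haveI : Mono i := Over.mono_of_mono_left i
  haveI : IsClosedImmersion (v ≫ i).left := inferInstanceAs (IsClosedImmersion (v.left ≫ i.left))
  haveI : IsMonHom (v ≫ i) := inferInstance
  haveI : LocallyOfFiniteType G.hom := inferInstance
  haveI : LocallyOfFiniteType V.hom := inferInstance
  haveI : Smooth (G ⊗ V).hom := inferInstanceAs (Smooth (pullback.fst G.hom V.hom ≫ G.hom))
  haveI : IsReduced (G ⊗ V).left := Groth.Agent.AV.isReduced_of_smooth_field (k := k) (G ⊗ V).hom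
  haveI : LocallyOfFiniteType (G ⊗ V).hom := inferInstance
  obtain ⟨f, hf⟩ := exists_lift_of_points (v ≫ i) (fst G V * (snd G V ≫ v ≫ i) * (fst G V)⁻¹ : G ⊗ V ⟶ G) fun x => by
    -- conjugation by a point
    let g : U1 ⟶ G := x ≫ fst G V
    obtain ⟨c, hc⟩ := hi V (toUnit V ≫ g) v
    have hce : c ≫ i = AGF.conjBy g (v ≫ i) := (by rw [← hc])
    haveI : IsMonHom (AGF.conjBy g (v ≫ i)) := isMonHom_conjBy g (v ≫ i)
    haveI : IsMonHom c := isMonHom_of_comp_mono c i _ hce
    haveI : IsMonHom (c ≫ p) := inferInstance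
    have h1 : c ≫ p = 1 := hom_torus_eq_one (isSolvableGrp_of_noSubtorus V hV) hV hT (c ≫ p)
    obtain ⟨b, hb⟩ := huniv _ (x ≫ snd G V ≫ c) (by
      rw [Category.assoc, Category.assoc, h1, MonObj.comp_one, MonObj.comp_one])
    refine ⟨b, ?_⟩
    rw [MonObj.comp_mul, MonObj.comp_mul, GrpObj.comp_inv, ← Category.assoc b, hb, Category.assoc, Category.assoc,
      ← hc, MonObj.comp_mul, MonObj.comp_mul, GrpObj.comp_inv]
    have hu : x ≫ snd G V ≫ toUnit V ≫ g = g := by
      rw [← Category.assoc, ← Category.assoc, toUnit_unique ((x ≫ snd G V) ≫ toUnit V) (𝟙 _), Category.id_comp]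
    simp only [MonObj.comp_mul, GrpObj.comp_inv, hu]
    rfl
  intro X g n
  exact ⟨lift g n ≫ f, by
    rw [Category.assoc (lift g n) f, hf, MonObj.comp_mul, MonObj.comp_mul, GrpObj.comp_inv, lift_fst, lift_snd_assoc]⟩

/-- **Normal connected solvable subgroups of reductive groups are central tori.** -/
theorem normal_solvable_central_torus {G B : Over SK} [GrpObj G] [GrpObj B] (hG : Red.IsReductiveOver k G)
    (i : B ⟶ G) [IsMonHom i] [IsClosedImmersion i.left] (hi : AlgGrp.IsNormalHom i)
    [Smooth B.hom] [ConnectedSpace B.left] (hsol : Red.IsSolvableGrp B) :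
    Red.IsTorus B ∧ ∀ (X : Over SK) (t : X ⟶ B) (g : X ⟶ G), (t ≫ i) * g = g * (t ≫ i) := by
  haveI := hG.1; haveI := hG.2.1; haveI := hG.2.2.1
  haveI : IsAffine B.left := isAffine_of_isAffineHom i.left
  haveI : Mono i := Over.mono_of_mono_left i
  obtain ⟨T, gT, iT, p, V, gV, v, him, himono, hT, hp, hip, hV, -, huniv⟩ := exists_retraction_radical B hsol
  obtain ⟨hvm, hvc, -, hvs, hvcon, hvns⟩ := unipotentRadical_data hV
  haveI := him; haveI := himono; haveI := hp; haveI := hvm; haveI := hvc; haveI := hvs; haveI := hvcon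
  haveI : IsClosedImmersion (v ≫ i).left := inferInstanceAs (IsClosedImmersion (v.left ≫ i.left))
  haveI : IsMonHom (v ≫ i) := inferInstance
  have hid : 𝟙 V = 1 := id_eq_one_of_isTrivialGrp (hG.2.2.2 V (v ≫ i) inferInstance hvs hvcon
    (isNormalHom_radical_solvable i hi hT p v hvns huniv) hvns)
  haveI : Mono p := ⟨fun {Y} a b e => by
    obtain ⟨y', hy'⟩ := huniv Y (a * b⁻¹) (by rw [MonObj.mul_comp, GrpObj.inv_comp, e, mul_inv_cancel])
    rw [← Category.comp_id y', hid, MonObj.comp_one, MonObj.one_comp] at hy'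
    exact mul_inv_eq_one.1 hy'.symm⟩
  have hpi : p ≫ iT = 𝟙 B := by rw [← cancel_mono p, Category.assoc, hip, Category.comp_id, Category.id_comp]
  haveI : IsIso iT := ⟨p, hip, hpi⟩
  have hB : Red.IsTorus B := Groth.L25.TorLift.isTorus_of_iso (Grp.mkIso' (asIso iT)) hT
  exact ⟨hB, central_of_normal_torus hB i hi⟩

end Groth.L25.RedField
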