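import Groth.Agent.L25.RedField.QFNormal
import Groth.Agent.L08.GrpDim
import Groth.Agent.L25.MultTypeBC
import Groth.Agent.L08.Borel.CartanTorus
import Groth.Agent.S2803

/-!
# The locus where a normal subgroup is finite is open
-/

set_option autoImplicit false
set_option backward.isDefEq.respectTransparency.types false
set_option linter.style.haveILetI false
universe u

open CategoryTheory CategoryTheory.Limits MonoidalCategory CartesianMonoidalCategory MonObj GrpObj AlgebraicGeometry
open Groth.L25

noncomputable section

namespace Groth.L25.RedField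

/-- a group over a field with isolated unit is finite -/
theorem isFinite_of_isOpen_one {k : Type u} [Field k] (G : Over (Spec (CommRingCat.of k))) [GrpObj G]
    [LocallyOfFiniteType G.hom] [QuasiCompact G.hom] (h : IsOpen ({Component.one G} : Set G.left)) :
    IsFinite G.hom := by
  obtain ⟨n, hn, hdim⟩ := Groth.L08.GrpDim.exists_dim G
  have hcl := Groth.L08.GrpDim.isClosed_one G
  have h1 : topologicalKrullDim (closure ({Component.one G} : Set G.left)) = (n : WithBot ℕ∞) :=
    hn _ fun w hw => by simpa using hw.mem_open h rfl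
  have h0 : topologicalKrullDim (closure ({Component.one G} : Set G.left)) ≤ 0 := by
    rw [hcl.closure_eq]
    refine Order.krullDim_nonpos_iff_forall_isMax.2 fun x y _ => ?_
    haveI : Subsingleton ({Component.one G} : Set G.left) := inferInstance
    intro z _
    obtain ⟨a, ha⟩ := x.isIrreducible.nonempty
    rwa [Subsingleton.elim z a]
  have hle : topologicalKrullDim G.left ≤ 0 := by rw [hdim, ← h1]; exact h0
  have hpt : ∀ x : G.left, IsClosed ({x} : Set G.left) := fun x => by
    refine isClosed_of_closure_subset fun y hy => ?_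
    let cx : TopologicalSpace.IrreducibleCloseds G.left := ⟨closure {x}, isIrreducible_singleton.closure, isClosed_closure⟩
    let cy : TopologicalSpace.IrreducibleCloseds G.left := ⟨closure {y}, isIrreducible_singleton.closure, isClosed_closure⟩
    have hsp : x ⤳ y := specializes_iff_mem_closure.2 hy
    have h2 : cx ≤ cy := (Order.krullDim_nonpos_iff_forall_isMax.1 hle cy)
      (closure_minimal (Set.singleton_subset_iff.2 hy) isClosed_closure)
    have hsp' : y ⤳ x := specializes_iff_mem_closure.2 (h2 (subset_closure rfl))
    exact Set.mem_singleton_iff.2 (hsp'.antisymm hsp).eq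
  haveI : IsLocallyNoetherian G.left := LocallyOfFiniteType.isLocallyNoetherian G.hom
  haveI : CompactSpace G.left := QuasiCompact.compactSpace_of_compactSpace G.hom
  haveI : IsNoetherian G.left := ⟨⟩
  haveI : T1Space G.left := ⟨hpt⟩
  haveI : Finite G.left := by
    rw [← Set.finite_univ_iff, ← sUnion_irreducibleComponents]
    refine TopologicalSpace.NoetherianSpace.finite_irreducibleComponents.sUnion fun C hC => ?_
    obtain ⟨x, hx⟩ := QuasiSober.sober (show IsIrreducible C from hC.1) (isClosed_of_mem_irreducibleComponents C hC)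
    rw [← hx.def, (hpt x).closure_eq]
    exact Set.finite_singleton x
  haveI : LocallyQuasiFinite G.hom := by
    rw [← Scheme.Hom.quasiFiniteLocus_eq_top_iff]
    ext x
    simp only [Scheme.Hom.mem_quasiFiniteLocus, TopologicalSpace.Opens.coe_top, Set.mem_univ, iff_true,
      SetLike.mem_coe]
    rw [Scheme.Hom.quasiFiniteAt_iff_isOpen_singleton_asFiber]
    haveI : Finite (G.hom.fiber (G.hom x)) := (G.hom.fiberHomeo (G.hom x)).finite_iff.mpr inferInstance
    haveI : T1Space (G.hom.fiber (G.hom x)) :=
      (G.hom.fiberHomeo (G.hom x)).symm.t1Space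
    exact isOpen_discrete _
  exact .of_locallyQuasiFinite _

variable {S : Scheme.{u}}

/-- **the finite locus of a normal subgroup is open** -/
theorem exists_nhd_finite {G Z K : Over S} [GrpObj G] [GrpObj Z] [GrpObj K] [Smooth G.hom]
    (hconn : ∀ s : S, _root_.IsConnected (G.hom.base ⁻¹' {s})) (j : Z ⟶ G) (hZ : Red.IsCentre j)
    (hZm : SGA3x.IsMultTypeFT Z) (k : K ⟶ G) [IsMonHom k] [IsClosedImmersion k.left] (hn : AlgGrp.IsNormalHom k)
    [LocallyOfFinitePresentation K.hom] [QuasiCompact K.hom] (s : S)
    (hs : IsFinite (Red.bc (S.fromSpecResidueField s) K).hom) :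
    ∃ U : S.Opens, s ∈ U ∧ IsFinite (Red.bc U.ι K).hom := by
  let U : S.Opens := η[K].left ⁻¹ᵁ K.hom.quasiFiniteLocus
  have hη : ∀ t : S, K.hom (η[K].left t) = t := fun t => by
    have h : η[K].left ≫ K.hom = 𝟙 S := Over.w η[K]
    exact congrArg (fun m => (m : S ⟶ S) t) h
  have key : ∀ t : S, t ∈ U ↔ IsFinite (Red.bc (S.fromSpecResidueField t) K).hom := fun t => by
    let Kt : Over (Spec (CommRingCat.of (S.residueField t))) := Red.bc (S.fromSpecResidueField t) K
    letI : GrpObj Kt := inferInstanceAs (GrpObj (Red.bc (S.fromSpecResidueField t) K))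
    let x := η[K].left t
    have hx : K.hom.asFiber x ∈ Set.univ := trivial
    haveI : LocallyOfFiniteType Kt.hom := inferInstanceAs (LocallyOfFiniteType (pullback.snd K.hom _))
    haveI : QuasiCompact Kt.hom := inferInstanceAs (QuasiCompact (pullback.snd K.hom _))
    show K.hom.QuasiFiniteAt x ↔ _
    constructor
    · intro hq
      refine isFinite_of_isOpen_one Kt ?_
      have h2 : IsOpen (pullback.fst K.hom (S.fromSpecResidueField t) ⁻¹' {x}) := by
        have h3 := Scheme.Hom.quasiFiniteAt_iff_isOpen_singleton_asFiber.1 hq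
        have e : K.hom x = t := hη t
        clear_value x
        subst e
        show IsOpen ((K.hom.fiberι (K.hom x)) ⁻¹' {x})
        have e2 : (K.hom.fiberι (K.hom x)) ⁻¹' {x} = {K.hom.asFiber x} := by
          ext y
          simp only [Set.mem_preimage, Set.mem_singleton_iff]
          exact ⟨fun h => (K.hom.fiberι (K.hom x)).isEmbedding.injective (h.trans (K.hom.fiberι_asFiber x).symm),
            fun h => h ▸ K.hom.fiberι_asFiber x⟩
        rw [e2]
        exact h3
      have hfi : Function.Injective (pullback.fst K.hom (S.fromSpecResidueField t)) :=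
        (K.hom.fiberι t).isEmbedding.injective
      have h1 : pullback.fst K.hom (S.fromSpecResidueField t) (Component.one Kt) = x := by
        have e0 := NilAction.toBase_one (G := K) (S.fromSpecResidueField t) (Y := 𝟙_ (Over (Spec (CommRingCat.of (S.residueField t)))))
        have e3 := congrArg (fun m => m.left (IsLocalRing.closedPoint (S.residueField t))) e0
        have e4 : pullback.fst K.hom (S.fromSpecResidueField t) (Component.one Kt) =
            η[K].left (S.fromSpecResidueField t (IsLocalRing.closedPoint (S.residueField t))) := e3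
        rw [e4, Scheme.fromSpecResidueField_apply]
      have e2 : (pullback.fst K.hom (S.fromSpecResidueField t)) ⁻¹' {x} = ({Component.one Kt} : Set Kt.left) := by
        refine Set.ext fun y => ?_
        exact ⟨fun h => hfi (h.trans h1.symm), fun h => by rw [Set.mem_singleton_iff] at h; rw [h]; exact h1⟩
      exact (congrArg IsOpen e2) ▸ h2
    · intro hf
      rw [Scheme.Hom.quasiFiniteAt_iff_isOpen_singleton_asFiber]
      have e : K.hom x = t := hη t
      clear_value x
      subst e
      haveI : IsFinite (K.hom.fiberToSpecResidueField (K.hom x)) := hf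
      haveI : LocallyQuasiFinite (K.hom.fiberToSpecResidueField (K.hom x)) := inferInstance
      haveI : IsLocallyArtinian (K.hom.fiber (K.hom x)) :=
        .of_locallyQuasiFinite (K.hom.fiberToSpecResidueField (K.hom x))
      haveI : DiscreteTopology (K.hom.fiber (K.hom x)) := inferInstance
      exact isOpen_discrete _
  refine ⟨U, (key s).2 hs, ?_⟩
  haveI : Smooth (Red.bc U.ι G).hom := inferInstanceAs (Smooth (pullback.snd G.hom U.ι))
  haveI : IsMonHom ((Over.pullback U.ι).map k) := Groth.L25.MonoClosed.isMonHom_pullbackMap _ _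
  haveI : IsClosedImmersion ((Over.pullback U.ι).map k).left :=
    MorphismProperty.overPullbackMap (P := @IsClosedImmersion) U.ι k inferInstance
  haveI : LocallyOfFinitePresentation (Red.bc U.ι K).hom :=
    inferInstanceAs (LocallyOfFinitePresentation (pullback.snd K.hom U.ι))
  haveI : QuasiCompact (Red.bc U.ι K).hom := inferInstanceAs (QuasiCompact (pullback.snd K.hom U.ι))
  haveI : LocallyQuasiFinite (Red.bc U.ι K).hom := by
    refine .of_fiberToSpecResidueField _ fun u => ?_
    show LocallyQuasiFinite (pullback.snd (pullback.snd K.hom U.ι) (U.toScheme.fromSpecResidueField u))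
    rw [← pullbackLeftPullbackSndIso_hom_snd K.hom U.ι (U.toScheme.fromSpecResidueField u)]
    haveI h0 : IsFinite (pullback.snd K.hom (S.fromSpecResidueField (U.ι u))) := (key (U.ι u)).1 u.2
    have hh : ∀ (c : Spec (U.toScheme.residueField u) ⟶ S),
        c = Spec.map (U.ι.residueFieldMap u) ≫ S.fromSpecResidueField (U.ι u) → IsFinite (pullback.snd K.hom c) := by
      rintro c rfl
      rw [← pullbackLeftPullbackSndIso_inv_snd_snd K.hom]
      exact (MorphismProperty.cancel_left_of_respectsIso @IsFinite _ _).2 (MorphismProperty.pullback_snd _ _ h0)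
    haveI := hh _ (Scheme.Hom.SpecMap_residueFieldMap_fromSpecResidueField U.ι u).symm
    infer_instance
  have hconnU : ∀ u : U.toScheme, _root_.IsConnected ((Red.bc U.ι G).hom.base ⁻¹' {u}) := fun u =>
    by
      haveI : ConnectedSpace ↥(pullback G.hom (U.toScheme.fromSpecResidueField u ≫ U.ι)) :=
        Groth.L08.Borel.connectedSpace_bc_point G hconn (K := U.toScheme.residueField u) (U.toScheme.fromSpecResidueField u ≫ U.ι)
      haveI : ConnectedSpace ↥((Red.bc U.ι G).hom.fiber u) :=
        (pullbackLeftPullbackSndIso G.hom U.ι (U.toScheme.fromSpecResidueField u)).inv.surjective.connectedSpace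
          (pullbackLeftPullbackSndIso G.hom U.ι (U.toScheme.fromSpecResidueField u)).inv.continuous
      have h := isConnected_range ((Red.bc U.ι G).hom.fiberι u).continuous
      rwa [Scheme.Hom.range_fiberι] at h
  have hjU : Red.IsCentre ((Over.pullback U.ι).map j) := by
    have := Groth.L08.Borel.isCentralizerOf_bc U.ι hZ
    rwa [CategoryTheory.Functor.map_id] at this
  exact isFinite_of_centre_multType hconnU ((Over.pullback U.ι).map j) hjU
    (Groth.L25.MultTypeBC.isMultTypeFT_bc hZm U.ι) ((Over.pullback U.ι).map k)
    (Groth.L25.GenWords.isNormalHom_bc U.ι k hn)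

/-- a finite neighbourhood of a trivial fibre contains a trivial one -/
theorem exists_nhd_trivial {K : Over S} [GrpObj K] [LocallyOfFiniteType K.hom] {U : S.Opens} {s : S} (hs : s ∈ U)
    (hU : IsFinite (Red.bc U.ι K).hom) (ht : Red.IsTrivialGrp (Red.bc (S.fromSpecResidueField s) K)) :
    ∃ U : S.Opens, s ∈ U ∧ Red.IsTrivialGrp (Red.bc U.ι K) := by
  have hres : IsFinite (K.hom ∣_ U) := by
    rw [← (isPullback_morphismRestrict K.hom U).flip.isoPullback_hom_snd]
    exact (MorphismProperty.cancel_left_of_respectsIso @IsFinite _ _).2 hU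
  obtain ⟨W, hW, hcl⟩ := (Groth.Agent.S2803.result K.hom s).2 ⟨Or.inr ht, U, hs, inferInstance⟩
  refine ⟨W, hW, ?_⟩
  show IsIso (pullback.snd K.hom W.ι)
  haveI : IsClosedImmersion (pullback.snd K.hom W.ι) := by
    rw [← (isPullback_morphismRestrict K.hom W).flip.isoPullback_inv_snd]
    exact (MorphismProperty.cancel_left_of_respectsIso @IsClosedImmersion _ _).2 hcl
  haveI : IsSplitEpi (pullback.snd K.hom W.ι) := IsSplitEpi.mk'
    ⟨pullback.lift (W.ι ≫ η[K].left) (𝟙 _) (by
      rw [Category.assoc, show η[K].left ≫ K.hom = 𝟙 S from Over.w η[K], Category.comp_id, Category.id_comp]),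
      pullback.lift_snd _ _ _⟩
  exact isIso_of_mono_of_isSplitEpi _

end Groth.L25.RedField
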