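import Groth.Agent.L08.TorusWeights.Basic
import Mathlib.AlgebraicGeometry.Morphisms.Finite
import Mathlib.AlgebraicGeometry.Morphisms.ClosedImmersion
import Mathlib.RingTheory.Nakayama

/-!
# A split torus normalising a finite subscheme centralises it as soon as it does so at the closed points
-/

set_option autoImplicit false
set_option backward.isDefEq.respectTransparency.types false
set_option linter.style.haveILetI false
universe u

open CategoryTheory CategoryTheory.Limits MonoidalCategory CartesianMonoidalCategory MonObj AlgebraicGeometry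
open Groth.L25 Groth.L08.TorusWeights

noncomputable section

namespace Groth.L25.RedField

variable {S : Scheme.{u}}

/-- the product of an affine scheme with the spectrum of a monoid algebra -/
theorem exists_univ {Y₀ : Over S} [IsAffine Y₀.left] (N : Type) [CommMonoid N] :
    ∃ (Y : Over S) (q : Y ⟶ Y₀) (γ : MonoidAlgebra Γ(Y₀.left, ⊤) N →+* Γ(Y.left, ⊤)),
      Function.Injective γ ∧ ∀ b, q.left.appTop.hom b = γ (MonoidAlgebra.single 1 b) := by
  let A₀ := Γ(Y₀.left, ⊤)
  let C := MonoidAlgebra A₀ N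
  let one' : CommRingCat.of A₀ ⟶ CommRingCat.of C :=
    CommRingCat.ofHom (MonoidAlgebra.singleOneRingHom : A₀ →+* C)
  let Y : Over S := Over.mk (Spec.map one' ≫ Y₀.left.isoSpec.inv ≫ Y₀.hom)
  let q : Y ⟶ Y₀ := Over.homMk (Spec.map one' ≫ Y₀.left.isoSpec.inv) (Category.assoc _ _ _)
  refine ⟨Y, q, (Scheme.ΓSpecIso (CommRingCat.of C)).inv.hom,
    ((Scheme.ΓSpecIso (CommRingCat.of C)).symm.commRingCatIsoToRingEquiv).injective, fun x => ?_⟩
  have h2 : q.left.appTop = one' ≫ (Scheme.ΓSpecIso (CommRingCat.of C)).inv := by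
    have e : (Spec.map one' ≫ Y₀.left.isoSpec.inv) ≫ Y₀.left.toSpecΓ = Spec.map one' := by
      rw [Category.assoc, show Y₀.left.isoSpec.inv ≫ Y₀.left.toSpecΓ = 𝟙 _ from Y₀.left.isoSpec.inv_hom_id]
      exact Category.comp_id _
    have e2 := congrArg Scheme.Hom.appTop e
    rw [Scheme.Hom.comp_appTop, Scheme.toSpecΓ_appTop] at e2
    rw [Scheme.ΓSpecIso_inv_naturality, ← cancel_epi (Scheme.ΓSpecIso (CommRingCat.of A₀)).hom, Iso.hom_inv_id_assoc]
    exact e2
  exact congrArg (fun f => f.hom x) h2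

variable {G : Over S} [GrpObj G] [IsAffine G.left] {M : Type} [AddCommGroup M]

omit [GrpObj G] [IsAffine G.left] in
/-- evaluation at a universal pair -/
theorem ev_univ {Y₀ Y : Over S} (q : Y ⟶ Y₀) {N : Type} [CommMonoid N]
    (γ : MonoidAlgebra Γ(Y₀.left, ⊤) N →+* Γ(Y.left, ⊤))
    (hq : ∀ b, q.left.appTop.hom b = γ (MonoidAlgebra.single 1 b)) (φ : Multiplicative M →* N) (g₀ : Y₀ ⟶ G)
    (c : CR G M) :
    ev (DSPts.pt (γ.toMonoidHom.comp ((MonoidAlgebra.of _ N).comp φ))) (q ≫ g₀) c =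
      γ (c.coeff.sum fun m a => MonoidAlgebra.single (φ m) (g₀.left.appTop.hom a)) := by
  rw [ev_eq_sum, map_finsuppSum]
  refine Finsupp.sum_congr fun m _ => ?_
  rw [DSPts.char_pt, Over.comp_left, Scheme.Hom.comp_appTop, CommRingCat.comp_apply, hq]
  simp [← map_mul, MonoidAlgebra.single_mul_single]

variable (i : Red.DS S M ⟶ G)

/-- the coefficients as a ring map -/
def coR : Γ(G.left, ⊤) →+* CR G M :=
  (Scheme.ΓSpecIso (CommRingCat.of (CR G M))).hom.hom.comp
    ((univT G M ≫ i) * univG G M * (univT G M ≫ i)⁻¹).left.appTop.hom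

theorem co_eq (a : Γ(G.left, ⊤)) : co i a = coR i a := rfl

theorem co_hom (f : Γ(S, ⊤)) : co i (G.hom.appTop.hom f) = MonoidAlgebra.single 1 (G.hom.appTop.hom f) := by
  have e : ((univT G M ≫ i) * univG G M * (univT G M ≫ i)⁻¹).left ≫ G.hom = (univG G M).left ≫ G.hom := by
    rw [Over.w, Over.w]
  have e2 := congrArg (fun g => (Scheme.Hom.appTop g).hom f) e
  simp only [Scheme.Hom.comp_appTop, CommRingCat.comp_apply] at e2
  rw [co, e2]
  have h2 : (univG G M).left.appTop =
      CommRingCat.ofHom (MonoidAlgebra.singleOneRingHom : Γ(G.left, ⊤) →+* CR G M) ≫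
        (Scheme.ΓSpecIso (CommRingCat.of (CR G M))).inv := by
    have e : (univG G M).left ≫ G.left.toSpecΓ =
        Spec.map (CommRingCat.ofHom (MonoidAlgebra.singleOneRingHom : Γ(G.left, ⊤) →+* CR G M)) := by
      show (Spec.map _ ≫ G.left.isoSpec.inv) ≫ G.left.toSpecΓ = _
      rw [Category.assoc, show G.left.isoSpec.inv ≫ G.left.toSpecΓ = 𝟙 _ from G.left.isoSpec.inv_hom_id]
      exact Category.comp_id _
    have e2 := congrArg Scheme.Hom.appTop e
    rw [Scheme.Hom.comp_appTop, Scheme.toSpecΓ_appTop] at e2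
    rw [Scheme.ΓSpecIso_inv_naturality, ← cancel_epi (Scheme.ΓSpecIso Γ(G.left, ⊤)).hom]
    erw [Iso.hom_inv_id_assoc]
    exact e2
  rw [h2]
  erw [CommRingCat.comp_apply, Iso.inv_hom_id_apply]
  rfl

theorem co_hom_mul (f : Γ(S, ⊤)) (a : Γ(G.left, ⊤)) (m : Multiplicative M) :
    (co i (G.hom.appTop.hom f * a)).coeff m = G.hom.appTop.hom f * (co i a).coeff m := by
  classical
  have e : co i (G.hom.appTop.hom f * a) = co i (G.hom.appTop.hom f) * co i a := by
    simp only [co_eq, map_mul]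
  rw [e, co_hom, MonoidAlgebra.coeff_single_one_mul]

variable [IsMonHom i]

/-- **a split torus normalising a finite closed subscheme centralises it if it does so over closed points** -/
theorem torus_centralizes [IsAffine S] {K : Over S} (k : K ⟶ G) [IsClosedImmersion k.left] [IsFinite K.hom]
    (hnorm : ∀ (X : Over S) (t : X ⟶ Red.DS S M) (x : X ⟶ K),
      ∃ x' : X ⟶ K, (t ≫ i) * (x ≫ k) * (t ≫ i)⁻¹ = x' ≫ k)
    (hfib : ∀ (L : Type u) [Field L] (b : Spec (CommRingCat.of L) ⟶ S) (X : Over S)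
      (w : X.left ⟶ Spec (CommRingCat.of L)), w ≫ b = X.hom →
      ∀ (x : X ⟶ K) (t : X ⟶ Red.DS S M), (t ≫ i) * (x ≫ k) = (x ≫ k) * (t ≫ i))
    (X : Over S) (x : X ⟶ K) (t : X ⟶ Red.DS S M) : (t ≫ i) * (x ≫ k) = (x ≫ k) * (t ≫ i) := by
  classical
  haveI : IsAffine K.left := isAffine_of_isAffineHom k.left
  let B := Γ(K.left, ⊤)
  let kA : Γ(G.left, ⊤) →+* B := k.left.appTop.hom
  have hsurj : Function.Surjective kA :=
    (IsClosedImmersion.isAffine_surjective_of_isAffine k.left).2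
  let P : Multiplicative M → Γ(G.left, ⊤) → B := fun m a => kA ((co i a).coeff m)
  -- the coefficients are defined on the subscheme
  have hwd : ∀ a, kA a = 0 → ∀ m, P m a = 0 := by
    intro a ha m
    obtain ⟨Y, q, γ, hγ, hq⟩ := exists_univ (Y₀ := K) (Multiplicative M)
    let τ : Y ⟶ Red.DS S M :=
      DSPts.pt (γ.toMonoidHom.comp ((MonoidAlgebra.of _ (Multiplicative M)).comp (MonoidHom.id _)))
    obtain ⟨x', hx'⟩ := hnorm Y τ q
    have h1 := congrArg (fun f => f.left.appTop.hom a) hx'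
    simp only [conj_appTop] at h1
    rw [ev_univ q γ hq (MonoidHom.id _) k] at h1
    simp only [Over.comp_left, Scheme.Hom.comp_appTop, CommRingCat.comp_apply] at h1
    change γ _ = x'.left.appTop.hom (kA a) at h1
    rw [ha, map_zero, ← map_zero γ] at h1
    have h2 := congrArg (fun z : MonoidAlgebra B (Multiplicative M) => z.coeff m) (hγ h1)
    simp only [Finsupp.sum, MonoidAlgebra.coeff_sum, Finsupp.coe_finsetSum, Finset.sum_apply,
      MonoidAlgebra.coeff_single, MonoidHom.id_apply, Finsupp.single_apply, Finset.sum_ite_eq'] at h2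
    simp only [MonoidAlgebra.coeff_zero, Finsupp.coe_zero, Pi.zero_apply] at h2
    by_cases hm : m ∈ (co i a).coeff.support
    · rwa [if_pos hm] at h2
    · show kA ((co i a).coeff m) = 0
      rw [Finsupp.notMem_support_iff.1 hm, map_zero]
  -- idempotence
  have hidem : ∀ a m, P m ((co i a).coeff m) = P m a := by
    intro a m
    obtain ⟨Y, q, γ, hγ, hq⟩ := exists_univ (Y₀ := K) (Multiplicative M × Multiplicative M)
    let φ₁ := MonoidHom.inl (Multiplicative M) (Multiplicative M)
    let φ₂ := MonoidHom.inr (Multiplicative M) (Multiplicative M)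
    let τ₁ : Y ⟶ Red.DS S M := DSPts.pt (γ.toMonoidHom.comp ((MonoidAlgebra.of _ _).comp φ₁))
    let τ₂ : Y ⟶ Red.DS S M := DSPts.pt (γ.toMonoidHom.comp ((MonoidAlgebra.of _ _).comp φ₂))
    have hτ : τ₁ * τ₂ = DSPts.pt (γ.toMonoidHom.comp ((MonoidAlgebra.of _ _).comp
        ((MonoidHom.id (Multiplicative M)).prod (MonoidHom.id _)))) := by
      apply DSPts.char_injective
      rw [DSPts.char_mul, DSPts.char_pt, DSPts.char_pt, DSPts.char_pt]
      refine MonoidHom.ext fun y => ?_
      simp [φ₁, φ₂, ← map_mul, MonoidAlgebra.single_mul_single]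
    have key : ((τ₁ * τ₂) ≫ i) * (q ≫ k) * ((τ₁ * τ₂) ≫ i)⁻¹ =
        (τ₁ ≫ i) * ((τ₂ ≫ i) * (q ≫ k) * (τ₂ ≫ i)⁻¹) * (τ₁ ≫ i)⁻¹ := by
      rw [MonObj.mul_comp]; group
    have h1 := congrArg (fun f => f.left.appTop.hom a) key
    simp only [conj_appTop] at h1
    rw [hτ, ev_univ q γ hq _ k, ev_eq_sum] at h1
    simp only [conj_appTop] at h1
    simp only [τ₂] at h1
    simp only [ev_univ q γ hq _ k] at h1
    simp only [τ₁, DSPts.char_pt, MonoidHom.coe_comp, Function.comp_apply, RingHom.toMonoidHom_eq_coe,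
      MonoidHom.coe_coe, ← map_mul, Finsupp.sum, ← map_sum] at h1
    have h2 := congrArg (fun z : MonoidAlgebra B (Multiplicative M × Multiplicative M) => z.coeff (m, m)) (hγ h1)
    simp only [MonoidAlgebra.of_apply, Finset.sum_mul, MonoidAlgebra.single_mul_single, φ₁, φ₂,
      MonoidAlgebra.coeff_sum, Finsupp.coe_finsetSum, Finset.sum_apply,
      MonoidAlgebra.coeff_single, MonoidHom.prod_apply, MonoidHom.id_apply, MonoidHom.inl_apply, MonoidHom.inr_apply,
      Prod.mk_mul_mk, _root_.mul_one, _root_.one_mul, Finsupp.single_apply, Prod.mk.injEq, and_self,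
      Finset.sum_ite_eq', ite_and] at h2
    simp only [Finset.sum_ite_irrel, Finset.sum_const_zero, Finset.sum_ite_eq'] at h2
    by_cases hm : m ∈ (co i a).coeff.support
    · rw [if_pos hm, if_pos hm] at h2
      show kA _ = kA _
      by_cases h0 : m ∈ (co i ((co i a).coeff m)).coeff.support
      · rw [if_pos h0] at h2
        exact h2.symm
      · rw [if_neg h0] at h2
        rw [Finsupp.notMem_support_iff.1 h0, map_zero]
        exact h2.symm
    · show kA _ = kA _
      rw [Finsupp.notMem_support_iff.1 hm]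
      simp [co_eq]
  -- module structures
  letI : Algebra Γ(S, ⊤) B := K.hom.appTop.hom.toAlgebra
  haveI : Module.Finite Γ(S, ⊤) B := (IsFinite.finite_app K.hom ⊤ (isAffineOpen_top S))
  have halg : ∀ f, algebraMap Γ(S, ⊤) B f = kA (G.hom.appTop.hom f) := fun f => by
    show K.hom.appTop.hom f = _
    rw [← Over.w k]
    rfl
  have hco_add : ∀ a a' m, P m (a + a') = P m a + P m a' := fun a a' m => by
    simp [P, co_eq, map_add]
  let s := Function.surjInv hsurj
  have hs : ∀ m a, P m (s (kA a)) = P m a := fun m a => by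
    have h0 : kA (s (kA a) - a) = 0 := by rw [map_sub, Function.surjInv_eq hsurj, sub_self]
    have h1 := hco_add (s (kA a) - a) a m
    rw [sub_add_cancel, hwd _ h0 m, zero_add] at h1
    exact h1
  let Q : Multiplicative M → (B →ₗ[Γ(S, ⊤)] B) := fun m =>
    { toFun := fun b => P m (s b)
      map_add' := fun b b' => by
        obtain ⟨a, rfl⟩ := hsurj b; obtain ⟨a', rfl⟩ := hsurj b'
        rw [← map_add, hs, hs, hs, hco_add]
      map_smul' := fun f b => by
        obtain ⟨a, rfl⟩ := hsurj b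
        rw [Algebra.smul_def, halg, ← map_mul, hs, hs, RingHom.id_apply, Algebra.smul_def, halg]
        simp only [P, co_hom_mul, map_mul] }
  have hQQ : ∀ m b, Q m (Q m b) = Q m b := fun m b => by
    show P m (s (kA _)) = P m (s b)
    rw [hs, hidem]
  -- the weight parts vanish modulo every maximal ideal
  have hmax : ∀ (I : Ideal Γ(S, ⊤)), I.IsMaximal → ∀ m, m ≠ 1 → ∀ b, Q m b ∈ I • (⊤ : Submodule Γ(S, ⊤) B) := by
    intro I hI m hm b
    letI := Ideal.Quotient.field I
    let J : Ideal B := I.map (algebraMap Γ(S, ⊤) B)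
    let mkJ : CommRingCat.of B ⟶ CommRingCat.of (B ⧸ J) := CommRingCat.ofHom (Ideal.Quotient.mk J)
    let bκ : Spec (CommRingCat.of (Γ(S, ⊤) ⧸ I)) ⟶ S :=
      Spec.map (CommRingCat.ofHom (Ideal.Quotient.mk I)) ≫ S.isoSpec.inv
    let X₀ : Over S := Over.mk (Spec.map mkJ ≫ K.left.isoSpec.inv ≫ K.hom)
    let g₀ : X₀ ⟶ K := Over.homMk (Spec.map mkJ ≫ K.left.isoSpec.inv) (Category.assoc _ _ _)
    haveI : IsAffine X₀.left := inferInstanceAs (IsAffine (Spec (CommRingCat.of (B ⧸ J))))
    let wq : CommRingCat.of (Γ(S, ⊤) ⧸ I) ⟶ CommRingCat.of (B ⧸ J) :=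
      CommRingCat.ofHom (Ideal.quotientMap J (algebraMap Γ(S, ⊤) B) Ideal.le_comap_map)
    have hw : Spec.map wq ≫ bκ = X₀.hom := by
      show Spec.map wq ≫ Spec.map _ ≫ S.isoSpec.inv = Spec.map mkJ ≫ K.left.isoSpec.inv ≫ K.hom
      rw [← Scheme.isoSpec_inv_naturality K.hom, ← Spec.map_comp_assoc, ← Spec.map_comp_assoc]
      congr 2
    obtain ⟨Y, q, γ, hγ, hq⟩ := exists_univ (Y₀ := X₀) (Multiplicative M)
    let τ : Y ⟶ Red.DS S M :=
      DSPts.pt (γ.toMonoidHom.comp ((MonoidAlgebra.of _ (Multiplicative M)).comp (MonoidHom.id _)))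
    have hc := hfib _ bκ Y (q.left ≫ Spec.map wq) (by rw [Category.assoc, hw]; exact Over.w q) (q ≫ g₀) τ
    have hc2 : (τ ≫ i) * ((q ≫ g₀) ≫ k) * (τ ≫ i)⁻¹ = (q ≫ g₀) ≫ k := mul_inv_eq_iff_eq_mul.2 hc
    obtain ⟨a, rfl⟩ := hsurj b
    have h1 := congrArg (fun f => f.left.appTop.hom a) hc2
    rw [Category.assoc] at h1
    simp only [conj_appTop] at h1
    rw [ev_univ q γ hq (MonoidHom.id _) (g₀ ≫ k)] at h1
    simp only [Over.comp_left, Scheme.Hom.comp_appTop, CommRingCat.hom_comp, RingHom.comp_apply, hq] at h1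
    have h2 := congrArg (fun z : MonoidAlgebra Γ(X₀.left, ⊤) (Multiplicative M) => z.coeff m) (hγ h1)
    simp only [Finsupp.sum, MonoidAlgebra.coeff_sum, Finsupp.coe_finsetSum, Finset.sum_apply,
      MonoidAlgebra.coeff_single, MonoidHom.id_apply, Finsupp.single_apply, Finset.sum_ite_eq',
      if_neg (Ne.symm hm)] at h2
    have hz : g₀.left.appTop.hom (P m a) = 0 := by
      by_cases hms : m ∈ (co i a).coeff.support
      · rw [if_pos hms] at h2
        exact h2
      · simp [P, Finsupp.notMem_support_iff.1 hms]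
    have hg₀ : g₀.left.appTop = mkJ ≫ (Scheme.ΓSpecIso (CommRingCat.of (B ⧸ J))).inv := by
      have e : (Spec.map mkJ ≫ K.left.isoSpec.inv) ≫ K.left.toSpecΓ = Spec.map mkJ := by
        rw [Category.assoc, show K.left.isoSpec.inv ≫ K.left.toSpecΓ = 𝟙 _ from K.left.isoSpec.inv_hom_id]
        exact Category.comp_id _
      have e2 := congrArg Scheme.Hom.appTop e
      rw [Scheme.Hom.comp_appTop, Scheme.toSpecΓ_appTop] at e2
      rw [Scheme.ΓSpecIso_inv_naturality, ← cancel_epi (Scheme.ΓSpecIso (CommRingCat.of B)).hom, Iso.hom_inv_id_assoc]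
      exact e2
    rw [hg₀, CommRingCat.comp_apply] at hz
    have hz2 : mkJ.hom (P m a) = 0 :=
      ((Scheme.ΓSpecIso (CommRingCat.of (B ⧸ J))).symm.commRingCatIsoToRingEquiv).injective (by
        rw [map_zero]; exact hz)
    show P m (s (kA a)) ∈ _
    rw [hs, Ideal.smul_top_eq_map, Submodule.restrictScalars_mem]
    exact Ideal.Quotient.eq_zero_iff_mem.1 hz2
  have hQ0 : ∀ m, m ≠ 1 → Q m = 0 := by
    intro m hm
    let N := LinearMap.range (Q m)
    have hle : ∀ (I : Ideal Γ(S, ⊤)), I.IsMaximal → N ≤ I • N := by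
      intro I hI _ ⟨b, hb⟩
      have h1 : Q m (Q m b) ∈ Submodule.map (Q m) (I • (⊤ : Submodule Γ(S, ⊤) B)) :=
        Submodule.mem_map_of_mem (hmax I hI m hm b)
      rwa [Submodule.map_smul'', Submodule.map_top, hQQ, hb] at h1
    have hfg : N.FG := by
      show (LinearMap.range (Q m)).FG
      rw [LinearMap.range_eq_map]
      exact Submodule.FG.map _ Module.Finite.fg_top
    have hann : N.annihilator = ⊤ := by
      by_contra hne
      obtain ⟨I, hI, hle'⟩ := Ideal.exists_le_maximal _ hne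
      obtain ⟨r, hr, hr0⟩ := Submodule.exists_sub_one_mem_and_smul_eq_zero_of_fg_of_le_smul I N hfg (hle I hI)
      have hrI : r ∈ I := hle' (Submodule.mem_annihilator.2 hr0)
      exact hI.ne_top ((Ideal.eq_top_iff_one I).2 (by simpa using I.sub_mem hrI hr))
    exact LinearMap.range_eq_bot.1 (Submodule.annihilator_eq_top_iff.1 hann)
  refine commute_of_kills i t (x ≫ k) fun a m => ?_
  by_cases hm : m = 1
  · exact Or.inr (by rw [hm, map_one])
  · left
    have h := LinearMap.congr_fun (hQ0 m hm) (kA a)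
    change P m (s (kA a)) = 0 at h
    rw [hs] at h
    rw [Over.comp_left, Scheme.Hom.comp_appTop, CommRingCat.comp_apply]
    show x.left.appTop.hom (P m a) = 0
    rw [h, map_zero]

end Groth.L25.RedField
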