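import Groth.Agent.L25.RedField.FiniteCentral
import Groth.Agent.L25.RedField.TorusFiniteNormal
import Groth.Agent.L25.SplitSub.KernelLocal
import Groth.Agent.L25.GenWords.Generated
import Groth.Agent.L08.TorusWeights.Global
import Groth.Agent.L08.TorusWeights.Reductive
import Groth.Agent.S5255

/-!
# Quasi-finite flat normal subgroups, central in the fibres, are finite and central
-/

set_option autoImplicit false
set_option backward.isDefEq.respectTransparency.types false
set_option linter.style.haveILetI false
universe u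

open CategoryTheory CategoryTheory.Limits MonoidalCategory CartesianMonoidalCategory MonObj GrpObj AlgebraicGeometry
open Groth.L25

noncomputable section

namespace Groth.L25.RedField

variable {S : Scheme.{u}}

/-- equality of morphisms can be tested on a jointly surjective étale family -/
theorem hom_ext_etale_family {Z X : Over S} (a b : Z ⟶ X) {κ : Type u} (V : κ → Scheme.{u}) (e : ∀ x, V x ⟶ S)
    [∀ x, Etale (e x)] (hsurj : ∀ s : S, ∃ x p, e x p = s)
    (h : ∀ x, (Over.pullback (e x)).map a = (Over.pullback (e x)).map b) : a = b := by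
  let F : (∐ V) ⟶ S := Sigma.desc e
  haveI : Etale F := IsZariskiLocalAtSource.sigmaDesc (P := @Etale) fun x => inferInstance
  haveI : Surjective F := ⟨fun s => by
    obtain ⟨x, p, hp⟩ := hsurj s
    exact ⟨Sigma.ι V x p, by rw [← Scheme.Hom.comp_apply, Sigma.ι_desc]; exact hp⟩⟩
  haveI : EffectiveEpi (pullback.fst Z.hom F) := inferInstance
  refine Over.OverMorphism.ext ((cancel_epi (pullback.fst Z.hom F)).1 ?_)
  refine Scheme.Cover.hom_ext ((sigmaOpenCover V).pullback₁ (pullback.snd Z.hom F)) _ _ fun x => ?_
  let q : pullback (pullback.snd Z.hom F) (Sigma.ι V x) ⟶ pullback Z.hom (e x) :=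
    pullback.lift (pullback.fst _ _ ≫ pullback.fst Z.hom F) (pullback.snd _ _) (by
      rw [Category.assoc, pullback.condition, reassoc_of% pullback.condition (f := pullback.snd Z.hom F)
        (g := Sigma.ι V x), Sigma.ι_desc])
  show pullback.fst (pullback.snd Z.hom F) (Sigma.ι V x) ≫ pullback.fst Z.hom F ≫ a.left =
    pullback.fst (pullback.snd Z.hom F) (Sigma.ι V x) ≫ pullback.fst Z.hom F ≫ b.left
  have hq : q ≫ pullback.fst Z.hom (e x) = pullback.fst (pullback.snd Z.hom F) (Sigma.ι V x) ≫ pullback.fst Z.hom F :=
    pullback.lift_fst _ _ _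
  rw [← reassoc_of% hq, ← reassoc_of% hq]
  refine congrArg (q ≫ ·) ?_
  have e1 := congrArg (fun m => m.left ≫ pullback.fst X.hom (e x)) (h x)
  simp only [Over.pullback, Over.homMk_left, pullback.lift_fst] at e1
  exact e1

/-- **A flat normal closed subgroup of a reductive group with finite central fibres is finite and central.** -/
theorem finite_and_central {G K : Over S} [GrpObj G] [GrpObj K] (hG : Red.IsReductive G) (k : K ⟶ G) [IsMonHom k]
    [IsClosedImmersion k.left] (hn : AlgGrp.IsNormalHom k) [Flat K.hom] [LocallyOfFinitePresentation K.hom]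
    (hfin : ∀ s : S, IsFinite (K.hom.fiberToSpecResidueField s))
    (hcen : ∀ (L : Type u) [Field L] (b : Spec (CommRingCat.of L) ⟶ S) (X : Over S)
      (w : X.left ⟶ Spec (CommRingCat.of L)), w ≫ b = X.hom →
      ∀ (x : X ⟶ K) (g : X ⟶ G), (x ≫ k) * g = g * (x ≫ k)) :
    IsFinite K.hom ∧ ∀ (X : Over S) (x : X ⟶ K) (g : X ⟶ G), (x ≫ k) * g = g * (x ≫ k) := by
  haveI := hG.1; haveI := hG.2.1
  haveI : Mono k := Over.mono_of_mono_left k
  haveI : IsAffineHom K.hom := by rw [← Over.w k]; infer_instance
  have h0 := Groth.L08.TorusWeights.unipotentRankZero_of_isReductive hG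
  have hconn := Groth.L08.TorusWeights.isConnected_of_isReductive hG
  choose P hP e p M instM i he hp hM hi using fun s =>
    Groth.L08.TorusWeights.exists_chart_maxTorus (Groth.L08.TorusWeights.redRankLocallyConstant_of_isReductive hG) s
  have hkb : ∀ x, IsMonHom ((Over.pullback (e x)).map k) := fun x => Groth.L25.MonoClosed.isMonHom_pullbackMap _ _
  have hkc : ∀ x, IsClosedImmersion ((Over.pullback (e x)).map k).left := fun x =>
    MorphismProperty.overPullbackMap (P := @IsClosedImmersion) (e x) k inferInstance
  have hfinP : ∀ x (q : P x), IsFinite ((Red.bc (e x) K).hom.fiberToSpecResidueField q) := fun x q => by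
    show IsFinite (pullback.snd (pullback.snd K.hom (e x)) ((P x).fromSpecResidueField q))
    rw [← pullbackLeftPullbackSndIso_hom_snd K.hom (e x) ((P x).fromSpecResidueField q)]
    exact (MorphismProperty.cancel_left_of_respectsIso @IsFinite _ _).2
      (isFinite_snd_of_fibre K.hom hfin ((P x).residueField q) ((P x).fromSpecResidueField q ≫ e x))
  have hcenP : ∀ x (L : Type u) [Field L] (b : Spec (CommRingCat.of L) ⟶ P x) (X : Over (P x))
      (w : X.left ⟶ Spec (CommRingCat.of L)), w ≫ b = X.hom →
      ∀ (y : X ⟶ Red.bc (e x) K) (g : X ⟶ Red.bc (e x) G),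
        (y ≫ (Over.pullback (e x)).map k) * g = g * (y ≫ (Over.pullback (e x)).map k) := by
    intro x L _ b X w hw y g
    apply SplitSub.toBase_injective (e x)
    rw [NilAction.toBase_mul, NilAction.toBase_mul, SplitSub.toBase_map]
    exact hcen L (b ≫ e x) (Over.mk (X.hom ≫ e x)) w (by rw [← Category.assoc, hw]; rfl) _ _
  have hP1 : ∀ x, IsFinite (Red.bc (e x) K).hom := fun x => by
    haveI := hP x; haveI := hkb x; haveI := hkc x
    haveI : Smooth (Red.bc (e x) G).hom := inferInstanceAs (Smooth (pullback.snd G.hom (e x)))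
    haveI : IsAffineHom (Red.bc (e x) G).hom := MorphismProperty.pullback_snd (P := @IsAffineHom) G.hom (e x) inferInstance
    haveI : IsAffine (Red.bc (e x) G).left := isAffine_of_isAffineHom (Red.bc (e x) G).hom
    haveI : IsAffineHom (Red.bc (e x) K).hom := MorphismProperty.pullback_snd (P := @IsAffineHom) K.hom (e x) inferInstance
    haveI : LocallyOfFinitePresentation (Red.bc (e x) K).hom :=
      inferInstanceAs (LocallyOfFinitePresentation (pullback.snd K.hom (e x)))
    haveI := universallyClosed_of_central (Groth.L08.TorusWeights.unipotentRankZero_bc (e x) h0)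
      ((Over.pullback (e x)).map k) (hfinP x) (hcenP x) (hi x)
    rw [IsFinite.iff_isProper_and_isAffineHom]
    exact ⟨⟨⟩, inferInstance⟩
  refine ⟨isFinite_of_charts K.hom fun s => ⟨P s, e s, p s, he s, hp s, hP1 s⟩, fun X x g => ?_⟩
  suffices huniv : (fst K G ≫ k) * snd K G = snd K G * (fst K G ≫ k) by
    have := congrArg (lift x g ≫ ·) huniv
    simpa only [MonObj.comp_mul, lift_fst_assoc, lift_snd] using this
  refine hom_ext_etale_family _ _ P e (fun s => ⟨s, p s, hp s⟩) fun s => ?_
  haveI := hP s; haveI := hkb s; haveI := hkc s; haveI := hP1 s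
  let GP := Red.bc (e s) G
  let KP := Red.bc (e s) K
  let kP : KP ⟶ GP := (Over.pullback (e s)).map k
  haveI : Mono kP := Over.mono_of_mono_left kP
  haveI : Smooth GP.hom := inferInstanceAs (Smooth (pullback.snd G.hom (e s)))
  haveI : IsAffineHom GP.hom := MorphismProperty.pullback_snd (P := @IsAffineHom) G.hom (e s) inferInstance
  haveI : IsAffine GP.left := isAffine_of_isAffineHom GP.hom
  haveI := (hi s).1; haveI := (hi s).2.1
  have hnP : AlgGrp.IsNormalHom kP := Groth.L25.GenWords.isNormalHom_bc (e s) k hn
  have hcomm := torus_centralizes (i s) kP (fun X t y => hnP X (t ≫ i s) y)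
    fun L _ b X w hw y t => (hcenP s L b X w hw y (t ≫ i s)).symm
  obtain ⟨τ, hτ⟩ := Groth.L08.TorusWeights.exists_fac_selfCentral
    (Groth.L08.TorusWeights.unipotentRankZero_bc (e s) h0) (hi s) kP fun X y t => (hcomm X y t).symm
  haveI : IsMonHom τ := Groth.L08.TorusWeights.isMonHom_of_mono τ (i s) kP hτ
  haveI : IsClosedImmersion τ.left := by
    haveI : IsClosedImmersion (τ.left ≫ (i s).left) := by rw [← Over.comp_left, hτ]; exact hkc s
    haveI : IsAffineHom (Red.DS (P s) (M s)).hom :=
      MorphismProperty.pullback_snd (P := @IsAffineHom) _ _ (isAffineHom_of_isAffine _)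
    haveI : IsAffineHom (i s).left := by
      haveI : IsAffineHom ((i s).left ≫ GP.hom) := by rw [Over.w (i s)]; infer_instance
      exact IsAffineHom.of_comp (i s).left GP.hom
    exact IsClosedImmersion.of_comp τ.left (i s).left
  have hKm : SGA3x.IsMultTypeFT KP :=
    Groth.L25.MultSub.isMultTypeFT_of_closed KP (Red.DS (P s) (M s))
      (Groth.L25.SplitSub.isMultTypeFT_DS (P s) (M s) (hM s)) τ ‹_›
      (MorphismProperty.pullback_snd K.hom (e s) ‹Flat K.hom›)
      (MorphismProperty.pullback_snd K.hom (e s) ‹LocallyOfFinitePresentation K.hom›)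
  haveI : LocallyOfFiniteType GP.hom := inferInstance
  have hcP : ∀ q : P s, ConnectedSpace ↥(pullback GP.hom ((P s).fromSpecResidueField q)) := fun q => by
    haveI : ConnectedSpace ↥(pullback G.hom ((P s).fromSpecResidueField q ≫ e s)) :=
      Groth.L08.Borel.connectedSpace_bc_point G hconn (K := (P s).residueField q) ((P s).fromSpecResidueField q ≫ e s)
    exact (pullbackLeftPullbackSndIso G.hom (e s) ((P s).fromSpecResidueField q)).inv.surjective.connectedSpace
      (pullbackLeftPullbackSndIso G.hom (e s) ((P s).fromSpecResidueField q)).inv.continuous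
  have hc := Groth.Agent.S5255.result GP KP hcP kP hKm hnP _ ((Over.pullback (e s)).map (snd K G))
    ((Over.pullback (e s)).map (fst K G))
  rw [Functor.map_mul, Functor.map_mul, Functor.map_comp]
  exact hc.symm

end Groth.L25.RedField
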