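import Groth.Agent.L25.RedField.Chars

/-!
# A character of a reductive group is detected on a central torus
-/

set_option autoImplicit false
set_option backward.isDefEq.respectTransparency.types false
set_option linter.style.haveILetI false
set_option linter.unusedSectionVars false

universe u

open CategoryTheory CategoryTheory.Limits MonoidalCategory CartesianMonoidalCategory MonObj GrpObj AlgebraicGeometry
open Groth.L08.Borel

noncomputable section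

namespace Groth.L25.RedField

variable {k : Type u} [Field k] [IsAlgClosed k]

local notation "U1" => 𝟙_ (Over (Spec (CommRingCat.of k)))
local notation "SK" => Spec (CommRingCat.of k)

/-- **A character of a reductive group which kills every central torus is trivial.** -/
theorem hom_Gm_eq_one_of_centralTori {G : Over SK} [GrpObj G] (hG : Red.IsReductiveOver k G) (χ : G ⟶ Red.Gm SK)
    [IsMonHom χ]
    (h : ∀ (C : Over SK) (_ : GrpObj C) (c : C ⟶ G), IsMonHom c → Mono c → Red.IsTorus C →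
      (∀ (X : Over SK) (x : X ⟶ C) (g : X ⟶ G), (x ≫ c) * g = g * (x ≫ c)) → c ≫ χ = 1) : χ = 1 := by
  classical
  haveI := hG.1; haveI := hG.2.1; haveI := hG.2.2.1
  haveI : LocallyOfFiniteType G.hom := inferInstance
  obtain ⟨T, gT, iT, hT⟩ := exists_maxTorus_gen G
  haveI := hT.1; haveI := hT.2.1
  refine hom_eq_one_of_torus hG hT χ ?_
  obtain ⟨r, ⟨eT⟩⟩ := exists_split_rank hT.2.2.1
  let M := Fin r → ℤ
  let e : T ⟶ Red.DS SK M := eT.hom.hom.hom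
  let ei : Red.DS SK M ⟶ T := eT.inv.hom.hom
  have hee : e ≫ ei = 𝟙 T := congrArg (fun f => f.hom.hom) eT.hom_inv_id
  have hee' : ei ≫ e = 𝟙 _ := congrArg (fun f => f.hom.hom) eT.inv_hom_id
  haveI : IsMonHom e := eT.hom.hom.isMonHom_hom
  haveI : IsMonHom ei := eT.inv.hom.isMonHom_hom
  haveI : IsIso ei := ⟨e, hee', hee⟩
  haveI : Monoid.FG (Multiplicative M) := AddMonoid.fg_iff_mul_fg.1
    (AddGroup.fg_iff_addMonoid_fg.1 (Module.Finite.iff_addGroup_fg.1 inferInstance))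
  haveI : Monoid.FG (Multiplicative ℤ) := AddMonoid.fg_iff_mul_fg.1
    (AddGroup.fg_iff_addMonoid_fg.1 (Module.Finite.iff_addGroup_fg.1 inferInstance))
  obtain ⟨ξ, hξ⟩ := Groth.Agent.S14754.exists_DSmap (k := k) (ei ≫ iT ≫ χ)
  by_contra hne
  have hξ0 : ξ 1 ≠ 0 := fun h0 => hne (by
    rw [← cancel_epi ei, hξ, MonObj.comp_one]
    have e0 : ξ = 0 := AddMonoidHom.ext_int (by simp [h0])
    rw [e0]
    exact Groth.Agent.S14754.DSmap_zero)
  -- the action of the normalizer on the characters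
  let Acts : (U1 ⟶ G) → (M →+ M) → Prop := fun n θ =>
    AGF.conjBy n (ei ≫ iT) = Red.DSmap SK θ ≫ ei ≫ iT
  let Θ : Set (M →+ M) := {θ | ∃ (n : U1 ⟶ G) (τ : T ≅ T), τ.hom ≫ iT = AGF.conjBy n iT ∧ Acts n θ}
  have hinj : ∀ θ θ' : M →+ M, Red.DSmap SK θ ≫ ei ≫ iT = Red.DSmap SK θ' ≫ ei ≫ iT → θ = θ' :=
    fun θ θ' h => Groth.Agent.S14754.DSmap_injective (k := k) ((cancel_mono (ei ≫ iT)).1 h)
  have hacts : ∀ (n : U1 ⟶ G) (τ : T ≅ T), τ.hom ≫ iT = AGF.conjBy n iT → ∃ θ, Acts n θ := by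
    intro n τ hτ
    haveI : IsMonHom τ.hom := by
      haveI := isMonHom_conjBy n iT
      exact isMonHom_of_comp_mono τ.hom iT _ hτ
    obtain ⟨θ, hθ⟩ := Groth.Agent.S14754.exists_DSmap (k := k) (ei ≫ τ.hom ≫ e)
    refine ⟨θ, ?_⟩
    show AGF.conjBy n (ei ≫ iT) = _
    rw [← hθ, ← comp_conjBy, ← hτ]
    simp only [Category.assoc, reassoc_of% hee]
  have hmul : ∀ {n n' : U1 ⟶ G} {θ θ' : M →+ M}, Acts n θ → Acts n' θ' → Acts (n * n') (θ'.comp θ) := by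
    intro n n' θ θ' h h'
    show AGF.conjBy (n * n') (ei ≫ iT) = _
    rw [← conjBy_conjBy, h', ← comp_conjBy, h, ← Groth.L25.TorusTorsion.DSmap_comp, Category.assoc]
  have hinvτ : ∀ {n : U1 ⟶ G} {τ : T ≅ T}, τ.hom ≫ iT = AGF.conjBy n iT → τ.inv ≫ iT = AGF.conjBy n⁻¹ iT := by
    intro n τ hτ
    rw [Iso.inv_comp_eq, comp_conjBy, hτ, conjBy_conjBy, inv_mul_cancel, conjBy_one]
  have hΘmul : ∀ θ ∈ Θ, ∀ θ' ∈ Θ, θ.comp θ' ∈ Θ := by
    rintro θ ⟨n, τ, hτ, h⟩ θ' ⟨n', τ', hτ', h'⟩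
    refine ⟨n' * n, τ ≪≫ τ', ?_, hmul h' h⟩
    rw [Iso.trans_hom, Category.assoc, hτ', comp_conjBy, hτ, conjBy_conjBy]
  have hΘone : AddMonoidHom.id M ∈ Θ := ⟨1, Iso.refl T, by rw [conjBy_one, Iso.refl_hom, Category.id_comp], by
    show AGF.conjBy 1 (ei ≫ iT) = _
    rw [conjBy_one, Groth.L25.TorusTorsion.DSmap_id, Category.id_comp]⟩
  have hΘinv : ∀ θ ∈ Θ, ∃ θ' ∈ Θ, θ.comp θ' = AddMonoidHom.id M := by
    rintro θ ⟨n, τ, hτ, h⟩
    obtain ⟨θ', h'⟩ := hacts n⁻¹ τ.symm (hinvτ hτ)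
    refine ⟨θ', ⟨n⁻¹, τ.symm, hinvτ hτ, h'⟩, hinj _ _ ?_⟩
    rw [← hmul h' h, inv_mul_cancel, conjBy_one, Groth.L25.TorusTorsion.DSmap_id, Category.id_comp]
  -- finiteness
  obtain ⟨C, gC, c, hc⟩ := exists_centralizer_torus iT hT.2.2.1
  obtain ⟨R, hR, hreps⟩ := exists_finite_reps hT.2.2.1 hc
  haveI := hc.1; haveI := hc.2.1
  have hΘfin : Θ.Finite := by
    refine Set.Finite.of_finite_image (f := fun θ : M →+ M => Red.DSmap SK θ ≫ ei ≫ iT) ?_ fun a _ b _ h => hinj a b h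
    refine (hR.image fun r => AGF.conjBy r (ei ≫ iT)).subset ?_
    rintro _ ⟨θ, ⟨n, τ, hτ, h⟩, rfl⟩
    obtain ⟨r', hr', z, hz⟩ := hreps n fun X x => by
      refine ⟨⟨x ≫ τ.hom, ?_⟩, ⟨x ≫ τ.inv, ?_⟩⟩
      · rw [Category.assoc, hτ, comp_conjBy]
      · rw [Category.assoc, hinvτ hτ, comp_conjBy]
        simp [AGF.conjBy, GrpObj.comp_inv]
    refine ⟨r', hr', ?_⟩
    show AGF.conjBy r' (ei ≫ iT) = Red.DSmap SK θ ≫ ei ≫ iT
    rw [← h, ← hz, ← conjBy_conjBy]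
    refine congrArg (AGF.conjBy r') ?_
    have h1 := (hc.2.2 U1 (z ≫ c)).1 ⟨z, rfl⟩ (Red.DS SK M) (toUnit _) ei
    simp only [AGF.conjBy]
    rw [h1, mul_inv_cancel_right]
  let F := hΘfin.toFinset
  -- the averaged cocharacter
  obtain ⟨i, hi⟩ : ∃ i, ξ 1 i ≠ 0 := by
    by_contra hh
    exact hξ0 (funext fun i => not_not.1 fun hi => hh ⟨i, hi⟩)
  let l₀ : M →+ ℤ := Pi.evalAddMonoidHom (fun _ : Fin r => ℤ) i
  let lam : M →+ ℤ := ∑ θ ∈ F, l₀.comp θ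
  have hfixl : ∀ θ' ∈ Θ, lam.comp θ' = lam := by
    intro θ' hθ'
    refine AddMonoidHom.ext fun x => ?_
    simp only [lam, AddMonoidHom.comp_apply, AddMonoidHom.finsetSum_apply]
    obtain ⟨θ'', hθ'', he⟩ := hΘinv θ' hθ'
    refine Finset.sum_bij (fun θ _ => θ.comp θ') (fun θ hθ => ?_) (fun a _ b _ h => ?_) (fun θ hθ => ?_)
      fun θ _ => rfl
    · exact hΘfin.mem_toFinset.2 (hΘmul θ (hΘfin.mem_toFinset.1 hθ) θ' hθ')
    · have h2 := congrArg (fun f : M →+ M => f.comp θ'') h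
      simp only [AddMonoidHom.comp_assoc, he, AddMonoidHom.comp_id] at h2
      exact h2
    · refine ⟨θ.comp θ'', hΘfin.mem_toFinset.2 (hΘmul θ (hΘfin.mem_toFinset.1 hθ) θ'' hθ''), ?_⟩
      obtain ⟨θ₃, -, he3⟩ := hΘinv θ'' hθ''
      have hθ₃ : θ₃ = θ' := by
        calc θ₃ = (θ'.comp θ'').comp θ₃ := by rw [he, AddMonoidHom.id_comp]
          _ = θ' := by rw [AddMonoidHom.comp_assoc, he3, AddMonoidHom.comp_id]
      rw [AddMonoidHom.comp_assoc, ← hθ₃, he3, AddMonoidHom.comp_id]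
  have hξfix : ∀ θ ∈ Θ, θ (ξ 1) = ξ 1 := by
    rintro θ ⟨n, τ, hτ, h⟩
    have h1 := congrArg (fun f => f ≫ χ) h
    have h2 : AGF.conjBy n (ei ≫ iT) ≫ χ = ei ≫ iT ≫ χ := (conj_comp_eq χ n (ei ≫ iT) fun {Z} x y => by
      refine (GmPts.equiv Z).injective ?_
      rw [map_mul, map_mul, map_inv, mul_comm (GmPts.equiv Z x), _root_.mul_assoc, mul_inv_cancel, _root_.mul_one]).trans
      (Category.assoc _ _ _)
    simp only [h2, Category.assoc, hξ, Groth.L25.TorusTorsion.DSmap_comp] at h1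
    exact (DFunLike.congr_fun (Groth.Agent.S14754.DSmap_injective (k := k) h1) 1).symm
  have hlam : lam (ξ 1) ≠ 0 := by
    have e1 : lam (ξ 1) = F.card • ξ 1 i := by
      simp only [lam, AddMonoidHom.finsetSum_apply, AddMonoidHom.comp_apply]
      rw [← Finset.sum_const]
      refine Finset.sum_congr rfl fun θ hθ => ?_
      rw [hξfix θ (hΘfin.mem_toFinset.1 hθ)]
      rfl
    rw [e1, nsmul_eq_mul]
    refine mul_ne_zero ?_ hi
    exact_mod_cast Finset.card_ne_zero_of_mem (hΘfin.mem_toFinset.2 hΘone)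
  -- it is central
  let ν : Red.DS SK ℤ ⟶ T := Red.DSmap SK lam ≫ ei
  haveI : IsMonHom ν := inferInstanceAs (IsMonHom (Red.DSmap SK lam ≫ ei))
  have hfix : ∀ (n : U1 ⟶ G) (τ : T ≅ T), τ.hom ≫ iT = AGF.conjBy n iT → AGF.conjBy n (ν ≫ iT) = ν ≫ iT := by
    intro n τ hτ
    obtain ⟨θ, hθ⟩ := hacts n τ hτ
    show AGF.conjBy n ((Red.DSmap SK lam ≫ ei) ≫ iT) = (Red.DSmap SK lam ≫ ei) ≫ iT
    rw [Category.assoc, ← comp_conjBy, hθ, ← Category.assoc, Groth.L25.TorusTorsion.DSmap_comp,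
      hfixl θ ⟨n, τ, hτ, hθ⟩]
  let ι1 : ℤ →+ (Fin 1 → ℤ) := AddMonoidHom.pi fun _ => AddMonoidHom.id ℤ
  let Λ : Red.DS SK (Fin 1 → ℤ) ⟶ G := Red.DSmap SK ι1 ≫ ν ≫ iT
  haveI : IsMonHom Λ := inferInstanceAs (IsMonHom (Red.DSmap SK ι1 ≫ ν ≫ iT))
  have hS1 := isTorus_ds SK 1
  obtain ⟨hDa, hDs, hDc, -, -⟩ := torus_props hS1
  haveI := hDa; haveI := hDs; haveI := hDc
  haveI : QuasiCompact (Red.DS SK (Fin 1 → ℤ)).hom := quasiCompact_of_compactSpace _
  obtain ⟨C₁, gC₁, p, i₁, hp, hi₁, hpi, hps, hic, hCs, hCc, -⟩ := exists_image_smooth Λ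
  haveI := hp; haveI := hi₁; haveI := hps; haveI := hic; haveI := hCs; haveI := hCc
  haveI : IsAffine C₁.left := isAffine_of_isAffineHom i₁.left
  haveI : IsReduced C₁.left := Groth.Agent.AV.isReduced_of_smooth_field (k := k) C₁.hom
  haveI : Mono i₁ := Groth.L08.mono_of_closedImmersion i₁
  have hC₁ := isTorus_of_surjective_torus hS1 p
  have hcen : ∀ (X : Over SK) (x : X ⟶ C₁) (g : X ⟶ G), (x ≫ i₁) * g = g * (x ≫ i₁) := by
    have h0 : ∀ (y : Red.DS SK (Fin 1 → ℤ) ⊗ G ⟶ Red.DS SK (Fin 1 → ℤ))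
        (g : Red.DS SK (Fin 1 → ℤ) ⊗ G ⟶ G), (y ≫ Λ) * g = g * (y ≫ Λ) := fun y g => by
      have := central_of_fixed hG hT ν hfix (y ≫ Red.DSmap SK ι1) g
      simpa only [Category.assoc, Λ] using this
    haveI : IsDominant (p ▷ G).left := by
      haveI : Surjective (p ▷ G).left := Groth.L14.NRQuot.surjective_whiskerRight p G
      infer_instance
    haveI : IsReduced (C₁ ⊗ G).left := by
      haveI : Smooth (C₁ ⊗ G).hom := inferInstanceAs (Smooth (pullback.fst C₁.hom G.hom ≫ C₁.hom))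
      exact Groth.Agent.AV.isReduced_of_smooth_field (k := k) (C₁ ⊗ G).hom
    haveI : IsSeparated G.hom := Groth.L08.AbelianGrp.isSeparated G
    have huniv : (fst C₁ G ≫ i₁) * snd C₁ G = snd C₁ G * (fst C₁ G ≫ i₁) := by
      refine Over.OverMorphism.ext (ext_of_isDominant_of_isSeparated G.hom (by rw [Over.w, Over.w]) (p ▷ G).left ?_)
      refine congrArg CommaMorphism.left (?_ : (p ▷ G) ≫ _ = (p ▷ G) ≫ _)
      simp only [MonObj.comp_mul, whiskerRight_fst_assoc, whiskerRight_snd, hpi]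
      exact h0 _ _
    intro X x g
    have := congrArg (lift x g ≫ ·) huniv
    simpa only [MonObj.comp_mul, lift_fst_assoc, lift_snd] using this
  have hkill := h C₁ gC₁ i₁ inferInstance (Over.mono_of_mono_left i₁) hC₁ hcen
  have hΛ1 : Red.DSmap SK ι1 ≫ Red.DSmap SK lam ≫ Red.DSmap SK ξ = Red.DSmap SK (0 : ℤ →+ (Fin 1 → ℤ)) := by
    rw [← hξ, Groth.Agent.S14754.DSmap_zero]
    have e : Λ ≫ χ = 1 := by rw [← hpi, Category.assoc, hkill, MonObj.comp_one]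
    simpa only [Λ, ν, Category.assoc] using e
  refine hlam ?_
  rw [Groth.L25.TorusTorsion.DSmap_comp, Groth.L25.TorusTorsion.DSmap_comp] at hΛ1
  have h4 := DFunLike.congr_fun (Groth.Agent.S14754.DSmap_injective (k := k) hΛ1) 1
  exact congrFun h4 0

end Groth.L25.RedField
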