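import Groth.Agent.L25.RedField.WeylInvariant
import Groth.Agent.L25.RedField.NormalSub
import Groth.Agent.L14.Luna.SemiRank.RootBorel
import Groth.Agent.L19.SpecSub.NormTorus
import Groth.Agent.L08.TorusWeights.GenTori
import Groth.Agent.L08.TorusWeights.CentreTori
import Groth.Agent.L08.FlatHom
import Groth.Agent.L24.TorusField.CentralQuot
import Groth.Agent.L26.Theta.QuotAV
import Groth.Agent.L08.Borel.MaxToriConj
import Groth.Agent.S5237

/-!
# The derived group of a reductive group and its maximal tori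
-/

set_option autoImplicit false
set_option backward.isDefEq.respectTransparency.types false
set_option linter.style.haveILetI false
set_option linter.unusedSectionVars false

universe u

open CategoryTheory CategoryTheory.Limits MonoidalCategory CartesianMonoidalCategory MonObj GrpObj AlgebraicGeometry
open Groth.L08.Borel

noncomputable section

namespace Groth.L25.RedField

variable {k : Type u} [Field k] [IsAlgClosed k]

local notation "U1" => 𝟙_ (Over (Spec (CommRingCat.of k)))
local notation "SK" => Spec (CommRingCat.of k)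

/-- **The derived group over an algebraically closed field**: smooth, connected, with a flat commutative quotient,
killed by every homomorphism to a commutative separated group. -/
theorem exists_derived_smooth (G : Over SK) [GrpObj G] [IsAffine G.left] [Smooth G.hom] [ConnectedSpace G.left] :
    ∃ (D : Over SK) (_ : GrpObj D) (d : D ⟶ G) (Q : Over SK) (_ : GrpObj Q) (q : G ⟶ Q),
      IsMonHom d ∧ IsClosedImmersion d.left ∧ Smooth D.hom ∧ ConnectedSpace D.left ∧ AlgGrp.IsNormalHom d ∧
      IsMonHom q ∧ IsAffine Q.left ∧ LocallyOfFiniteType Q.hom ∧ IsReduced Q.left ∧ Flat q.left ∧ Surjective q.left ∧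
      IsCommMonObj Q ∧ AlgGrp.IsKernel d q ∧
      ∀ (H : Over SK) [GrpObj H] [IsSeparated H.hom] (χ : G ⟶ H) [IsMonHom χ],
        (∀ {Z : Over SK} (x y : Z ⟶ H), x * y = y * x) → d ≫ χ = 1 := by
  haveI : LocallyOfFiniteType G.hom := inferInstance
  haveI : Smooth (G ⊗ G).hom := inferInstanceAs (Smooth (pullback.fst G.hom G.hom ≫ G.hom))
  haveI : IsLocallyNoetherian G.left := LocallyOfFiniteType.isLocallyNoetherian G.hom
  haveI : IrreducibleSpace G.left := Groth.L25.Component.irreducibleSpace G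
  haveI : IrreducibleSpace (G ⊗ G).left := Groth.L25.GenWords.irreducibleSpace_tensor G G
  let c : G ⊗ G ⟶ G := GenWords.comm (𝟙 G) (𝟙 G)
  have hx₀ : lift (1 : U1 ⟶ G) (1 : U1 ⟶ G) ≫ c = 1 := by
    simp [c, Groth.L25.GenWords.comp_comm]
  obtain ⟨D, gD, d, hd, hdc, hDs, hDcon, ⟨c', hc'⟩, hmin⟩ :=
    Groth.L14.Luna.SemiRank.exists_generated_connected c (lift 1 1) hx₀
  haveI := hd; haveI := hdc; haveI := hDs; haveI := hDcon
  have hn : AlgGrp.IsNormalHom d := fun X g n => by
    refine ⟨(lift g (n ≫ d) ≫ c') * n, ?_⟩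
    rw [MonObj.mul_comp, Category.assoc (lift g (n ≫ d)) c', hc']
    simp only [c, Groth.L25.GenWords.comp_comm, lift_fst, lift_snd, Category.comp_id, inv_mul_cancel_right]
  obtain ⟨Q, gQ, q, hq, hQa, hQl, hqf, hqs, hker⟩ := Groth.Agent.S3278.result k G D d hn
  haveI := hq; haveI := hQl; haveI := hqf; haveI := hqs
  have hcq : c ≫ q = 1 := by
    rw [← hc', Category.assoc, hker.w, ← Category.assoc, toUnit_unique (c' ≫ toUnit D) (toUnit _), ← Hom.one_def]
  have hQc : IsCommMonObj Q := isCommMonObj_of_points Q (comm_of_commutators q fun X a b => by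
    have h1 := lift a b ≫= hcq
    rw [MonObj.comp_one, ← Category.assoc] at h1
    simp only [c, Groth.L25.GenWords.comp_comm, lift_fst, lift_snd, Category.comp_id, MonObj.mul_comp,
      GrpObj.inv_comp] at h1
    exact mul_inv_eq_iff_eq_mul.1 (mul_inv_eq_one.1 h1))
  haveI : IsReduced G.left := Groth.Agent.AV.isReduced_of_smooth_field (k := k) G.hom
  haveI : LocallyOfFinitePresentation q.left := by
    haveI : LocallyOfFiniteType (q.left ≫ Q.hom) := by rw [Over.w q]; infer_instance
    haveI : LocallyOfFiniteType q.left := locallyOfFiniteType_of_comp q.left Q.hom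
    haveI : IsLocallyNoetherian Q.left := LocallyOfFiniteType.isLocallyNoetherian Q.hom
    infer_instance
  haveI : IsReduced Q.left := Groth.Agent.ThetaQuot.isReduced_of_flat_surjective q.left
  refine ⟨D, gD, d, Q, gQ, q, hd, hdc, hDs, hDcon, hn, hq, hQa, hQl, inferInstance, hqf, hqs, hQc, hker,
    fun H _ _ χ _ hcomm => ?_⟩
  obtain ⟨K, gK, ι', hι, hιc, -, hK⟩ := Groth.L08.AbelianGrp.exists_kernel χ
  obtain ⟨z, hz, -⟩ := hK.exists_lift c (toUnit _) (by
    rw [comm_comp_eq_one (𝟙 G) (𝟙 G) χ hcomm, Hom.one_def])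
  obtain ⟨j, hj⟩ := hmin K gK ι' hι hιc ⟨z, hz⟩
  rw [← hj, Category.assoc, hK.w, ← Category.assoc, toUnit_unique (j ≫ toUnit K) (toUnit D), ← Hom.one_def]

/-- conjugation is invisible in a commutative group -/
theorem conjBy_comp_eq {S : Scheme.{u}} {G H A : Over S} [GrpObj G] [GrpObj H] (ψ : G ⟶ H) [IsMonHom ψ]
    (hcomm : ∀ {Z : Over S} (x y : Z ⟶ H), x * y = y * x) (g : 𝟙_ (Over S) ⟶ G) (f : A ⟶ G) :
    AGF.conjBy g f ≫ ψ = f ≫ ψ := by
  simp only [AGF.conjBy, MonObj.mul_comp, GrpObj.inv_comp, Category.assoc]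
  rw [hcomm (toUnit A ≫ g ≫ ψ), mul_inv_cancel_right]

/-- **A maximal torus maps onto the commutative quotients of a reductive group.** -/
theorem surjective_maxTorus_comp {G T Q : Over SK} [GrpObj G] [GrpObj T] [GrpObj Q] (hG : Red.IsReductive G)
    {iT : T ⟶ G} (hT : AGF.IsMaxTorus iT) [LocallyOfFiniteType Q.hom] (q : G ⟶ Q) [IsMonHom q] [Surjective q.left]
    (hcomm : ∀ {Z : Over SK} (x y : Z ⟶ Q), x * y = y * x) : Surjective (iT ≫ q).left := by
  haveI := hG.1; haveI := hG.2.1
  haveI : QuasiCompact G.hom := inferInstance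
  haveI := hT.1; haveI := hT.2.1
  obtain ⟨-, hTs, -, -, -⟩ := torus_props hT.2.2.1
  haveI := hTs
  obtain ⟨hTa, -, hTcon, -, -⟩ := torus_props hT.2.2.1
  haveI := hTa; haveI := hTcon
  haveI : QuasiCompact T.hom := quasiCompact_of_compactSpace _
  obtain ⟨C₁, gC₁, p, i₁, hp, hi₁, hpi, hps, hic, -, -, -⟩ := exists_image_smooth (iT ≫ q)
  haveI := hp; haveI := hi₁; haveI := hps; haveI := hic
  haveI : IsClosedImmersion (pullback.fst q.left i₁.left) := MorphismProperty.pullback_fst _ _ hic
  let H : Over SK := Over.mk (pullback.fst q.left i₁.left ≫ G.hom)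
  let iH : H ⟶ G := Over.homMk (pullback.fst q.left i₁.left)
  haveI : IsClosedImmersion iH.left := inferInstanceAs (IsClosedImmersion (pullback.fst q.left i₁.left))
  have hiso := Groth.L08.TorusWeights.isIso_of_maxTori_fac' hG iH fun T' _ iT' hT' => by
    obtain ⟨g, f, hf⟩ := exists_maxTorus_conj_any hT (isMaximalTorus_iff_isMaxTorus.1 hT')
    have e : iT' ≫ q = (f.inv ≫ p) ≫ i₁ := by
      rw [Category.assoc, hpi, ← cancel_epi f.hom, ← Category.assoc, hf, Iso.hom_inv_id_assoc,
        conjBy_comp_eq q hcomm]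
    exact ⟨Over.homMk (pullback.lift iT'.left (f.inv ≫ p).left (congrArg CommaMorphism.left e))
      (by show _ ≫ pullback.fst q.left i₁.left ≫ G.hom = _; erw [pullback.lift_fst_assoc, Over.w iT']), Over.OverMorphism.ext (pullback.lift_fst _ _ _)⟩
  haveI := hiso
  haveI : IsIso iH.left := (Over.forget _).map_isIso iH
  have hw : q.left = inv iH.left ≫ pullback.snd q.left i₁.left ≫ i₁.left := by
    rw [IsIso.eq_inv_comp]; exact pullback.condition
  haveI : Surjective i₁.left := by
    haveI : Surjective ((inv iH.left ≫ pullback.snd q.left i₁.left) ≫ i₁.left) := by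
      rw [Category.assoc, ← hw]; infer_instance
    exact Surjective.of_comp (inv iH.left ≫ pullback.snd q.left i₁.left) i₁.left
  rw [← hpi]
  exact inferInstanceAs (Surjective (p.left ≫ i₁.left))

/-- **Two homomorphisms to a commutative group agreeing on a maximal torus are equal.** -/
theorem hom_ext_maxTorus {G T H : Over SK} [GrpObj G] [GrpObj T] [GrpObj H] [IsSeparated H.hom]
    (hG : Red.IsReductive G) {iT : T ⟶ G} (hT : AGF.IsMaxTorus iT)
    (hcomm : ∀ {Z : Over SK} (x y : Z ⟶ H), x * y = y * x) (ψ ψ' : G ⟶ H) [IsMonHom ψ] [IsMonHom ψ']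
    (h : iT ≫ ψ = iT ≫ ψ') : ψ = ψ' := by
  haveI := hG.1; haveI := hG.2.1
  haveI : QuasiCompact G.hom := inferInstance
  let iE : equalizer ψ ψ' ⟶ G := equalizer.ι ψ ψ'
  haveI : IsClosedImmersion iE.left := inferInstanceAs (IsClosedImmersion (equalizer.ι ψ ψ').left)
  have hiso := Groth.L08.TorusWeights.isIso_of_maxTori_fac' hG iE fun T' _ iT' hT' => by
    obtain ⟨g, f, hf⟩ := exists_maxTorus_conj_any hT (isMaximalTorus_iff_isMaxTorus.1 hT')
    have e : iT' ≫ ψ = iT' ≫ ψ' := by
      rw [← cancel_epi f.hom, ← Category.assoc, ← Category.assoc, hf, conjBy_comp_eq ψ hcomm,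
        conjBy_comp_eq ψ' hcomm, h]
    exact ⟨equalizer.lift iT' e, equalizer.lift_ι _ _⟩
  haveI := hiso
  rw [← cancel_epi iE]
  exact equalizer.condition _ _

/-- **The derived group of a reductive group has no central torus.** -/
theorem centralTorus_derived_eq_one {G D C : Over SK} [GrpObj G] [GrpObj D] [GrpObj C] (hG : Red.IsReductive G)
    (d : D ⟶ G) [IsMonHom d] [IsClosedImmersion d.left] [Smooth D.hom] [ConnectedSpace D.left]
    (hn : AlgGrp.IsNormalHom d)
    (hkill : ∀ χ : G ⟶ Red.Gm SK, IsMonHom χ → d ≫ χ = 1)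
    (c : C ⟶ D) [IsMonHom c] [Mono c] (hC : Red.IsTorus C)
    (hcen : ∀ (X : Over SK) (x : X ⟶ C) (g : X ⟶ D), (x ≫ c) * g = g * (x ≫ c)) : c = 1 := by
  haveI : IsAffineHom G.hom := hG.1
  haveI := hG.2.1
  haveI : IsAffine G.left := isAffine_of_isAffineHom G.hom
  haveI : IsAffine D.left := isAffine_of_isAffineHom d.left
  haveI : LocallyOfFiniteType G.hom := inferInstance
  haveI : Mono d := Over.mono_of_mono_left d
  by_cases htriv : Red.IsTrivialGrp C
  · rw [← Category.id_comp c, Groth.L14.Luna.id_eq_one_of_isTrivialGrp htriv, MonObj.one_comp]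
  exfalso
  have hall : ∀ (T : Over SK) [GrpObj T] (iT : T ⟶ G), Red.IsMaximalTorus iT → ∃ t : C ⟶ T, t ≫ iT = c ≫ d := by
    intro T _ iT hT
    obtain ⟨S, gS, j, hj, hmem⟩ := Groth.L19.SpecSub.exists_torus_inter G T iT (isMaximalTorus_iff_isMaxTorus.1 hT)
      D d fun X t n => (hn X (t ≫ iT) n)
    obtain ⟨f, -, hf⟩ := exists_fac_of_commute_field hj c hC fun X t r => (hcen X r (t ≫ j)).symm
    exact (hmem C c).1 ⟨f, hf⟩
  haveI : IsMonHom (c ≫ d) := inferInstance
  haveI : Mono (c ≫ d) := mono_comp c d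
  obtain ⟨χ, hχ, hne⟩ := exists_char_ne_one hC htriv (c ≫ d) fun X t g =>
    Groth.L08.TorusWeights.commute_of_mem_all_tori hG (c ≫ d) hall t g
  exact hne (by rw [Category.assoc, hkill χ hχ, MonObj.comp_one])

end Groth.L25.RedField
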