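import Groth.Agent.L08.TorusWeights.TorusPreimage
import Groth.Agent.L23.AffineMor
import Groth.Agent.L01.FinAlgClosed
import Mathlib.AlgebraicGeometry.ValuativeCriterion
import Mathlib.AlgebraicGeometry.Morphisms.Finite
import Mathlib.AlgebraicGeometry.Morphisms.Etale

/-!
# Quasi-finite, fibrewise central subgroups are finite
-/

set_option autoImplicit false
set_option backward.isDefEq.respectTransparency.types false
set_option linter.style.haveILetI false
universe u

open CategoryTheory CategoryTheory.Limits MonoidalCategory CartesianMonoidalCategory MonObj GrpObj AlgebraicGeometry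

noncomputable section

namespace Groth.L25.RedField

variable {S : Scheme.{u}}

/-- the pullback of a morphism with finite fibres to a point is finite -/
theorem isFinite_snd_of_fibre {K : Scheme.{u}} (f : K ⟶ S) (h : ∀ s : S, IsFinite (f.fiberToSpecResidueField s))
    (L : Type u) [Field L] (b : Spec (CommRingCat.of L) ⟶ S) : IsFinite (pullback.snd f b) := by
  obtain ⟨⟨s, φ⟩, rfl⟩ := (Scheme.SpecToEquivOfField L S).symm.surjective b
  show IsFinite (pullback.snd f (Spec.map φ ≫ S.fromSpecResidueField s))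
  haveI : IsFinite (pullback.snd f (S.fromSpecResidueField s)) := h s
  rw [← pullbackLeftPullbackSndIso_inv_snd_snd f (S.fromSpecResidueField s) (Spec.map φ)]
  haveI : IsFinite (pullback.snd (pullback.snd f (S.fromSpecResidueField s)) (Spec.map φ)) :=
    MorphismProperty.pullback_snd _ _ inferInstance
  infer_instance

/-- a morphism with finite pullback to a point has finitely many points over it -/
theorem finite_points_of_finite {K : Over S} {L : Type u} [Field L] (b : Spec (CommRingCat.of L) ⟶ S)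
    [IsFinite (pullback.snd K.hom b)] : Finite (Over.mk b ⟶ K) := by
  let p := pullback.snd K.hom b
  haveI : IsAffine (pullback K.hom b) := isAffine_of_isAffineHom p
  let e := Scheme.ΓSpecIso (CommRingCat.of L)
  letI : Algebra L Γ(pullback K.hom b, ⊤) := (e.inv ≫ p.appTop).hom.toAlgebra
  haveI : Module.Finite L Γ(pullback K.hom b, ⊤) := by
    have h1 : p.appTop.hom.Finite := IsFinite.finite_app p ⊤ (isAffineOpen_top _)
    have h2 : e.inv.hom.Finite := RingHom.Finite.of_surjective _
      e.commRingCatIsoToRingEquiv.symm.surjective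
    exact RingHom.Finite.comp h1 h2
  haveI := Groth.L01.FinAlgClosed.finite_points L Γ(pullback K.hom b, ⊤)
  let σ : (Over.mk b ⟶ K) → (Spec (CommRingCat.of L) ⟶ pullback K.hom b) := fun x =>
    pullback.lift x.left (𝟙 _) (by rw [Category.id_comp]; exact Over.w x)
  refine Finite.of_injective (fun x => ({
    toRingHom := ((σ x).appTop ≫ e.hom).hom
    commutes' := fun c => by
      have h1 : σ x ≫ p = 𝟙 _ := pullback.lift_snd _ _ _
      have h2 := congrArg (fun g => (e.inv ≫ Scheme.Hom.appTop g ≫ e.hom).hom c) h1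
      simp only [Scheme.Hom.comp_appTop, Scheme.Hom.id_appTop, Category.id_comp, Iso.inv_hom_id] at h2
      exact h2 } : Γ(pullback K.hom b, ⊤) →ₐ[L] L)) fun x y hxy => ?_
  have h1 : ((σ x).appTop ≫ e.hom).hom = ((σ y).appTop ≫ e.hom).hom := congrArg AlgHom.toRingHom hxy
  have h2 : σ x = σ y := ext_of_isAffine ((cancel_mono e.hom).1 (CommRingCat.hom_ext h1))
  refine Over.OverMorphism.ext ?_
  have h3 := congrArg (· ≫ pullback.fst K.hom b) h2
  exact (pullback.lift_fst _ _ _).symm.trans (h3.trans (pullback.lift_fst _ _ _))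

theorem pow_comp_hom {X A B : Over S} [GrpObj A] [GrpObj B] (f : A ⟶ B) [IsMonHom f] (t : X ⟶ A) (n : ℕ) :
    (t ^ n) ≫ f = (t ≫ f) ^ n := by
  induction n with
  | zero => rw [pow_zero, pow_zero, MonObj.one_comp]
  | succ n ih => rw [pow_succ, pow_succ, MonObj.mul_comp, ih]

theorem char_pow' {M : Type} [AddCommGroup M] {X : Over S} (t : X ⟶ Red.DS S M) (n : ℕ) (m : Multiplicative M) :
    DSPts.char (t ^ n) m = DSPts.char t m ^ n := by
  induction n with
  | zero => rw [pow_zero, pow_zero, DSPts.char_one]; rfl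
  | succ n ih => rw [pow_succ, pow_succ, DSPts.char_mul, MonoidHom.mul_apply, ih]

/-- **the valuative criterion for a quasi-finite subgroup landing in a split torus** -/
theorem universallyClosed_of_central_pts {G K : Over S} [GrpObj G] [GrpObj K] [IsAffine G.left] [Smooth G.hom]
    [IsAffineHom G.hom] (h0 : SGA3x.UnipotentRankZero G) (k : K ⟶ G) [IsMonHom k] [IsClosedImmersion k.left]
    [QuasiCompact K.hom] (hfin : ∀ s : S, IsFinite (K.hom.fiberToSpecResidueField s))
    (hcen : ∀ (L : Type u) [Field L] (b : Spec (CommRingCat.of L) ⟶ S) (x : Over.mk b ⟶ K) (X : Over S)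
      (q : X ⟶ Over.mk b) (g : X ⟶ G), (q ≫ x ≫ k) * g = g * (q ≫ x ≫ k))
    {M : Type} [AddCommGroup M] {i : Red.DS S M ⟶ G} (hi : Red.IsMaximalTorus i) :
    UniversallyClosed K.hom := by
  haveI := hi.1; haveI := hi.2.1
  haveI : Mono k := Over.mono_of_mono_left k
  rw [UniversallyClosed.eq_valuativeCriterion]
  refine ⟨fun sq => ?_, inferInstance⟩
  let V := sq.R
  let L := sq.K
  let a := Spec.map (CommRingCat.ofHom (algebraMap V L))
  let b := a ≫ sq.i₂
  let X : Over S := Over.mk b
  let x : X ⟶ K := Over.homMk sq.i₁ sq.commSq.w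
  obtain ⟨τ, hτ⟩ := Groth.L08.TorusWeights.exists_fac_selfCentral h0 hi (x ≫ k) fun X' x' t => by
    exact hcen L b x X' x' (t ≫ i)
  haveI := isFinite_snd_of_fibre K.hom hfin L b
  haveI : Finite (X ⟶ K) := finite_points_of_finite b
  obtain ⟨n, hn, hxn⟩ := (isOfFinOrder_of_finite x).exists_pow_eq_one
  have hτn : τ ^ n = 1 := by
    rw [← cancel_mono i, MonObj.one_comp]
    refine (pow_comp_hom i τ n).trans ?_
    rw [hτ]
    refine (pow_comp_hom k x n).symm.trans ?_
    rw [hxn, MonObj.one_comp]
  let e := Scheme.ΓSpecIso (CommRingCat.of L)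
  let eV := Scheme.ΓSpecIso (CommRingCat.of V)
  let χ : Multiplicative M →* L := e.hom.hom.toMonoidHom.comp (DSPts.char τ)
  have hχn : ∀ m, χ m ^ n = 1 := fun m => by
    rw [← map_pow χ]
    show e.hom.hom (DSPts.char τ (m ^ n)) = 1
    rw [map_pow, ← char_pow', hτn, DSPts.char_one]
    exact map_one _
  have hint : ∀ m, ∃ v : V, algebraMap V L v = χ m := fun m =>
    IsIntegrallyClosed.isIntegral_iff.1 ⟨Polynomial.X ^ n - Polynomial.C 1, Polynomial.monic_X_pow_sub_C 1 hn.ne', by
      simp [hχn m]⟩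
  choose v hv using hint
  have hinj : Function.Injective (algebraMap V L) := IsFractionRing.injective V L
  let χV : Multiplicative M →* V :=
    { toFun := v
      map_one' := hinj (by rw [hv, map_one, map_one])
      map_mul' := fun p q => hinj (by rw [hv, map_mul, map_mul, hv, hv]) }
  let Y : Over S := Over.mk sq.i₂
  let τ' : Y ⟶ Red.DS S M := DSPts.pt (eV.inv.hom.toMonoidHom.comp χV)
  let j : X ⟶ Y := Over.homMk a rfl
  have hj : j ≫ τ' = τ := by
    apply DSPts.char_injective
    refine MonoidHom.ext fun m => ?_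
    rw [DSPts.char_comp, DSPts.char_pt]
    show a.appTop.hom (eV.inv.hom (v m)) = _
    have h2 : eV.inv ≫ a.appTop = CommRingCat.ofHom (algebraMap V L) ≫ e.inv :=
      (Scheme.ΓSpecIso_inv_naturality (CommRingCat.ofHom (algebraMap V L))).symm
    refine (congrArg (fun f => f.hom (v m)) h2).trans ?_
    show e.inv.hom (algebraMap V L (v m)) = _
    rw [hv]
    exact Iso.hom_inv_id_apply e _
  let g' := τ' ≫ i
  have hg' : j ≫ g' = x ≫ k := by rw [← Category.assoc, hj, hτ]
  have hlift : a ≫ g'.left = sq.i₁ ≫ k.left := congrArg CommaMorphism.left hg'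
  let c := pullback.fst g'.left k.left
  haveI : IsClosedImmersion c := MorphismProperty.pullback_fst _ _ ‹_›
  haveI : IsDominant a := by
    constructor
    refine (PrimeSpectrum.denseRange_comap_iff_ker_le_nilRadical _).2 ?_
    intro y hy
    have : y = 0 := hinj (by rw [map_zero]; exact RingHom.mem_ker.1 hy)
    rw [this]
    exact zero_mem _
  haveI : IsDominant c := by
    have : pullback.lift a sq.i₁ hlift ≫ c = a := pullback.lift_fst _ _ _
    exact IsDominant.of_comp (pullback.lift a sq.i₁ hlift) c (H := this.symm ▸ inferInstance)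
  haveI : Surjective c := ⟨fun y => by
    have h1 : IsClosed (Set.range c) := c.isClosedEmbedding.isClosed_range
    rw [← Set.mem_range, ← h1.closure_eq, c.denseRange.closure_range]
    exact Set.mem_univ _⟩
  haveI : IsReduced Y.left := inferInstanceAs (IsReduced (Spec (CommRingCat.of V)))
  haveI : IsIso c := isIso_of_isClosedImmersion_of_surjective c
  refine ⟨⟨⟨inv c ≫ pullback.snd g'.left k.left, ?_, ?_⟩⟩⟩
  · rw [← cancel_mono k.left]
    show (a ≫ inv c ≫ pullback.snd g'.left k.left) ≫ k.left = sq.i₁ ≫ k.left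
    rw [← hlift, Category.assoc, Category.assoc, ← pullback.condition, IsIso.inv_hom_id_assoc]
  · show (inv c ≫ pullback.snd g'.left k.left) ≫ K.hom = sq.i₂
    have e1 : (inv c ≫ pullback.snd g'.left k.left) ≫ K.hom =
        inv c ≫ (pullback.snd g'.left k.left ≫ k.left) ≫ G.hom := by
      simp only [Category.assoc, Over.w k]
    rw [e1, ← pullback.condition, Category.assoc, IsIso.inv_hom_id_assoc]
    exact Over.w g'

/-- the valuative criterion, with centrality on all field-supported points -/
theorem universallyClosed_of_central {G K : Over S} [GrpObj G] [GrpObj K] [IsAffine G.left] [Smooth G.hom]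
    [IsAffineHom G.hom] (h0 : SGA3x.UnipotentRankZero G) (k : K ⟶ G) [IsMonHom k] [IsClosedImmersion k.left]
    [QuasiCompact K.hom] (hfin : ∀ s : S, IsFinite (K.hom.fiberToSpecResidueField s))
    (hcen : ∀ (L : Type u) [Field L] (b : Spec (CommRingCat.of L) ⟶ S) (X : Over S)
      (w : X.left ⟶ Spec (CommRingCat.of L)), w ≫ b = X.hom →
      ∀ (x : X ⟶ K) (g : X ⟶ G), (x ≫ k) * g = g * (x ≫ k))
    {M : Type} [AddCommGroup M] {i : Red.DS S M ⟶ G} (hi : Red.IsMaximalTorus i) :
    UniversallyClosed K.hom :=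
  universallyClosed_of_central_pts h0 k hfin (fun L _ b x X q g => by
    rw [← Category.assoc]
    exact hcen L b X q.left (Over.w q) (q ≫ x) g) hi

/-- finiteness can be tested on étale charts -/
theorem isFinite_of_charts {K : Scheme.{u}} (f : K ⟶ S)
    (h : ∀ s : S, ∃ (P : Scheme.{u}) (e : P ⟶ S) (p : P), Etale e ∧ e p = s ∧ IsFinite (pullback.snd f e)) :
    IsFinite f := by
  have key : ∀ s : S, ∃ U : S.Opens, s ∈ U ∧ IsFinite (f ∣_ U) := fun s => by
    obtain ⟨P, e, p, he, hp, hfin⟩ := h s
    obtain ⟨V, hV, hsV, -⟩ := exists_isAffineOpen_mem_and_subset (X := S) (x := s) (U := ⊤) trivial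
    obtain ⟨W, hW, hpW, hWV⟩ := exists_isAffineOpen_mem_and_subset (X := P) (x := p) (U := e ⁻¹ᵁ V)
      (show e p ∈ V by rw [hp]; exact hsV)
    let g : W.toScheme ⟶ V.toScheme := e.resLE V W hWV
    haveI := he
    haveI : Etale g := IsZariskiLocalAtSource.resLE hWV he
    haveI : IsAffine W.toScheme := hW
    haveI : IsAffine V.toScheme := hV
    have hgs : (⟨s, hsV⟩ : V) ∈ Set.range g := ⟨⟨p, hpW⟩, Subtype.ext (by
      show V.ι (g _) = s
      rw [← Scheme.Hom.comp_apply, Scheme.Hom.resLE_comp_ι, Scheme.Hom.comp_apply]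
      exact hp)⟩
    obtain ⟨U', hU', hsU', hU'r⟩ := exists_isAffineOpen_mem_and_subset (X := V.toScheme) (x := ⟨s, hsV⟩)
      (U := ⟨Set.range g, g.isOpenMap.isOpen_range⟩) hgs
    let q : (g ⁻¹ᵁ U').toScheme ⟶ U'.toScheme := g ∣_ U'
    haveI : IsAffine U'.toScheme := hU'
    haveI : IsAffine (g ⁻¹ᵁ U').toScheme := hU'.preimage g
    haveI : Etale q := IsZariskiLocalAtTarget.restrict (P := @Etale) (f := g) inferInstance U'
    haveI : Surjective q := ⟨fun y => by
      obtain ⟨w, hw⟩ := hU'r y.2
      exact ⟨⟨w, by show g w ∈ U'; rw [hw]; exact y.2⟩, Subtype.ext (by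
        show U'.ι ((g ∣_ U') _) = _
        rw [← Scheme.Hom.comp_apply, morphismRestrict_ι, Scheme.Hom.comp_apply]
        exact hw)⟩⟩
    refine ⟨V.ι ''ᵁ U', ⟨⟨s, hsV⟩, hsU', rfl⟩, ?_⟩
    let ιU : U'.toScheme ⟶ S := U'.ι ≫ V.ι
    have hq : q ≫ ιU = ((g ⁻¹ᵁ U').ι ≫ W.ι) ≫ e := by
      show (g ∣_ U') ≫ U'.ι ≫ V.ι = _
      rw [morphismRestrict_ι_assoc, Scheme.Hom.resLE_comp_ι, Category.assoc]
    have h1 : IsFinite (pullback.snd f (q ≫ ιU)) := by
      rw [hq, ← pullbackLeftPullbackSndIso_inv_snd_snd f e ((g ⁻¹ᵁ U').ι ≫ W.ι)]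
      haveI : IsFinite (pullback.snd (pullback.snd f e) ((g ⁻¹ᵁ U').ι ≫ W.ι)) :=
        MorphismProperty.pullback_snd _ _ hfin
      infer_instance
    haveI : QuasiCompact q := inferInstance
    have h2 : IsFinite (pullback.snd f ιU) := by
      have hpb : IsFinite (pullback.snd (pullback.snd f ιU) q) := by
        rw [← pullbackLeftPullbackSndIso_hom_snd f ιU q]
        haveI := h1
        infer_instance
      exact MorphismProperty.of_isPullback_of_descendsAlong (Q := @Surjective ⊓ @Flat ⊓ @QuasiCompact)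
        (IsPullback.of_hasPullback (pullback.snd f ιU) q).flip ⟨⟨inferInstance, inferInstance⟩, inferInstance⟩ hpb
    let W₀ : S.Opens := V.ι ''ᵁ U'
    haveI : IsOpenImmersion ιU := inferInstance
    have hr : Set.range W₀.ι = Set.range ιU := by
      rw [Scheme.Opens.range_ι]
      simp [W₀, ιU, Set.range_comp, Scheme.Opens.range_ι]
    let ε := IsOpenImmersion.isoOfRangeEq W₀.ι ιU hr
    show IsFinite (f ∣_ W₀)
    have h3 : IsFinite (pullback.snd f W₀.ι) := by
      rw [← IsOpenImmersion.isoOfRangeEq_hom_fac W₀.ι ιU hr, ← pullbackLeftPullbackSndIso_inv_snd_snd f ιU]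
      haveI := MorphismProperty.pullback_snd (P := @IsFinite) (pullback.snd f ιU)
        (IsOpenImmersion.isoOfRangeEq W₀.ι ιU hr).hom h2
      infer_instance
    rw [← (isPullback_morphismRestrict f W₀).flip.isoPullback_hom_snd]
    haveI := h3
    infer_instance
  choose U hU hfU using key
  exact (IsZariskiLocalAtTarget.iff_of_iSup_eq_top (P := @IsFinite) U
    (eq_top_iff.2 fun s _ => TopologicalSpace.Opens.mem_iSup.2 ⟨s, hU s⟩)).2 hfU

end Groth.L25.RedField
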