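import Groth.Agent.L14.Luna.Cor
import Groth.Agent.L14.Luna.GenPos
import Groth.Agent.L08.Borel.MultUnip
import Groth.Agent.L25.Dyn.Unipotent
import Groth.Agent.L25.Dyn.Decomp
import Groth.Agent.S3306
import Groth.Agent.S3307

/-!
# A cocharacter fixed by the normalizer of a maximal torus of a reductive group is central
-/

set_option autoImplicit false
set_option backward.isDefEq.respectTransparency.types false
set_option linter.style.haveILetI false
set_option linter.unusedSectionVars false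

universe u

open CategoryTheory CategoryTheory.Limits MonoidalCategory CartesianMonoidalCategory MonObj GrpObj AlgebraicGeometry
open TensorProduct WithConv
open Groth.L25.Bridge (P)
open Groth.L08.TorusQuot (sp sp_left sp_comp exists_sp toPt toPt_pre toPt_post SP Pt pre spA)
open Groth.L25.Dyn (jPlus jU lamP cst pmap orb inclP torP)
open Groth.L08.Borel

noncomputable section

namespace Groth.L25.RedField

section Algebra

variable {k : Type u} [CommRing k] {A : Type u} [CommRing A] [HopfAlgebra k A]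
  (lam : A →ₐc[k] LaurentPolynomial k) {R : Type u} [CommRing R] [Algebra k R]

/-- The points with limit one are normalized by the points with a limit. -/
theorem limIsOne_conj {p g : Groth.L25.Dyn.Pt (k := k) A R} (hp : Dyn.LimExists k A lam R p.ofConv)
    (hg : Dyn.LimIsOne k A lam R g.ofConv) : Dyn.LimIsOne k A lam R (p * g * p⁻¹).ofConv := by
  obtain ⟨a, ha⟩ := hp
  obtain ⟨b, hb, hb0⟩ := hg
  have ha' : pmap (inclP R) (toConv a) = orb lam R p := congrArg toConv ha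
  have hb' : pmap (inclP R) (toConv b) = orb lam R g := congrArg toConv hb
  have hb0' : pmap ((Polynomial.aeval (R := R) (0 : R)).restrictScalars k) (toConv b) =
      (1 : Groth.L25.Dyn.Pt (k := k) A R) := congrArg toConv hb0
  refine ⟨(toConv a * toConv b * (toConv a)⁻¹ : Groth.L25.Dyn.Pt (k := k) A (Polynomial R)).ofConv, ?_, ?_⟩
  · refine congrArg WithConv.ofConv (?_ : pmap (inclP R) (toConv a * toConv b * (toConv a)⁻¹) = orb lam R (p * g * p⁻¹))
    rw [map_mul, map_mul, map_inv, ha', hb', map_mul, map_mul, map_inv]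
  · refine congrArg WithConv.ofConv (?_ : pmap ((Polynomial.aeval (R := R) (0 : R)).restrictScalars k)
      (toConv a * toConv b * (toConv a)⁻¹) = (1 : Groth.L25.Dyn.Pt (k := k) A R))
    rw [map_mul, map_mul, map_inv, hb0', _root_.mul_one, mul_inv_cancel]

/-- A point commuting with the cocharacter has a constant orbit, hence a limit. -/
theorem limExists_of_comm {p : Groth.L25.Dyn.Pt (k := k) A R}
    (h : lamP lam R * pmap (cst R) p = pmap (cst R) p * lamP lam R) : Dyn.LimExists k A lam R p.ofConv := by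
  refine (Groth.L25.Dyn.limExists_iff lam _).2 fun n hn a ha => ?_
  refine (Groth.L25.Dyn.commutes_iff lam _).1 ?_ n hn.ne a ha
  have h1 := Groth.L25.Dyn.conjOrbit_eq lam p.ofConv
  rw [toConv_ofConv, h, mul_inv_cancel_right] at h1
  exact congrArg WithConv.ofConv h1

theorem negParam_symm (lamNeg : A →ₐc[k] LaurentPolynomial k)
    (hneg : (lamNeg : A →ₐ[k] LaurentPolynomial k) = Dyn.negParam k A lam) :
    (lam : A →ₐ[k] LaurentPolynomial k) = Dyn.negParam k A lamNeg := by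
  refine AlgHom.ext fun a => ?_
  rw [Dyn.negParam, hneg]
  exact (LaurentPolynomial.involutive_invert _).symm

end Algebra

variable {k : Type u} [Field k] [IsAlgClosed k]

local notation "U1" => 𝟙_ (Over (Spec (CommRingCat.of k)))
local notation "SK" => Spec (CommRingCat.of k)

/-- A group with a unipotent coordinate ring contains no torus. -/
theorem hasNoSubtorus_of_isUnipotent {A : Type u} [CommRing A] [HopfAlgebra k A] (hU : HopfRep.IsUnipotent k A) :
    Red.HasNoSubtorus k (P k A) := by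
  intro T _ j _ _ hT
  refine Groth.L14.Luna.isTrivialGrp_of_id_eq_one ?_
  rw [← cancel_mono j, Category.id_comp, MonObj.one_comp]
  refine Over.OverMorphism.ext ?_
  rw [Groth.L25.LargestMult.eq_toSpecΓ_comp j.left, Groth.L25.LargestMult.eq_toSpecΓ_comp (1 : T ⟶ P k A).left]
  congr 3
  refine RingHom.ext fun a => ?_
  have hmt := Groth.L25.Locus.isMultTypeFT_of_isTorus hT
  have key : ∀ (f : T ⟶ P k A) [IsMonHom f], Groth.L25.LargestMult.val f.left a =
      Groth.L25.LargestMult.val f.left (algebraMap k A (Coalgebra.counit (R := k) a)) := by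
    intro f _
    have h := val_eq_zero_of_isUnipotent hU hmt f (a - algebraMap k A (Coalgebra.counit (R := k) a)) (by
      rw [map_sub, Bialgebra.counit_algebraMap, sub_self])
    rwa [map_sub, sub_eq_zero] at h
  haveI : IsMonHom (1 : T ⟶ P k A) :=
    { one_hom := MonObj.comp_one η[T], mul_hom := by
        rw [MonObj.comp_one, ← lift_fst_comp_snd_comp, ← Hom.mul_def, MonObj.comp_one, MonObj.comp_one,
          _root_.mul_one] }
  rw [key j, key 1]
  have hc : ∀ (f : T ⟶ P k A) (c : k), Groth.L25.LargestMult.val f.left (algebraMap k A c) =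
      T.hom.appTop ((Scheme.ΓSpecIso (CommRingCat.of k)).inv c) := fun f c => by
    have e : f.left ≫ Spec.map (CommRingCat.ofHom (algebraMap k A)) = T.hom := Over.w f
    rw [← e, Groth.L25.LargestMult.val, Scheme.Hom.comp_appTop, CommRingCat.comp_apply]
    refine congrArg f.left.appTop ?_
    exact ConcreteCategory.congr_hom (Scheme.ΓSpecIso_inv_naturality (CommRingCat.ofHom (algebraMap k A))) c
  rw [hc, hc]

section Attractor

/-- In a reductive group the attractor of a cocharacter fixed by the normalizer of a maximal torus is trivial. -/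
theorem attractor_eq_one {A : Type u} [CommRing A] [HopfAlgebra k A] [Algebra.FiniteType k A]
    [Algebra.Smooth k A] {G T : Over (Spec (CommRingCat.of k))} [GrpObj G] [GrpObj T]
    (hG : Red.IsReductiveOver k G) {iT : T ⟶ G} (hT : AGF.IsMaxTorus iT)
    (φ : P k A ⟶ G) [IsMonHom φ] [IsIso φ] (ψ : G ⟶ P k A) (hψφ : ψ ≫ φ = 𝟙 G)
    (hconn : ∀ e : A, IsIdempotentElem e → e = 0 ∨ e = 1) (lam lamNeg : A →ₐc[k] LaurentPolynomial k)
    (hneg : (lamNeg : A →ₐ[k] LaurentPolynomial k) = Dyn.negParam k A lam)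
    (htor : ∀ (R : Type u) [CommRing R] [Algebra k R] (p : Pt k A R) (s : SP k R ⟶ T),
      s ≫ iT = toPt p ≫ φ → Dyn.LimExists k A lam R p.ofConv)
    (hnor : ∀ (n : U1 ⟶ G) (τ : T ≅ T), τ.hom ≫ iT = AGF.conjBy n iT →
      ∀ (R : Type u) [CommRing R] [Algebra k R] (p : Pt k A R),
        toPt p ≫ φ = toUnit _ ≫ n → Dyn.LimExists k A lam R p.ofConv)
    {R : Type u} [CommRing R] [Algebra k R] (g : Pt k A R) (hg : Dyn.LimIsOne k A lam R g.ofConv) : g = 1 := by
  haveI := hG.1; haveI := hG.2.1; haveI := hG.2.2.1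
  haveI := hT.1; haveI := hT.2.1
  haveI : Algebra.FinitePresentation k A := Algebra.FinitePresentation.of_finiteType.1 inferInstance
  haveI : LocallyOfFiniteType G.hom := inferInstance
  haveI : QuasiCompact G.hom := quasiCompact_of_compactSpace _
  haveI : IsIso φ.left := inferInstanceAs (IsIso ((Over.forget _).map φ))
  let Jp := jPlus lam
  let Ju := jU lam
  haveI hJp := Groth.L25.Dyn.isHopfIdeal_jPlus lam
  haveI hJu := Groth.L25.Dyn.isHopfIdeal_jU lam
  haveI hJm := Groth.L25.Dyn.isHopfIdeal_jU lamNeg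
  obtain ⟨hsp, hsu, -⟩ := Groth.Agent.S3306.result k A lam lamNeg hneg Jp Ju (jU lamNeg)
    (Groth.L25.Dyn.represents_jPlus lam) (Groth.L25.Dyn.represents_jU lam) (Groth.L25.Dyn.represents_jU lamNeg)
  obtain ⟨hcu, hcp⟩ := Groth.Agent.S3307.result k A lam Jp Ju (Groth.L25.Dyn.represents_jPlus lam)
    (Groth.L25.Dyn.represents_jU lam)
  have props : ∀ (J : Ideal A) [J.IsHopfIdeal k], Algebra.Smooth k (A ⧸ J) →
      (∀ e : A ⧸ J, IsIdempotentElem e → e = 0 ∨ e = 1) →
      Smooth (P k (A ⧸ J)).hom ∧ ConnectedSpace (P k (A ⧸ J)).left := by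
    intro J _ hs hc
    refine ⟨?_, ?_⟩
    · show Smooth (Spec.map (CommRingCat.ofHom (algebraMap k (A ⧸ J))))
      rw [HasRingHomProperty.Spec_iff (P := @Smooth), CommRingCat.hom_ofHom]
      exact RingHom.smooth_algebraMap.2 hs
    · show ConnectedSpace (PrimeSpectrum (A ⧸ J))
      haveI : Nontrivial (A ⧸ J) := (Bialgebra.counitAlgHom k (A ⧸ J)).toRingHom.domain_nontrivial
      refine connectedSpace_iff_clopen.2 ⟨inferInstance, fun s hs => ?_⟩
      obtain ⟨f, ⟨hf, rfl⟩, -⟩ := PrimeSpectrum.existsUnique_idempotent_basicOpen_eq_of_isClopen hs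
      rcases hc f hf with rfl | rfl
      · left; rw [PrimeSpectrum.basicOpen_zero]; rfl
      · right; rw [PrimeSpectrum.basicOpen_one]; rfl
  obtain ⟨hPs, hPc⟩ := props Jp hsp (hcp hconn)
  obtain ⟨hUs, hUc⟩ := props Ju hsu hcu
  haveI := hPs; haveI := hPc; haveI := hUs; haveI := hUc
  let qP : A →ₐc[k] A ⧸ Jp := Bialgebra.Quotient.mkBialgHom (R := k) Jp
  let qU : A →ₐc[k] A ⧸ Ju := Bialgebra.Quotient.mkBialgHom (R := k) Ju
  haveI : IsClosedImmersion (sp qP).left :=
    IsClosedImmersion.spec_of_surjective (CommRingCat.ofHom (qP : A →+* A ⧸ Jp)) Ideal.Quotient.mk_surjective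
  haveI : IsClosedImmersion (sp qU).left :=
    IsClosedImmersion.spec_of_surjective (CommRingCat.ofHom (qU : A →+* A ⧸ Ju)) Ideal.Quotient.mk_surjective
  let iP : P k (A ⧸ Jp) ⟶ G := sp qP ≫ φ
  let iU : P k (A ⧸ Ju) ⟶ G := sp qU ≫ φ
  haveI : IsMonHom iP := inferInstanceAs (IsMonHom (sp qP ≫ φ))
  haveI : IsMonHom iU := inferInstanceAs (IsMonHom (sp qU ≫ φ))
  haveI : IsClosedImmersion iP.left := inferInstanceAs (IsClosedImmersion ((sp qP).left ≫ φ.left))
  haveI : IsClosedImmersion iU.left := inferInstanceAs (IsClosedImmersion ((sp qU).left ≫ φ.left))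
  haveI : Mono iP := Groth.L08.mono_of_closedImmersion iP
  haveI : Mono iU := Groth.L08.mono_of_closedImmersion iU
  have hfac : ∀ (J : Ideal A) [J.IsHopfIdeal k] (q : A →ₐc[k] A ⧸ J), (∀ a, q a = Ideal.Quotient.mk J a) →
      ∀ {S : Type u} [CommRing S] [Algebra k S] (z : Pt k A S),
        (∀ a ∈ J, z.ofConv a = 0) ↔ ∃ w : SP k S ⟶ P k (A ⧸ J), w ≫ sp q = toPt z := by
    intro J _ q hq S _ _ z
    constructor
    · intro h
      refine ⟨toPt (toConv (Ideal.Quotient.liftₐ J z.ofConv h)), ?_⟩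
      rw [← toPt_pre]
      refine congrArg toPt (WithConv.ext (AlgHom.ext fun a => ?_))
      show Ideal.Quotient.liftₐ J z.ofConv h (q a) = z.ofConv a
      rw [hq]; rfl
    · rintro ⟨w, hw⟩ a ha
      rw [← Groth.L08.TorusQuot.toPt_ofPt w, ← toPt_pre] at hw
      rw [← Spec.mapMulEquiv.injective hw]
      show (Groth.L08.TorusQuot.ofPt w).ofConv (q a) = 0
      rw [hq, Ideal.Quotient.eq_zero_iff_mem.2 ha, map_zero]
  have memP : ∀ {S : Type u} [CommRing S] [Algebra k S] (z : Pt k A S), Dyn.LimExists k A lam S z.ofConv →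
      ∃ w : SP k S ⟶ P k (A ⧸ Jp), w ≫ iP = toPt z ≫ φ := fun {S} _ _ z hz => by
    obtain ⟨w, hw⟩ := (hfac Jp qP (fun _ => rfl) z).1 ((Groth.L25.Dyn.represents_jPlus lam S z.ofConv).2 hz)
    exact ⟨w, by rw [← hw, Category.assoc]⟩
  have memU : ∀ {S : Type u} [CommRing S] [Algebra k S] (z : Pt k A S), Dyn.LimIsOne k A lam S z.ofConv →
      ∃ w : SP k S ⟶ P k (A ⧸ Ju), w ≫ iU = toPt z ≫ φ := fun {S} _ _ z hz => by
    obtain ⟨w, hw⟩ := (hfac Ju qU (fun _ => rfl) z).1 ((Groth.L25.Dyn.represents_jU lam S z.ofConv).2 hz)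
    exact ⟨w, by rw [← hw, Category.assoc]⟩
  have limU : ∀ {S : Type u} [CommRing S] [Algebra k S] (z : Pt k A S) (w : SP k S ⟶ P k (A ⧸ Ju)),
      w ≫ iU = toPt z ≫ φ → Dyn.LimIsOne k A lam S z.ofConv := fun {S} _ _ z w hw =>
    (Groth.L25.Dyn.represents_jU lam S z.ofConv).1 ((hfac Ju qU (fun _ => rfl) z).2
      ⟨w, (cancel_mono φ).1 (by rw [Category.assoc]; exact hw)⟩)
  have limP : ∀ {S : Type u} [CommRing S] [Algebra k S] (z : Pt k A S) (w : SP k S ⟶ P k (A ⧸ Jp)),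
      w ≫ iP = toPt z ≫ φ → Dyn.LimExists k A lam S z.ofConv := fun {S} _ _ z w hw =>
    (Groth.L25.Dyn.represents_jPlus lam S z.ofConv).1 ((hfac Jp qP (fun _ => rfl) z).2
      ⟨w, (cancel_mono φ).1 (by rw [Category.assoc]; exact hw)⟩)
  have exPt : ∀ {S : Type u} [CommRing S] [Algebra k S] (x : SP k S ⟶ G), ∃ z : Pt k A S, toPt z ≫ φ = x :=
    fun {S} _ _ x => ⟨Groth.L08.TorusQuot.ofPt (x ≫ ψ), by
      rw [Groth.L08.TorusQuot.toPt_ofPt, Category.assoc, hψφ, Category.comp_id]⟩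
  have affLift : ∀ {W : Over SK} [IsAffine W.left], ∃ (S : Type u) (_ : CommRing S) (_ : Algebra k S),
      Nonempty (SP k S ≅ W) := fun {W} _ => by
    letI : Algebra k Γ(W.left, ⊤) := (Spec.preimage (W.left.isoSpec.inv ≫ W.hom)).hom.toAlgebra
    exact ⟨Γ(W.left, ⊤), inferInstance, inferInstance,
      ⟨Over.isoMk W.left.isoSpec.symm (Spec.map_preimage _).symm⟩⟩
  -- the unipotent attractor lies in the group of points with a limit, normally
  obtain ⟨f, hf⟩ : ∃ f : P k (A ⧸ Ju) ⟶ P k (A ⧸ Jp), f ≫ iP = iU := by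
    haveI : IsAffine (P k (A ⧸ Ju)).left := inferInstanceAs (IsAffine (Spec _))
    obtain ⟨S, _, _, ⟨e⟩⟩ := affLift (W := P k (A ⧸ Ju))
    obtain ⟨z, hz⟩ := exPt (e.hom ≫ iU)
    obtain ⟨hz1, hz2⟩ := limU z e.hom hz.symm
    obtain ⟨w, hw⟩ := memP z ⟨hz1, hz2.1⟩
    exact ⟨e.inv ≫ w, by rw [Category.assoc, hw, hz, Iso.inv_hom_id_assoc]⟩
  haveI : IsMonHom f := isMonHom_of_comp_mono f iP iU hf
  haveI : IsClosedImmersion f.left := by
    haveI : IsClosedImmersion (f.left ≫ iP.left) := by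
      rw [← Over.comp_left, hf]; infer_instance
    exact IsClosedImmersion.of_comp _ iP.left
  have hfn : AlgGrp.IsNormalHom f := by
    intro X x y
    let W : Over SK := P k (A ⧸ Jp) ⊗ P k (A ⧸ Ju)
    haveI : IsAffine W.left := inferInstanceAs (IsAffine (pullback (P k (A ⧸ Jp)).hom (P k (A ⧸ Ju)).hom))
    obtain ⟨S, _, _, ⟨e⟩⟩ := affLift (W := W)
    obtain ⟨p, hp⟩ := exPt (e.hom ≫ fst _ _ ≫ iP)
    obtain ⟨q, hq⟩ := exPt (e.hom ≫ snd _ _ ≫ iU)
    have hp' := limP p (e.hom ≫ fst _ _) (by rw [Category.assoc]; exact hp.symm)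
    have hq' := limU q (e.hom ≫ snd _ _) (by rw [Category.assoc]; exact hq.symm)
    obtain ⟨w, hw⟩ := memU (p * q * p⁻¹) (limIsOne_conj lam hp' hq')
    refine ⟨lift x y ≫ e.inv ≫ w, (cancel_mono iP).1 ?_⟩
    have hmul : toPt (p * q * p⁻¹) ≫ φ = (toPt p ≫ φ) * (toPt q ≫ φ) * (toPt p ≫ φ)⁻¹ := by
      rw [toPt, map_mul, map_mul, map_inv, MonObj.mul_comp, MonObj.mul_comp, GrpObj.inv_comp]
    rw [MonObj.mul_comp, MonObj.mul_comp, GrpObj.inv_comp, Category.assoc, hf, Category.assoc, Category.assoc,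
      Category.assoc, hf, hw, hmul, hp, hq]
    simp only [MonObj.comp_mul, GrpObj.comp_inv, Iso.inv_hom_id_assoc, lift_fst_assoc, lift_snd_assoc]
  have hUns : Red.HasNoSubtorus k (P k (A ⧸ Ju)) :=
    hasNoSubtorus_of_isUnipotent (Groth.L25.Dyn.isUnipotent_quotient lam Ju rfl)
  -- the torus lies in the group of points with a limit
  obtain ⟨hTa, hTs, hTc, hTsol, -⟩ := torus_props hT.2.2.1
  haveI := hTa; haveI := hTs; haveI := hTc
  obtain ⟨tP, htP⟩ : ∃ tP : T ⟶ P k (A ⧸ Jp), tP ≫ iP = iT := by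
    obtain ⟨S, _, _, ⟨e⟩⟩ := affLift (W := T)
    obtain ⟨z, hz⟩ := exPt (e.hom ≫ iT)
    obtain ⟨w, hw⟩ := memP z (htor S z e.hom hz.symm)
    exact ⟨e.inv ≫ w, by rw [Category.assoc, hw, hz, Iso.inv_hom_id_assoc]⟩
  haveI : IsMonHom tP := isMonHom_of_comp_mono tP iP iT htP
  haveI : Mono tP := by
    haveI : Mono (tP ≫ iP) := htP.symm ▸ inferInstance
    exact mono_of_mono tP iP
  haveI : IsAffine (P k (A ⧸ Jp)).left := inferInstanceAs (IsAffine (Spec _))
  haveI : IsClosedImmersion tP.left :=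
    Groth.L25.MonoClosed.isClosedImmersion_of_mono (Groth.L25.Locus.isMultTypeFT_of_isTorus hT.2.2.1) tP
  haveI : QuasiCompact (P k (A ⧸ Jp)).hom := quasiCompact_of_compactSpace _
  -- a Borel subgroup containing both
  obtain ⟨B₁, _, b₁, hB₁, t₁, ht₁⟩ := exists_borel_ge tP hTsol
  haveI := hB₁.1; haveI := hB₁.2.1; haveI := hB₁.2.2.1; haveI := hB₁.2.2.2.1
  obtain ⟨f₁, hf₁⟩ := Groth.L14.Luna.normal_le_borel f hfn hUns hB₁
  haveI : IsClosedImmersion (b₁ ≫ iP).left := inferInstanceAs (IsClosedImmersion (b₁.left ≫ iP.left))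
  obtain ⟨B₀, _, b₀, hB₀, c₀, hc₀⟩ := exists_borel_ge (b₁ ≫ iP) hB₁.2.2.2.2.1
  have hu1 : iU = 1 := by
    refine Groth.L14.Luna.eq_one_of_borels hG hT iU hUns fun B _ iB tB hB htB => ?_
    obtain ⟨n, τ, σ, hτ, hσ⟩ := exists_normalizing hT hB₀ hB (t₁ ≫ c₀)
      (by rw [Category.assoc, hc₀, ← Category.assoc, ht₁, htP]) tB htB
    have hτ' : τ.inv ≫ iT = AGF.conjBy n⁻¹ iT := by
      rw [Iso.inv_comp_eq, comp_conjBy, hτ, conjBy_conjBy, inv_mul_cancel, conjBy_one]
    haveI : IsAffine (P k (A ⧸ Ju)).left := inferInstanceAs (IsAffine (Spec _))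
    obtain ⟨S, _, _, ⟨e⟩⟩ := affLift (W := P k (A ⧸ Ju))
    obtain ⟨q, hq⟩ := exPt (e.hom ≫ iU)
    obtain ⟨p, hp⟩ := exPt (S := S) (toUnit _ ≫ n⁻¹)
    obtain ⟨w, hw⟩ := memU (p * q * p⁻¹) (limIsOne_conj lam (hnor n⁻¹ τ.symm hτ' S p hp) (limU q e.hom hq.symm))
    have hmul : toPt (p * q * p⁻¹) ≫ φ = (toPt p ≫ φ) * (toPt q ≫ φ) * (toPt p ≫ φ)⁻¹ := by
      rw [toPt, map_mul, map_mul, map_inv, MonObj.mul_comp, MonObj.mul_comp, GrpObj.inv_comp]
    refine ⟨e.inv ≫ w ≫ f₁ ≫ c₀ ≫ σ.hom, ?_⟩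
    have e0 : f₁ ≫ c₀ ≫ b₀ = iU := by rw [hc₀, ← Category.assoc, hf₁, hf]
    simp only [Category.assoc, hσ, comp_conjBy, e0]
    rw [hw, hmul, hp, hq]
    simp only [AGF.conjBy, MonObj.comp_mul, GrpObj.comp_inv, Iso.inv_hom_id_assoc, ← Category.assoc,
      toUnit_unique (e.inv ≫ toUnit (SP k S)) (toUnit _), _root_.inv_inv]
    simp [_root_.mul_assoc]
  obtain ⟨w, hw⟩ := memU g hg
  rw [hu1, MonObj.comp_one] at hw
  exact Spec.mapMulEquiv.injective ((cancel_mono φ).1 (by rw [← hw, map_one, MonObj.one_comp]))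

end Attractor

/-- **In a reductive group a cocharacter of a maximal torus fixed by its normalizer is central.** -/
theorem central_of_fixed {G T : Over SK} [GrpObj G] [GrpObj T] (hG : Red.IsReductiveOver k G) {iT : T ⟶ G}
    (hT : AGF.IsMaxTorus iT) (ν : Red.DS SK ℤ ⟶ T) [IsMonHom ν]
    (hfix : ∀ (n : U1 ⟶ G) (τ : T ≅ T), τ.hom ≫ iT = AGF.conjBy n iT → AGF.conjBy n (ν ≫ iT) = ν ≫ iT)
    {X : Over SK} (z : X ⟶ Red.DS SK ℤ) (g : X ⟶ G) : (z ≫ ν ≫ iT) * g = g * (z ≫ ν ≫ iT) := by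
  haveI := hG.1; haveI := hG.2.1; haveI := hG.2.2.1
  haveI := hT.1; haveI := hT.2.1
  haveI : LocallyOfFiniteType G.hom := inferInstance
  obtain ⟨A, _, _, ⟨eG⟩⟩ := Groth.L25.Bridge.exists_hopf G
  let φ : P k A ⟶ G := eG.inv.hom.hom
  let ψ : G ⟶ P k A := eG.hom.hom.hom
  have hψφ : ψ ≫ φ = 𝟙 G := congrArg (fun f => f.hom.hom) eG.hom_inv_id
  have hφψ : φ ≫ ψ = 𝟙 _ := congrArg (fun f => f.hom.hom) eG.inv_hom_id
  haveI : IsMonHom φ := eG.inv.hom.isMonHom_hom
  haveI : IsMonHom ψ := eG.hom.hom.isMonHom_hom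
  haveI : IsIso φ := ⟨ψ, hφψ, hψφ⟩
  haveI : IsIso ψ := ⟨φ, hψφ, hφψ⟩
  haveI : IsIso φ.left := inferInstanceAs (IsIso ((Over.forget _).map φ))
  haveI : IsIso ψ.left := inferInstanceAs (IsIso ((Over.forget _).map ψ))
  haveI hft : LocallyOfFiniteType (P k A).hom := by rw [← Over.w φ]; infer_instance
  haveI hsm : Smooth (P k A).hom := by rw [← Over.w φ]; infer_instance
  haveI : IsReduced (P k A).left := Groth.Agent.AV.isReduced_of_smooth_field (k := k) (P k A).hom
  haveI hred : IsReduced (Spec (CommRingCat.of A)) := ‹IsReduced (P k A).left›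
  haveI : Algebra.FiniteType k A := by
    change LocallyOfFiniteType (Spec.map (CommRingCat.ofHom (algebraMap k A))) at hft
    rwa [HasRingHomProperty.Spec_iff (P := @LocallyOfFiniteType), CommRingCat.hom_ofHom,
      RingHom.finiteType_algebraMap] at hft
  haveI : Algebra.Smooth k A := by
    change Smooth (Spec.map (CommRingCat.ofHom (algebraMap k A))) at hsm
    rw [HasRingHomProperty.Spec_iff (P := @Smooth), CommRingCat.hom_ofHom] at hsm
    exact RingHom.smooth_algebraMap.1 hsm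
  haveI : Algebra.FinitePresentation k A := Algebra.FinitePresentation.of_finiteType.1 inferInstance
  haveI : _root_.IsReduced A := affine_isReduced_iff (CommRingCat.of A) |>.1 hred
  haveI : ConnectedSpace (PrimeSpectrum A) := ψ.left.homeomorph.surjective.connectedSpace ψ.left.homeomorph.continuous
  have hconn : ∀ e : A, IsIdempotentElem e → e = 0 ∨ e = 1 := idempotent_trivial
  -- the cocharacter on coordinates
  let dG := Groth.L25.Bridge.dsIso.{u} k ℤ
  haveI : IsMonHom dG.hom.hom.hom := dG.hom.hom.isMonHom_hom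
  haveI : IsMonHom dG.inv.hom.hom := dG.inv.hom.isMonHom_hom
  have hdG : dG.hom.hom.hom ≫ dG.inv.hom.hom = 𝟙 _ := congrArg (fun m => m.hom.hom) dG.hom_inv_id
  obtain ⟨cA, hcA⟩ := exists_sp (dG.inv.hom.hom ≫ ν ≫ iT ≫ ψ)
  let eM := (AddMonoidAlgebra.toMultiplicativeBialgEquiv k k ℤ).symm
  let lam : A →ₐc[k] LaurentPolynomial k :=
    (eM : MonoidAlgebra k (Multiplicative ℤ) →ₐc[k] LaurentPolynomial k).comp cA
  obtain ⟨lamNeg, hneg⟩ := Groth.L25.Dyn.exists_neg lam
  obtain ⟨-, -, -, -, hcomm⟩ := torus_props hT.2.2.1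
  -- the universal point of the cocharacter
  have hL : ∀ (R : Type u) [CommRing R] [Algebra k R],
      ∃ ℓ : SP k (LaurentPolynomial R) ⟶ Red.DS SK ℤ, toPt (lamP lam R) ≫ φ = ℓ ≫ ν ≫ iT := fun R _ _ => by
    let y : Pt k (MonoidAlgebra k (Multiplicative ℤ)) (LaurentPolynomial R) :=
      toConv ((AddMonoidAlgebra.mapAlgHom ℤ (Algebra.ofId k R)).comp
        (eM : MonoidAlgebra k (Multiplicative ℤ) →ₐc[k] LaurentPolynomial k))
    refine ⟨toPt y ≫ dG.inv.hom.hom, ?_⟩
    have e : pre cA y = lamP lam R := rfl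
    rw [← e, toPt_pre, hcA]
    simp only [Category.assoc, hψφ, Category.comp_id]
  have inj : ∀ {R : Type u} [CommRing R] [Algebra k R] (x y : Pt k A R), toPt x ≫ φ = toPt y ≫ φ → x = y :=
    fun {R} _ _ x y h => Spec.mapMulEquiv.injective ((cancel_mono φ).1 h)
  have hcst : ∀ {R : Type u} [CommRing R] [Algebra k R] (p : Pt k A R),
      toPt (pmap (cst R) p) ≫ φ = spA (cst R) ≫ toPt p ≫ φ := fun {R} _ _ p => by
    rw [show pmap (cst R) p = Groth.L08.TorusQuot.post (cst R) p from rfl, toPt_post, Category.assoc]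
  have htor : ∀ (lam' : A →ₐc[k] LaurentPolynomial k) (η' : (R : Type u) → [CommRing R] → [Algebra k R] →
        ∃ ℓ : SP k (LaurentPolynomial R) ⟶ Red.DS SK ℤ, toPt (lamP lam' R) ≫ φ = ℓ ≫ ν ≫ iT)
      (R : Type u) [CommRing R] [Algebra k R] (p : Pt k A R) (s : SP k R ⟶ T),
      s ≫ iT = toPt p ≫ φ → Dyn.LimExists k A lam' R p.ofConv := by
    intro lam' η' R _ _ p s hs
    refine limExists_of_comm lam' (inj _ _ ?_)
    obtain ⟨ℓ, hℓ⟩ := η' R
    show Spec.mapMulEquiv _ ≫ φ = Spec.mapMulEquiv _ ≫ φ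
    rw [map_mul, map_mul, MonObj.mul_comp, MonObj.mul_comp]
    change (toPt (lamP lam' R) ≫ φ) * (toPt (pmap (cst R) p) ≫ φ) = (toPt (pmap (cst R) p) ≫ φ) * (toPt (lamP lam' R) ≫ φ)
    rw [hℓ, hcst, ← hs, ← Category.assoc, ← Category.assoc, ← MonObj.mul_comp, ← MonObj.mul_comp, hcomm]
  have hnor : ∀ (lam' : A →ₐc[k] LaurentPolynomial k) (η' : (R : Type u) → [CommRing R] → [Algebra k R] →
        ∃ ℓ : SP k (LaurentPolynomial R) ⟶ Red.DS SK ℤ, toPt (lamP lam' R) ≫ φ = ℓ ≫ ν ≫ iT)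
      (n : U1 ⟶ G) (τ : T ≅ T), τ.hom ≫ iT = AGF.conjBy n iT →
      ∀ (R : Type u) [CommRing R] [Algebra k R] (p : Pt k A R),
        toPt p ≫ φ = toUnit _ ≫ n → Dyn.LimExists k A lam' R p.ofConv := by
    intro lam' η' n τ hτ R _ _ p hp
    refine limExists_of_comm lam' (inj _ _ ?_)
    obtain ⟨ℓ, hℓ⟩ := η' R
    show Spec.mapMulEquiv _ ≫ φ = Spec.mapMulEquiv _ ≫ φ
    rw [map_mul, map_mul, MonObj.mul_comp, MonObj.mul_comp]
    change (toPt (lamP lam' R) ≫ φ) * (toPt (pmap (cst R) p) ≫ φ) = (toPt (pmap (cst R) p) ≫ φ) * (toPt (lamP lam' R) ≫ φ)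
    rw [hℓ, hcst, hp]
    have h1 := congrArg (ℓ ≫ ·) (hfix n τ hτ)
    simp only [AGF.conjBy, MonObj.comp_mul, GrpObj.comp_inv, ← Category.assoc] at h1
    rw [toUnit_unique (ℓ ≫ toUnit _) (toUnit _), mul_inv_eq_iff_eq_mul] at h1
    simp only [← Category.assoc]
    rw [toUnit_unique (spA (cst R) ≫ toUnit _) (toUnit _), h1]
  have hLn : ∀ (R : Type u) [CommRing R] [Algebra k R],
      ∃ ℓ : SP k (LaurentPolynomial R) ⟶ Red.DS SK ℤ, toPt (lamP lamNeg R) ≫ φ = ℓ ≫ ν ≫ iT := fun R _ _ => by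
    let y : Pt k (MonoidAlgebra k (Multiplicative ℤ)) (LaurentPolynomial R) :=
      toConv (((AddMonoidAlgebra.mapAlgHom ℤ (Algebra.ofId k R)).comp (LaurentPolynomial.invert (R := k)).toAlgHom).comp
        (eM : MonoidAlgebra k (Multiplicative ℤ) →ₐc[k] LaurentPolynomial k))
    refine ⟨toPt y ≫ dG.inv.hom.hom, ?_⟩
    have e : pre cA y = lamP lamNeg R := by
      refine WithConv.ext (AlgHom.ext fun a => ?_)
      show _ = AddMonoidAlgebra.mapAlgHom ℤ (Algebra.ofId k R) ((lamNeg : A →ₐ[k] LaurentPolynomial k) a)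
      rw [hneg]
      rfl
    rw [← e, toPt_pre, hcA]
    simp only [Category.assoc, hψφ, Category.comp_id]
  have hneg' := negParam_symm lam lamNeg hneg
  have one1 : ∀ (R : Type u) [CommRing R] [Algebra k R] (p : Pt k A R),
      Dyn.LimIsOne k A lam R p.ofConv → p = 1 := fun R _ _ p hp =>
    attractor_eq_one hG hT φ ψ hψφ hconn lam lamNeg hneg (htor lam hL) (hnor lam hL) p hp
  have one2 : ∀ (R : Type u) [CommRing R] [Algebra k R] (p : Pt k A R),
      Dyn.LimIsOne k A lamNeg R p.ofConv → p = 1 := fun R _ _ p hp =>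
    attractor_eq_one hG hT φ ψ hψφ hconn lamNeg lam hneg' (htor lamNeg hLn) (hnor lamNeg hLn) p hp
  -- all points have limits in both directions
  have allLim : ∀ (l l' : A →ₐc[k] LaurentPolynomial k), (l' : A →ₐ[k] LaurentPolynomial k) = Dyn.negParam k A l →
      (∀ (R : Type u) [CommRing R] [Algebra k R] (p : Pt k A R), Dyn.LimIsOne k A l' R p.ofConv → p = 1) →
      jPlus l = ⊥ := by
    intro l l' hl' hone
    haveI := Groth.L25.Dyn.isHopfIdeal_jPlus l
    haveI := Groth.L25.Dyn.isHopfIdeal_jU l'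
    let Jp := jPlus l
    let Jm := jU l'
    haveI ho := Groth.Agent.S3305.result k A l l' hl' Jp Jm (Groth.L25.Dyn.represents_jPlus l)
      (Groth.L25.Dyn.represents_jU l')
    let m : Spec (CommRingCat.of ((A ⧸ Jm) ⊗[k] (A ⧸ Jp))) ⟶ Spec (CommRingCat.of A) :=
      Spec.map (CommRingCat.ofHom (Groth.L25.Dyn.mulHom (k := k) Jm Jp).toRingHom)
    haveI : IsOpenImmersion m := ho
    have hsnd : (Groth.L25.Dyn.mulHom (k := k) Jm Jp) =
        (Groth.L25.Dyn.sndPt (k := k) (Jm := Jm) (Jp := Jp) (AlgHom.id k _)).ofConv := by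
      have h1 : Groth.L25.Dyn.fstPt (k := k) (Jm := Jm) (Jp := Jp) (AlgHom.id k _) = 1 :=
        hone _ _ ((Groth.L25.Dyn.represents_jU l' _ _).1 (Groth.L25.Dyn.fst_kills (Jm := Jm) (Jp := Jp) _))
      have h2 := Groth.L25.Dyn.comp_mulHom (k := k) (Jm := Jm) (Jp := Jp) (AlgHom.id k _)
      rw [h1, _root_.one_mul, AlgHom.id_comp] at h2
      exact congrArg WithConv.ofConv h2
    have hrange : Set.range m.base = PrimeSpectrum.zeroLocus (Jp : Set A) := by
      refine Set.Subset.antisymm ?_ fun x hx => ?_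
      · rintro _ ⟨q, rfl⟩ a ha
        show Groth.L25.Dyn.mulHom (k := k) Jm Jp a ∈ q.asIdeal
        rw [hsnd, Groth.L25.Dyn.snd_kills (Jm := Jm) (Jp := Jp) _ a ha]
        exact q.asIdeal.zero_mem
      · obtain ⟨φ₀, hφ1, hφ2⟩ := Groth.L25.Dyn.exists_pair (k := k) (Jm := Jm) (Jp := Jp)
          (1 : Groth.L25.Dyn.Pt (k := k) A (A ⧸ Jp)) (toConv (Ideal.Quotient.mkₐ k Jp))
          (fun a ha => (Groth.L25.Dyn.represents_jU l' _ _).2 (Groth.L25.Dyn.limIsOne_one l') a ha)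
          fun a ha => Ideal.Quotient.eq_zero_iff_mem.2 ha
        have hcomp : φ₀.comp (Groth.L25.Dyn.mulHom (k := k) Jm Jp) = Ideal.Quotient.mkₐ k Jp := by
          have h2 := Groth.L25.Dyn.comp_mulHom φ₀
          rw [hφ1, hφ2, _root_.one_mul] at h2
          exact congrArg WithConv.ofConv h2
        obtain ⟨r, rfl⟩ : x ∈ Set.range (PrimeSpectrum.comap (Ideal.Quotient.mk Jp)) := by
          rw [range_comap_of_surjective _ _ Ideal.Quotient.mk_surjective, Ideal.mk_ker]
          exact hx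
        refine ⟨PrimeSpectrum.comap φ₀.toRingHom r, ?_⟩
        show PrimeSpectrum.comap _ (PrimeSpectrum.comap _ r) = PrimeSpectrum.comap _ r
        rw [← PrimeSpectrum.comap_comp_apply]
        exact congrArg (fun f => PrimeSpectrum.comap f r) (congrArg AlgHom.toRingHom hcomp)
    have hclopen : IsClopen (PrimeSpectrum.zeroLocus (Jp : Set A)) :=
      ⟨PrimeSpectrum.isClosed_zeroLocus _, hrange ▸ m.isOpenEmbedding.isOpen_range⟩
    haveI : Nontrivial (A ⧸ Jp) := (Bialgebra.counitAlgHom k (A ⧸ Jp)).toRingHom.domain_nontrivial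
    rcases isClopen_iff.1 hclopen with h0 | h1
    · exact absurd (PrimeSpectrum.zeroLocus_empty_iff_eq_top.1 h0)
        (Ideal.Quotient.nontrivial_iff.1 inferInstance)
    · rw [eq_bot_iff]
      intro a ha
      have h2 := (PrimeSpectrum.zeroLocus_eq_univ_iff (s := (Jp : Set A))).1 h1 ha
      rwa [nilradical_eq_zero] at h2
  have hp1 := allLim lam lamNeg hneg one2
  have hp2 := allLim lamNeg lam hneg' one1
  have hall : ∀ (R : Type u) [CommRing R] [Algebra k R] (p : A →ₐ[k] R), Groth.L25.Dyn.TorCommutes lam p := by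
    intro R _ _ p
    refine Groth.L25.Dyn.TorCommutes.of_universal lam ?_
    have hfixp : Dyn.conjOrbit k A lam R p = (IsScalarTower.toAlgHom k R (LaurentPolynomial R)).comp p := by
      refine (Groth.L25.Dyn.commutes_iff lam p).2 fun m hm a ha => ?_
      rcases lt_or_gt_of_ne hm with h | h
      · have : a ∈ jPlus lam := Ideal.subset_span ⟨m, h, ha⟩
        rw [hp1, Ideal.mem_bot] at this
        rw [this, map_zero]
      · have : a ∈ jPlus lamNeg := Ideal.subset_span ⟨-m, neg_neg_of_pos h,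
          (Groth.L25.Dyn.hom_neg lam lamNeg hneg _ a).2 (by rwa [neg_neg])⟩
        rw [hp2, Ideal.mem_bot] at this
        rw [this, map_zero]
    have h1 := Groth.L25.Dyn.conjOrbit_eq lam p
    rw [hfixp] at h1
    exact (mul_inv_eq_iff_eq_mul.1 h1.symm : _)
  refine Groth.L08.HomSpace.hom_ext_affine _ _ fun R _ _ v => ?_
  obtain ⟨y, hy⟩ := (Spec.mapMulEquiv (R := k) (S := MonoidAlgebra k (Multiplicative ℤ)) (T := R)).surjective
    ((v ≫ z) ≫ dG.hom.hom.hom)
  let χ : LaurentPolynomial k →ₐ[k] R :=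
    y.ofConv.comp (eM.symm : LaurentPolynomial k →ₐc[k] MonoidAlgebra k (Multiplicative ℤ))
  let gp : Pt k A R := Groth.L08.TorusQuot.ofPt ((v ≫ g) ≫ ψ)
  have h2 := (hall R gp.ofConv R (AlgHom.id k R) χ).eq
  have hA : toConv (χ.comp (lam : A →ₐ[k] LaurentPolynomial k)) = pre cA y := by
    refine WithConv.ext (AlgHom.ext fun a => ?_)
    show y.ofConv (eM.symm (eM (cA a))) = y.ofConv (cA a)
    rw [BialgEquiv.symm_apply_apply]
  have hB : pmap (AlgHom.id k R) (toConv gp.ofConv) = gp := WithConv.ext (AlgHom.id_comp _)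
  rw [hA, hB] at h2
  have eL : toPt (pre cA y) ≫ φ = v ≫ z ≫ ν ≫ iT := by
    rw [toPt_pre, hcA, show toPt y = (v ≫ z) ≫ dG.hom.hom.hom from hy]
    simp only [Category.assoc, reassoc_of% hdG, hψφ, Category.comp_id]
  have eg : toPt gp ≫ φ = v ≫ g := by
    rw [Groth.L08.TorusQuot.toPt_ofPt, Category.assoc, hψφ, Category.comp_id]
  have h3 : toPt (pre cA y) * toPt gp = toPt gp * toPt (pre cA y) :=
    (map_mul _ _ _).symm.trans ((congrArg toPt h2).trans (map_mul _ _ _))
  have := congrArg (· ≫ φ) h3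
  simp only [MonObj.mul_comp, eL, eg] at this
  simp only [MonObj.comp_mul]
  exact this

end Groth.L25.RedField
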