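import Groth.Agent.L25.RedField.CentralIsogenyCrit
import Groth.Agent.L25.RedField.RadicalDescent
import Groth.Agent.L19.SpecSub.IsogenySolv
import Groth.Agent.L25.SplitSub.Join
import Groth.Agent.L08.FlatHom
import Groth.Agent.L20.FibreScheme
import Groth.Agent.L26.AV.SmoothField

/-!
# Fibrewise isogenies of reductive groups are isogenies
-/

set_option autoImplicit false
set_option backward.isDefEq.respectTransparency.types false
set_option linter.style.haveILetI false
universe u

open CategoryTheory CategoryTheory.Limits MonoidalCategory CartesianMonoidalCategory MonObj GrpObj AlgebraicGeometry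
open Groth.L25

noncomputable section

namespace Groth.L25.RedField

variable {S : Scheme.{u}}

/-- a closed subgroup with finite fibres and central field points is finite -/
theorem isFinite_of_central_pts {G K : Over S} [GrpObj G] [GrpObj K] (hG : Red.IsReductive G) (k : K ⟶ G) [IsMonHom k]
    [IsClosedImmersion k.left] [LocallyOfFinitePresentation K.hom]
    (hfin : ∀ s : S, IsFinite (K.hom.fiberToSpecResidueField s))
    (hcen : ∀ (L : Type u) [Field L] (b : Spec (CommRingCat.of L) ⟶ S) (x : Over.mk b ⟶ K) (X : Over S)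
      (q : X ⟶ Over.mk b) (g : X ⟶ G), (q ≫ x ≫ k) * g = g * (q ≫ x ≫ k)) : IsFinite K.hom := by
  haveI := hG.1; haveI := hG.2.1
  haveI : IsAffineHom K.hom := by rw [← Over.w k]; infer_instance
  have h0 := Groth.L08.TorusWeights.unipotentRankZero_of_isReductive hG
  choose P hP e p M instM i he hp hM hi using fun s =>
    Groth.L08.TorusWeights.exists_chart_maxTorus (Groth.L08.TorusWeights.redRankLocallyConstant_of_isReductive hG) s
  refine isFinite_of_charts K.hom fun x => ⟨P x, e x, p x, he x, hp x, ?_⟩
  show IsFinite (Red.bc (e x) K).hom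
  haveI := hP x
  haveI : IsMonHom ((Over.pullback (e x)).map k) := Groth.L25.MonoClosed.isMonHom_pullbackMap _ _
  haveI : IsClosedImmersion ((Over.pullback (e x)).map k).left :=
    MorphismProperty.overPullbackMap (P := @IsClosedImmersion) (e x) k inferInstance
  haveI : Smooth (Red.bc (e x) G).hom := inferInstanceAs (Smooth (pullback.snd G.hom (e x)))
  haveI : IsAffineHom (Red.bc (e x) G).hom := MorphismProperty.pullback_snd (P := @IsAffineHom) G.hom (e x) inferInstance
  haveI : IsAffine (Red.bc (e x) G).left := isAffine_of_isAffineHom (Red.bc (e x) G).hom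
  haveI : IsAffineHom (Red.bc (e x) K).hom := MorphismProperty.pullback_snd (P := @IsAffineHom) K.hom (e x) inferInstance
  haveI : LocallyOfFinitePresentation (Red.bc (e x) K).hom :=
    inferInstanceAs (LocallyOfFinitePresentation (pullback.snd K.hom (e x)))
  have hfinP : ∀ q : P x, IsFinite ((Red.bc (e x) K).hom.fiberToSpecResidueField q) := fun q => by
    show IsFinite (pullback.snd (pullback.snd K.hom (e x)) ((P x).fromSpecResidueField q))
    rw [← pullbackLeftPullbackSndIso_hom_snd K.hom (e x) ((P x).fromSpecResidueField q)]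
    exact (MorphismProperty.cancel_left_of_respectsIso @IsFinite _ _).2
      (isFinite_snd_of_fibre K.hom hfin ((P x).residueField q) ((P x).fromSpecResidueField q ≫ e x))
  haveI := universallyClosed_of_central_pts (Groth.L08.TorusWeights.unipotentRankZero_bc (e x) h0)
    ((Over.pullback (e x)).map k) hfinP (fun L _ b y X q g => by
      apply SplitSub.toBase_injective (e x)
      rw [NilAction.toBase_mul, NilAction.toBase_mul]
      let q' : Over.mk (X.hom ≫ e x) ⟶ Over.mk (b ≫ e x) := Over.homMk q.left (by
        show q.left ≫ b ≫ e x = X.hom ≫ e x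
        rw [← Category.assoc]; exact congrArg (· ≫ e x) (Over.w q))
      let y' : Over.mk (b ≫ e x) ⟶ K := NilAction.toBase (e x) y
      have h1 : NilAction.toBase (e x) (q ≫ y ≫ (Over.pullback (e x)).map k) = q' ≫ y' ≫ k := by
        rw [← Category.assoc, SplitSub.toBase_map, ← Category.assoc]
        congr 1
      rw [h1]
      exact hcen L (b ≫ e x) y' _ q' (NilAction.toBase (e x) g)) (hi x)
  rw [IsFinite.iff_isProper_and_isAffineHom]
  exact ⟨⟨⟩, inferInstance⟩

/-- pullbacks of a fibrewise finite morphism to points of the base are finite -/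
theorem isFinite_pullback_of_fibres {G' G : Scheme.{u}} (f : G' ⟶ G) (π : G ⟶ S) {s : S}
    (h : IsFinite (pullback.snd f (π.fiberι s))) {W Z : Scheme.{u}} {a : W ⟶ G'} {b : W ⟶ Z} {c : Z ⟶ G}
    (sq : IsPullback a b f c) (c' : Z ⟶ π.fiber s) (hc : c' ≫ π.fiberι s = c) : IsFinite b := by
  subst hc
  rw [← sq.isoPullback_hom_snd, MorphismProperty.cancel_left_of_respectsIso @IsFinite,
    ← pullbackLeftPullbackSndIso_inv_snd_snd f (π.fiberι s) c',
    MorphismProperty.cancel_left_of_respectsIso @IsFinite]
  exact MorphismProperty.pullback_snd _ _ h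

/-- **field points of the kernel of a fibrewise finite homomorphism are central** -/
theorem central_of_kernel_point {G' G : Over S} [GrpObj G'] [GrpObj G] (hG' : Red.IsReductive G')
    (hG : Red.IsReductive G) (f : G' ⟶ G)
    [IsMonHom f] (hfib : ∀ s : S, IsFinite (pullback.snd f.left (G.hom.fiberι s)))
    {L : Type u} [Field L] (b : Spec (CommRingCat.of L) ⟶ S) (x : Over.mk b ⟶ G') (hx : x ≫ f = 1)
    {X : Over S} (q : X ⟶ Over.mk b) (g : X ⟶ G') : (q ≫ x) * g = g * (q ≫ x) := by
  haveI := hG'.1; haveI := hG'.2.1; haveI := hG.1; haveI := hG.2.1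
  let GE := Red.bc b G'
  let QE := Red.bc b G
  let fE : GE ⟶ QE := (Over.pullback b).map f
  haveI : IsMonHom fE := Groth.L25.MonoClosed.isMonHom_pullbackMap _ _
  obtain ⟨⟨s, φ⟩, hb⟩ := (Scheme.SpecToEquivOfField L S).symm.surjective b
  have hb : Spec.map φ ≫ S.fromSpecResidueField s = b := hb
  have hfLfin : IsFinite fE.left :=
    isFinite_pullback_of_fibres f.left G.hom (hfib s) (HomLocus.isPullback_map f b)
      (pullback.lift (pullback.fst G.hom b) (pullback.snd G.hom b ≫ Spec.map φ) (by
        rw [Category.assoc, hb]; exact pullback.condition))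
      (pullback.lift_fst _ _ _)
  -- the point as a rational point
  let xL : 𝟙_ (Over (Spec (CommRingCat.of L))) ⟶ GE := NilAction.ofBase b
    ((Over.homMk (𝟙 _) : Over.mk ((𝟙_ (Over (Spec (CommRingCat.of L)))).hom ≫ b) ⟶ Over.mk b) ≫ x)
  have hxL : xL ≫ fE = 1 := by
    apply SplitSub.toBase_injective b
    rw [SplitSub.toBase_map, NilAction.toBase_ofBase, Category.assoc, hx, MonObj.comp_one, NilAction.toBase_one]
  haveI : Smooth GE.hom := inferInstanceAs (Smooth (pullback.snd G'.hom b))
  haveI : ConnectedSpace GE.left :=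
    Groth.L08.Borel.connectedSpace_bc_point G' (Groth.L08.TorusWeights.isConnected_of_isReductive hG') b
  have hcen : (𝟙 GE) * (toUnit GE ≫ xL) = (toUnit GE ≫ xL) * (𝟙 GE) := by
    obtain ⟨s₀⟩ : Nonempty ↥(Spec (CommRingCat.of L)) := inferInstance
    refine eq_of_geomFibre s₀ _ _ ?_
    let F := Over.pullback (Red.geomPt s₀)
    let R := F.obj GE
    let Q := F.obj QE
    haveI : Smooth R.hom := Groth.L08.Borel.smooth_bc (Red.geomPt s₀) GE
    haveI : IsSeparated R.hom := Groth.L08.AbelianGrp.isSeparated (Red.bc (Red.geomPt s₀) GE)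
    haveI : ConnectedSpace R.left := Groth.L08.Borel.connectedSpace_bc' (Red.geomPt s₀) GE
    haveI : IsFinite (F.map fE).left := MorphismProperty.overPullbackMap (P := @IsFinite) (Red.geomPt s₀) fE hfLfin
    haveI : IsMonHom (F.map fE) := Groth.L25.MonoClosed.isMonHom_pullbackMap _ _
    let xbar : 𝟙_ (Over (Spec (CommRingCat.of (AlgebraicClosure ((Spec (CommRingCat.of L)).residueField s₀))))) ⟶ R :=
      Functor.LaxMonoidal.ε F ≫ F.map xL
    have hxbar : xbar ≫ F.map fE = 1 := by
      rw [Category.assoc, ← Functor.map_comp, hxL, show F.map (1 : _ ⟶ QE) = 1 from map_one (F.homMonoidHom),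
        MonObj.comp_one]
    have hu : F.map (toUnit GE ≫ xL) = toUnit R ≫ xbar := by
      rw [Functor.map_comp, ← Category.assoc]
      congr 1
      rw [← cancel_mono (Functor.OplaxMonoidal.η F)]
      exact toUnit_unique _ _
    rw [Functor.map_mul, Functor.map_mul, CategoryTheory.Functor.map_id, hu]
    haveI : IsReduced R.left := Groth.Agent.AV.isReduced_of_smooth_field R.hom
    haveI : LocallyOfFiniteType R.hom := inferInstance
    let E := equalizer ((𝟙 R) * (toUnit R ≫ xbar)) ((toUnit R ≫ xbar) * (𝟙 R))
    haveI : IsClosedImmersion (equalizer.ι ((𝟙 R) * (toUnit R ≫ xbar)) ((toUnit R ≫ xbar) * (𝟙 R))).left :=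
      inferInstance
    obtain ⟨z, hz⟩ := Groth.L14.Luna.exists_lift_of_points
      (equalizer.ι ((𝟙 R) * (toUnit R ≫ xbar)) ((toUnit R ≫ xbar) * (𝟙 R))) (𝟙 R) fun y => by
        refine ⟨equalizer.lift y ?_, by rw [equalizer.lift_ι, Category.comp_id]⟩
        rw [MonObj.comp_mul, MonObj.comp_mul, Category.comp_id, ← Category.assoc, toUnit_unique (y ≫ toUnit R) (𝟙 _),
          Category.id_comp]
        exact Groth.L19.SpecSub.ker_central (F.map fE) xbar hxbar y
    have := congrArg (z ≫ ·) (equalizer.condition ((𝟙 R) * (toUnit R ≫ xbar)) ((toUnit R ≫ xbar) * (𝟙 R)))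
    simpa only [← Category.assoc, hz, Category.id_comp] using this
  -- descend to the point
  let X₁ : Over (Spec (CommRingCat.of L)) := Over.mk q.left
  have hX : X₁.hom ≫ b = X.hom := Over.w q
  let u : Over.mk (X₁.hom ≫ b) ⟶ X := Over.homMk (𝟙 _) (by exact (Category.id_comp _).trans hX.symm)
  haveI : IsIso u := by
    haveI : IsIso ((Over.forget S).map u) := inferInstanceAs (IsIso (𝟙 X.left))
    exact isIso_of_reflects_iso u (Over.forget S)
  let g₁ : X₁ ⟶ GE := NilAction.ofBase b (u ≫ g)
  have h := congrArg (fun m => NilAction.toBase b (g₁ ≫ m)) hcen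
  simp only [MonObj.comp_mul, Category.comp_id, NilAction.toBase_mul] at h
  have e2 : NilAction.toBase b (g₁ ≫ toUnit GE ≫ xL) = u ≫ q ≫ x := by
    rw [← Category.assoc, toUnit_unique (g₁ ≫ toUnit GE) (toUnit X₁)]
    let xx : Over.mk ((𝟙_ (Over (Spec (CommRingCat.of L)))).hom ≫ b) ⟶ G' :=
      (Over.homMk (𝟙 _) : Over.mk ((𝟙_ (Over (Spec (CommRingCat.of L)))).hom ≫ b) ⟶ Over.mk b) ≫ x
    refine Over.OverMorphism.ext ?_
    simp [xL, NilAction.toBase, NilAction.ofBase, pullback.lift_fst, u, X₁]
  rw [e2, NilAction.toBase_ofBase, ← MonObj.comp_mul, ← MonObj.comp_mul, cancel_epi] at h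
  exact h.symm

/-- **fibrewise isogenies are isogenies** -/
theorem isogeny_of_fibres {G' G : Over S} [GrpObj G'] [GrpObj G] (hG' : Red.IsReductive G') (hG : Red.IsReductive G)
    (f : G' ⟶ G) [IsMonHom f] [Surjective f.left] (hfib : ∀ s : S, IsFinite (pullback.snd f.left (G.hom.fiberι s))) :
    IsFinite f.left ∧ Flat f.left := by
  haveI := hG'.1; haveI := hG'.2.1; haveI := hG.1; haveI := hG.2.1
  haveI : LocallyOfFiniteType G.hom := inferInstance
  haveI : GeometricallyReduced G.hom := Groth.Agent.AV.geometricallyReduced_of_smooth _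
  haveI hflat : Flat f.left := (Groth.L08.FlatHom.flat_of_surjective_fibres G' G f).1
  haveI hflp : LocallyOfFinitePresentation f.left := by
    haveI : LocallyOfFinitePresentation (f.left ≫ G.hom) := by rw [Over.w f]; infer_instance
    exact Groth.L20.locallyOfFinitePresentation_of_comp f.left G.hom
  haveI : QuasiCompact f.left := by
    haveI : QuasiCompact (f.left ≫ G.hom) := by rw [Over.w f]; infer_instance
    exact QuasiCompact.of_comp f.left G.hom
  obtain ⟨K, gK, k, hk, hkm, -, hK⟩ := Groth.L25.SplitSub.exists_kernel f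
  haveI := hk; haveI := hkm
  have hsq := hK.map (Over.forget S)
  haveI : IsClosedImmersion η[G].left := by
    haveI : IsClosedImmersion (η[G].left ≫ G.hom) := by rw [Over.w]; exact inferInstanceAs (IsClosedImmersion (𝟙 S))
    exact IsClosedImmersion.of_comp η[G].left G.hom
  haveI : IsClosedImmersion k.left := MorphismProperty.of_isPullback hsq.flip ‹_›
  haveI : LocallyOfFinitePresentation K.hom :=
    (MorphismProperty.of_isPullback hsq hflp : LocallyOfFinitePresentation ((Over.forget S).map (toUnit K)))
  have hfinK : ∀ s : S, IsFinite (K.hom.fiberToSpecResidueField s) := fun s => by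
    refine isFinite_pullback_of_fibres f.left G.hom (hfib s)
      (c := S.fromSpecResidueField s ≫ η[G].left)
      ((IsPullback.of_hasPullback K.hom (S.fromSpecResidueField s)).paste_horiz hsq)
      (pullback.lift (S.fromSpecResidueField s ≫ η[G].left) (𝟙 _) ?_) (pullback.lift_fst _ _ _)
    rw [Category.assoc, show η[G].left ≫ G.hom = 𝟙 S from Over.w η[G], Category.comp_id, Category.id_comp]
  have hKfin := isFinite_of_central_pts hG' k hfinK fun L _ b x X q g => by
    exact central_of_kernel_point hG' hG f hfib b (x ≫ k) (by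
      rw [Category.assoc, hK.w, ← Category.assoc, toUnit_unique (x ≫ toUnit K) (toUnit _), ← Hom.one_def]) q g
  refine ⟨?_, hflat⟩
  have h2 := (Groth.L15.KerFlat.isPullback_kernelPair hK).map (Over.forget S)
  have h3 : IsFinite (fst G' K).left := MorphismProperty.pullback_fst G'.hom K.hom hKfin
  exact MorphismProperty.of_isPullback_of_descendsAlong (P := @IsFinite)
    (Q := @Surjective ⊓ @Flat ⊓ @QuasiCompact) h2
    ⟨⟨‹Surjective f.left›, hflat⟩, ‹QuasiCompact f.left›⟩ h3

end Groth.L25.RedField
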