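import Groth.Agent.L25.RedField.FiniteCentral
import Groth.Agent.L25.RedField.RadicalDescent
import Groth.Agent.L25.GenWords.Generated
import Groth.Agent.L25.Extension.PowFinite
import Groth.Agent.L19.SpecSub.IsogenySolv
import Groth.Agent.L08.ActSepConn
import Groth.Agent.L26.AV.SmoothField

/-!
# Quasi-finite normal subgroups of groups with centre of multiplicative type
-/

set_option autoImplicit false
set_option backward.isDefEq.respectTransparency.types false
set_option linter.style.haveILetI false
universe u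

open CategoryTheory CategoryTheory.Limits MonoidalCategory CartesianMonoidalCategory MonObj GrpObj AlgebraicGeometry
open Groth.L25

noncomputable section

namespace Groth.L25.RedField

/-- **finite normal subgroups of connected groups are central on rational points** -/
theorem central_of_finite_normal {k : Type u} [Field k] [IsAlgClosed k] {R N : Over (Spec (CommRingCat.of k))}
    [GrpObj R] [GrpObj N] [LocallyOfFiniteType R.hom] [ConnectedSpace R.left] (n : N ⟶ R) [IsMonHom n]
    (hn : AlgGrp.IsNormalHom n) [Finite (𝟙_ (Over (Spec (CommRingCat.of k))) ⟶ N)]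
    (y : 𝟙_ (Over (Spec (CommRingCat.of k))) ⟶ N) (g : 𝟙_ (Over (Spec (CommRingCat.of k))) ⟶ R) :
    g * (y ≫ n) = (y ≫ n) * g := by
  let U₀ := 𝟙_ (Over (Spec (CommRingCat.of k)))
  let x := y ≫ n
  let c : R ⟶ R := 𝟙 R * (toUnit R ≫ x) * (𝟙 R)⁻¹
  have hgc : ∀ a : U₀ ⟶ R, a ≫ c = a * x * a⁻¹ := fun a => by
    simp only [c, MonObj.comp_mul, GrpObj.comp_inv, Category.comp_id, ← Category.assoc]
    rw [toUnit_unique (a ≫ toUnit R) (𝟙 _), Category.id_comp]
  let pt : (U₀ ⟶ N) → R.left := fun z => (z ≫ n).left (IsLocalRing.closedPoint k)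
  let P : Set R.left := Set.range pt
  have hPf : P.Finite := Set.finite_range pt
  have hcl : ∀ y ∈ P, y ∈ closedPoints R.left := by
    rintro _ ⟨z, rfl⟩
    exact ((pointEquivClosedPoint R.hom) ⟨_, Over.w (z ≫ n)⟩).2
  have hPc : IsClosed P := by
    rw [← Set.biUnion_of_singleton P]
    exact hPf.isClosed_biUnion fun y hy => hcl y hy
  haveI : JacobsonSpace R.left := LocallyOfFiniteType.jacobsonSpace R.hom
  have hpt : ∀ y ∈ closedPoints R.left, c.left y ∈ P := by
    intro w hw
    obtain ⟨⟨s, hs⟩, hsy⟩ := (pointEquivClosedPoint R.hom).surjective ⟨w, hw⟩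
    have hsy' : s (IsLocalRing.closedPoint k) = w := congrArg Subtype.val hsy
    let a : U₀ ⟶ R := Over.homMk s hs
    have hy2 : c.left w = (a ≫ c).left (IsLocalRing.closedPoint k) := by
      rw [Over.comp_left, Scheme.Hom.comp_apply]
      exact congrArg c.left hsy'.symm
    obtain ⟨z, hz⟩ := hn U₀ a y
    refine ⟨z, ?_⟩
    rw [hy2, hgc]
    exact congrArg (fun m : U₀ ⟶ R => m.left (IsLocalRing.closedPoint k)) hz.symm
  have huniv : Set.range c.left ⊆ P := by
    have h1 : closure (closedPoints R.left) ⊆ c.left ⁻¹' P :=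
      closure_minimal hpt (hPc.preimage c.left.continuous)
    rw [closure_closedPoints] at h1
    rintro _ ⟨z, rfl⟩
    exact h1 (Set.mem_univ z)
  have hsub : (Set.range c.left).Subsingleton := by
    by_contra hns
    obtain ⟨a, ha, b, hb, hab⟩ := Set.not_subsingleton_iff.1 hns
    have hd : _root_.IsDiscrete (Set.range c.left) :=
      (hPf.subset huniv).isDiscrete_of_subset_closedPoints (huniv.trans hcl)
    haveI := hd.to_subtype
    haveI := Subtype.preconnectedSpace (isPreconnected_range c.left.continuous)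
    haveI : Subsingleton (Set.range c.left) := PreconnectedSpace.trivial_of_discrete
    exact hab (congrArg Subtype.val (Subsingleton.elim (⟨a, ha⟩ : Set.range c.left) ⟨b, hb⟩))
  have h : g ≫ c = (1 : U₀ ⟶ R) ≫ c := Groth.L19.SpecSub.pt_ext (hsub ⟨_, rfl⟩ ⟨_, rfl⟩)
  rw [hgc, hgc, _root_.one_mul, inv_one, _root_.mul_one] at h
  calc g * x = g * x * g⁻¹ * g := by group
    _ = x * g := by rw [h]

variable {S : Scheme.{u}}

/-- **field points of a normal subgroup with finite fibres are central** -/
theorem central_of_qf_point {G K : Over S} [GrpObj G] [GrpObj K] [Smooth G.hom]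
    (hconn : ∀ s : S, _root_.IsConnected (G.hom.base ⁻¹' {s})) (k : K ⟶ G) [IsMonHom k]
    (hn : AlgGrp.IsNormalHom k) (hfin : ∀ s : S, IsFinite (K.hom.fiberToSpecResidueField s))
    {L : Type u} [Field L] (b : Spec (CommRingCat.of L) ⟶ S) (x : Over.mk b ⟶ K)
    {X : Over S} (q : X ⟶ Over.mk b) (g : X ⟶ G) : (q ≫ x ≫ k) * g = g * (q ≫ x ≫ k) := by
  let GE := Red.bc b G
  let KE := Red.bc b K
  let kE : KE ⟶ GE := (Over.pullback b).map k
  haveI : IsMonHom kE := Groth.L25.MonoClosed.isMonHom_pullbackMap _ _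
  have hnE : AlgGrp.IsNormalHom kE := Groth.L25.GenWords.isNormalHom_bc b k hn
  haveI hKE : IsFinite KE.hom := isFinite_snd_of_fibre K.hom hfin L b
  let yE : 𝟙_ (Over (Spec (CommRingCat.of L))) ⟶ KE := NilAction.ofBase b
    ((Over.homMk (𝟙 _) : Over.mk ((𝟙_ (Over (Spec (CommRingCat.of L)))).hom ≫ b) ⟶ Over.mk b) ≫ x)
  let xL := yE ≫ kE
  haveI : Smooth GE.hom := inferInstanceAs (Smooth (pullback.snd G.hom b))
  haveI : ConnectedSpace GE.left := Groth.L08.Borel.connectedSpace_bc_point G hconn b
  have hcen : (𝟙 GE) * (toUnit GE ≫ xL) = (toUnit GE ≫ xL) * (𝟙 GE) := by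
    obtain ⟨s₀⟩ : Nonempty ↥(Spec (CommRingCat.of L)) := inferInstance
    refine eq_of_geomFibre s₀ _ _ ?_
    let F := Over.pullback (Red.geomPt s₀)
    let R := F.obj GE
    let N := F.obj KE
    let U₁ := 𝟙_ (Over (Spec (CommRingCat.of (AlgebraicClosure ((Spec (CommRingCat.of L)).residueField s₀)))))
    haveI : Smooth R.hom := Groth.L08.Borel.smooth_bc (Red.geomPt s₀) GE
    haveI : IsSeparated R.hom := Groth.L08.AbelianGrp.isSeparated (Red.bc (Red.geomPt s₀) GE)
    haveI : ConnectedSpace R.left := Groth.L08.Borel.connectedSpace_bc' (Red.geomPt s₀) GE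
    haveI : IsMonHom (F.map kE) := Groth.L25.MonoClosed.isMonHom_pullbackMap _ _
    haveI : IsFinite N.hom := MorphismProperty.pullback_snd KE.hom (Red.geomPt s₀) hKE
    haveI : IsFinite (pullback.snd N.hom (𝟙 (Spec (CommRingCat.of
        (AlgebraicClosure ((Spec (CommRingCat.of L)).residueField s₀)))))) :=
      MorphismProperty.pullback_snd _ _ inferInstance
    haveI : Finite (U₁ ⟶ N) := finite_points_of_finite (K := N) (𝟙 _)
    let ybar : U₁ ⟶ N := Functor.LaxMonoidal.ε F ≫ F.map yE
    let xbar : U₁ ⟶ R := ybar ≫ F.map kE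
    have hu : F.map (toUnit GE ≫ xL) = toUnit R ≫ xbar := by
      rw [Functor.map_comp, show xbar = Functor.LaxMonoidal.ε F ≫ F.map xL from by
        simp only [xbar, ybar, xL, Functor.map_comp, Category.assoc], ← Category.assoc]
      congr 1
      rw [← cancel_mono (Functor.OplaxMonoidal.η F)]
      exact toUnit_unique _ _
    rw [Functor.map_mul, Functor.map_mul, CategoryTheory.Functor.map_id, hu]
    haveI : IsReduced R.left := Groth.Agent.AV.isReduced_of_smooth_field R.hom
    haveI : LocallyOfFiniteType R.hom := inferInstance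
    haveI : IsClosedImmersion (equalizer.ι ((𝟙 R) * (toUnit R ≫ xbar)) ((toUnit R ≫ xbar) * (𝟙 R))).left :=
      inferInstance
    obtain ⟨z, hz⟩ := Groth.L14.Luna.exists_lift_of_points
      (equalizer.ι ((𝟙 R) * (toUnit R ≫ xbar)) ((toUnit R ≫ xbar) * (𝟙 R))) (𝟙 R) fun w => by
        refine ⟨equalizer.lift w ?_, by rw [equalizer.lift_ι, Category.comp_id]⟩
        rw [MonObj.comp_mul, MonObj.comp_mul, Category.comp_id, ← Category.assoc, toUnit_unique (w ≫ toUnit R) (𝟙 _),
          Category.id_comp]
        exact central_of_finite_normal (F.map kE) (Groth.L25.GenWords.isNormalHom_bc (Red.geomPt s₀) kE hnE) ybar w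
    have := congrArg (z ≫ ·) (equalizer.condition ((𝟙 R) * (toUnit R ≫ xbar)) ((toUnit R ≫ xbar) * (𝟙 R)))
    simpa only [← Category.assoc, hz, Category.id_comp] using this
  let X₁ : Over (Spec (CommRingCat.of L)) := Over.mk q.left
  have hX : X₁.hom ≫ b = X.hom := Over.w q
  let u : Over.mk (X₁.hom ≫ b) ⟶ X := Over.homMk (𝟙 _) (by exact (Category.id_comp _).trans hX.symm)
  haveI : IsIso u := by
    haveI : IsIso ((Over.forget S).map u) := inferInstanceAs (IsIso (𝟙 X.left))
    exact isIso_of_reflects_iso u (Over.forget S)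
  let g₁ : X₁ ⟶ GE := NilAction.ofBase b (u ≫ g)
  have h := congrArg (fun m => NilAction.toBase b (g₁ ≫ m)) hcen
  simp only [MonObj.comp_mul, Category.comp_id, NilAction.toBase_mul] at h
  have e2 : NilAction.toBase b (g₁ ≫ toUnit GE ≫ xL) = u ≫ q ≫ x ≫ k := by
    rw [← Category.assoc, toUnit_unique (g₁ ≫ toUnit GE) (toUnit X₁), ← Category.assoc, SplitSub.toBase_map,
      ← Category.assoc q, ← Category.assoc u]
    congr 1
    refine Over.OverMorphism.ext ?_
    simp [yE, NilAction.toBase, NilAction.ofBase, pullback.lift_fst, u, X₁]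
  rw [e2, NilAction.toBase_ofBase, ← MonObj.comp_mul, ← MonObj.comp_mul, cancel_epi] at h
  exact h.symm

/-- **a quasi-finite normal closed subgroup is finite if the centre is of multiplicative type** -/
theorem isFinite_of_centre_multType {G Z K : Over S} [GrpObj G] [GrpObj Z] [GrpObj K] [Smooth G.hom]
    (hconn : ∀ s : S, _root_.IsConnected (G.hom.base ⁻¹' {s})) (j : Z ⟶ G) (hZ : Red.IsCentre j)
    (hZm : SGA3x.IsMultTypeFT Z) (k : K ⟶ G) [IsMonHom k] [IsClosedImmersion k.left] (hn : AlgGrp.IsNormalHom k)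
    [LocallyOfFinitePresentation K.hom] [QuasiCompact K.hom] [LocallyQuasiFinite K.hom] : IsFinite K.hom := by
  haveI := hZ.1; haveI := hZ.2.1
  haveI : Mono k := Over.mono_of_mono_left k
  haveI : UniversallyOpen G.hom := inferInstance
  haveI : IsSeparated G.hom := Groth.L08.ActSep.isSeparated_of_connected hconn (Groth.L08.ActSep.leftMul G)
    (Groth.L08.ActSep.surjective_leftMul G)
  haveI : IsSeparated K.hom := by rw [← Over.w k]; infer_instance
  have hfin : ∀ s : S, IsFinite (K.hom.fiberToSpecResidueField s) := fun s => inferInstance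
  haveI : UniversallyClosed K.hom := by
    rw [UniversallyClosed.eq_valuativeCriterion]
    refine ⟨fun sq => ?_, inferInstance⟩
    let V := sq.R
    let L := sq.K
    let a := Spec.map (CommRingCat.ofHom (algebraMap V L))
    let b := a ≫ sq.i₂
    let X : Over S := Over.mk b
    let x : X ⟶ K := Over.homMk sq.i₁ sq.commSq.w
    obtain ⟨τ, hτ⟩ := (hZ.2.2 X (x ≫ k)).2 fun X' x' g => by
      rw [Category.comp_id]
      exact central_of_qf_point hconn k hn hfin b x x' g
    haveI := isFinite_snd_of_fibre K.hom hfin L b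
    haveI : Finite (X ⟶ K) := finite_points_of_finite b
    obtain ⟨n, hn', hxn⟩ := (isOfFinOrder_of_finite x).exists_pow_eq_one
    have hτn : τ ^ n = 1 := by
      rw [← cancel_mono j, MonObj.one_comp]
      refine (pow_comp_hom j τ n).trans ?_
      rw [hτ]
      refine (pow_comp_hom k x n).symm.trans ?_
      rw [hxn, MonObj.one_comp]
    haveI hpow := Groth.L25.Extension.finite_pow hZm hn'
    have hτp : τ ≫ ((𝟙 Z) ^ n) = 1 := by
      have key : ∀ m : ℕ, τ ≫ ((𝟙 Z) ^ m) = τ ^ m := fun m => by
        induction m with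
        | zero => rw [pow_zero, pow_zero, MonObj.comp_one]
        | succ m ih => rw [pow_succ, pow_succ, MonObj.comp_mul, Category.comp_id, ih]
      rw [key, hτn]
    let Y : Over S := Over.mk sq.i₂
    let jY : X ⟶ Y := Over.homMk a rfl
    let one' : Y ⟶ Z := 1
    have hsq : τ.left ≫ ((𝟙 Z) ^ n : Z ⟶ Z).left = a ≫ one'.left := by
      refine congrArg CommaMorphism.left (?_ : τ ≫ ((𝟙 Z) ^ n) = jY ≫ one')
      rw [hτp, MonObj.comp_one]
    let sq' : ValuativeCommSq ((𝟙 Z) ^ n : Z ⟶ Z).left := { R := V, K := L, i₁ := τ.left, i₂ := one'.left, commSq := ⟨hsq⟩ }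
    have hexist : ValuativeCriterion.Existence ((𝟙 Z) ^ n : Z ⟶ Z).left := by
      have h := (inferInstance : UniversallyClosed ((𝟙 Z) ^ n : Z ⟶ Z).left)
      rw [UniversallyClosed.eq_valuativeCriterion] at h
      exact h.1
    obtain ⟨l, hl1, hl2⟩ := (hexist sq').exists_lift.some
    let g' : Y ⟶ G := (Over.homMk l (by
      have e1 := congrArg (· ≫ Z.hom) hl2
      simp only [Category.assoc, Over.w] at e1
      exact e1.trans (Over.w one')) : Y ⟶ Z) ≫ j
    have hlift : a ≫ g'.left = sq.i₁ ≫ k.left := by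
      show a ≫ l ≫ j.left = _
      rw [← Category.assoc]
      exact (congrArg (· ≫ j.left) hl1).trans (congrArg CommaMorphism.left hτ)
    let c := pullback.fst g'.left k.left
    haveI : IsClosedImmersion c := MorphismProperty.pullback_fst _ _ ‹_›
    haveI : IsDominant a := by
      constructor
      refine (PrimeSpectrum.denseRange_comap_iff_ker_le_nilRadical _).2 ?_
      intro y hy
      have : y = 0 := IsFractionRing.injective V L (by rw [map_zero]; exact RingHom.mem_ker.1 hy)
      rw [this]
      exact zero_mem _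
    haveI : IsDominant c := by
      have : pullback.lift a sq.i₁ hlift ≫ c = a := pullback.lift_fst _ _ _
      exact IsDominant.of_comp (pullback.lift a sq.i₁ hlift) c (H := this.symm ▸ inferInstance)
    haveI : Surjective c := ⟨fun y => by
      rw [← Set.mem_range, ← c.isClosedEmbedding.isClosed_range.closure_eq, c.denseRange.closure_range]
      exact Set.mem_univ _⟩
    haveI : IsReduced Y.left := inferInstanceAs (IsReduced (Spec (CommRingCat.of V)))
    haveI : IsIso c := isIso_of_isClosedImmersion_of_surjective c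
    refine ⟨⟨⟨inv c ≫ pullback.snd g'.left k.left, ?_, ?_⟩⟩⟩
    · rw [← cancel_mono k.left]
      show (a ≫ inv c ≫ pullback.snd g'.left k.left) ≫ k.left = sq.i₁ ≫ k.left
      rw [← hlift, Category.assoc, Category.assoc, ← pullback.condition, IsIso.inv_hom_id_assoc]
    · show (inv c ≫ pullback.snd g'.left k.left) ≫ K.hom = sq.i₂
      have e1 : (inv c ≫ pullback.snd g'.left k.left) ≫ K.hom =
          inv c ≫ (pullback.snd g'.left k.left ≫ k.left) ≫ G.hom := by
        simp only [Category.assoc, Over.w k]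
      rw [e1, ← pullback.condition, Category.assoc, IsIso.inv_hom_id_assoc]
      exact Over.w g'
  exact (IsFinite.iff_isProper_and_locallyQuasiFinite K.hom).2 ⟨⟨⟩, inferInstance⟩

end Groth.L25.RedField
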