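import Groth.Agent.L25.RedField.CentralChar
import Groth.Agent.L25.RedField.CentralTorusChar
import Groth.Agent.L25.RedField.Subtorus
import Groth.Agent.L08.NormalQuot.Affine
import Groth.Agent.S5510

/-!
# Semisimple quotients of reductive groups
-/

set_option autoImplicit false
set_option backward.isDefEq.respectTransparency.types false
set_option linter.style.haveILetI false
set_option linter.unusedSectionVars false

universe u

open CategoryTheory CategoryTheory.Limits MonoidalCategory CartesianMonoidalCategory MonObj GrpObj AlgebraicGeometry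
open Groth.L08.Borel

noncomputable section

namespace Groth.L25.RedField

variable {k : Type u} [Field k]

local notation "SK" => Spec (CommRingCat.of k)

/-- **A quotient of a reductive group killing all central tori is semisimple.** -/
theorem isSemisimpleOver_quotient [IsAlgClosed k] {G H : Over SK} [GrpObj G] [GrpObj H]
    (hG : Red.IsReductiveOver k G) [IsAffine H.left] [Smooth H.hom] [ConnectedSpace H.left] (q : G ⟶ H) [IsMonHom q]
    [Surjective q.left]
    (hkill : ∀ (C : Over SK) (_ : GrpObj C) (c : C ⟶ G), IsMonHom c → Mono c → Red.IsTorus C →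
      (∀ (X : Over SK) (x : X ⟶ C) (g : X ⟶ G), (x ≫ c) * g = g * (x ≫ c)) → c ≫ q = 1) :
    Red.IsSemisimpleOver k H := by
  refine isSemisimpleOver_of_no_char (isReductiveOver_of_surjective hG q) fun χ hχ => ?_
  haveI := hχ
  haveI : IsMonHom (q ≫ χ) := inferInstance
  have h1 : q ≫ χ = q ≫ 1 := by
    rw [MonObj.comp_one]
    exact hom_Gm_eq_one_of_centralTori hG (q ≫ χ) fun C _ c hc hcm hC hcen => by
      rw [← Category.assoc, hkill C _ c hc hcm hC hcen, MonObj.one_comp]
  haveI : IsReduced H.left := Groth.Agent.AV.isReduced_of_smooth_field (k := k) H.hom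
  haveI := Groth.L08.AbelianGrp.isSeparated (Red.Gm SK)
  exact Over.OverMorphism.ext (ext_of_isDominant_of_isSeparated (Red.Gm SK).hom (by rw [Over.w, Over.w])
    q.left (congrArg CommaMorphism.left h1))

/-- The greatest central torus of a reductive group over a field. -/
theorem exists_central_torus {G : Over SK} [GrpObj G] (hG : Red.IsReductive G) :
    ∃ (C : Over SK) (_ : GrpObj C) (c : C ⟶ G), IsMonHom c ∧ IsClosedImmersion c.left ∧ Red.IsTorus C ∧
      (∀ (X : Over SK) (x : X ⟶ C) (g : X ⟶ G), (x ≫ c) * g = g * (x ≫ c)) ∧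
      ∀ (s : ↥SK) (T : Over (Spec (CommRingCat.of (AlgebraicClosure ((SK).residueField s))))) [GrpObj T]
        (v : T ⟶ Red.geomFibre s G) [IsMonHom v], Red.IsTorus T →
        (∀ (X : Over (Spec (CommRingCat.of (AlgebraicClosure ((SK).residueField s))))) (x : X ⟶ T)
          (g : X ⟶ Red.geomFibre s G), (x ≫ v) * g = g * (x ≫ v)) →
        ∃ w, w ≫ (Over.pullback (Red.geomPt s)).map c = v := by
  haveI : IsAffineHom G.hom := hG.1
  haveI := hG.2.1
  haveI : IsAffine G.left := isAffine_of_isAffineHom G.hom
  obtain ⟨Z, gZ, z, hz, hzc, hZm⟩ := Groth.Agent.S5510.result G hG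
  haveI := hz.1; haveI := hz.2.1; haveI := hzc
  haveI : IsAffine Z.left := isAffine_of_isAffineHom z.left
  haveI : LocallyOfFiniteType Z.hom := by rw [← Over.w z]; infer_instance
  obtain ⟨C, gC, j, hj, hjc, hC, huniv⟩ := exists_greatest_subtorus hZm
  haveI := hj; haveI := hjc
  refine ⟨C, gC, j ≫ z, inferInstance, inferInstanceAs (IsClosedImmersion (j.left ≫ z.left)), hC, fun X x g => ?_,
    fun s T _ v _ hT hv => ?_⟩
  · have := (hz.2.2 X ((x ≫ j) ≫ z)).1 ⟨x ≫ j, rfl⟩ X (𝟙 _) g
    simpa only [Category.id_comp, Category.comp_id, Category.assoc] using this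
  · have hzK := isCentralizerOf_bc (Red.geomPt s) hz
    rw [CategoryTheory.Functor.map_id] at hzK
    haveI := hzK.1; haveI := hzK.2.1
    obtain ⟨v', hv'⟩ := (hzK.2.2 T v).2 fun X' x g => by
      rw [Category.comp_id]
      exact hv X' x g
    haveI : IsMonHom v' := isMonHom_of_comp_mono v' _ v hv'
    obtain ⟨w, hw⟩ := huniv s T v' hT
    exact ⟨w, by rw [Functor.map_comp, reassoc_of% hw, hv']⟩

/-- **A quotient of a reductive group over a field killing a greatest central torus is semisimple.** -/
theorem isSemisimple_quotient {G G' C : Over SK} [GrpObj G] [GrpObj G'] [GrpObj C] (hG : Red.IsReductive G)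
    [Smooth G'.hom] (q : G ⟶ G') [IsMonHom q] [Surjective q.left] (c : C ⟶ G) (hcq : c ≫ q = 1)
    (huniv : ∀ (s : ↥SK) (T : Over (Spec (CommRingCat.of (AlgebraicClosure ((SK).residueField s))))) [GrpObj T]
        (v : T ⟶ Red.geomFibre s G) [IsMonHom v], Red.IsTorus T →
        (∀ (X : Over (Spec (CommRingCat.of (AlgebraicClosure ((SK).residueField s))))) (x : X ⟶ T)
          (g : X ⟶ Red.geomFibre s G), (x ≫ v) * g = g * (x ≫ v)) →
        ∃ w, w ≫ (Over.pullback (Red.geomPt s)).map c = v) :
    Red.IsSemisimple G' := by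
  haveI : IsAffineHom G.hom := hG.1
  haveI := hG.2.1
  haveI : IsAffine G.left := isAffine_of_isAffineHom G.hom
  haveI : IsAffine G'.left := Groth.L08.NormalQuot.isAffine_of_surjective_hom q
  refine ⟨inferInstance, inferInstance, fun s => ?_⟩
  have hs := hG.2.2 s
  haveI := hs.2.2.1
  haveI : IsMonHom ((Over.pullback (Red.geomPt s)).map q) := Groth.L25.MonoClosed.isMonHom_pullbackMap _ _
  haveI := surjective_map (Red.geomPt s) q
  haveI := isAffine_bc (Red.geomPt s) G'
  haveI := smooth_bc (Red.geomPt s) G'
  haveI : ConnectedSpace (Red.geomFibre s G').left :=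
    ((Over.pullback (Red.geomPt s)).map q).left.surjective.connectedSpace
      ((Over.pullback (Red.geomPt s)).map q).left.continuous
  refine isSemisimpleOver_quotient hs ((Over.pullback (Red.geomPt s)).map q) fun T _ v hv _ hT hcen => ?_
  haveI := hv
  obtain ⟨w, rfl⟩ := huniv s T v hT hcen
  rw [Category.assoc, ← Functor.map_comp, hcq,
    show (Over.pullback (Red.geomPt s)).map (1 : C ⟶ G') = 1 from
      map_one ((Over.pullback (Red.geomPt s)).homMonoidHom), MonObj.comp_one]

end Groth.L25.RedField
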